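import Cfsg.Agent.CNStruct80.AutFix
import Cfsg.Agent.CNCit80.SzAut
import Cfsg.Agent.CIT.Main
import Cfsg.Agent.PGraphCIT.Almost
import Cfsg.Agent.EPPO42.Simple
import Cfsg.Agent.Lib.RankOne.SzBridge

/-!
# Almost simple CIT-groups
-/

set_option autoImplicit false

namespace Cfsg.Agent.CNStruct80

open Subgroup
open PGraphCIT (IsCIT)

/-- Such a group acts faithfully and admissibly on its simple normal subgroup. -/
theorem exists_admissible {X : Type*} [Group X] [Finite X] (hcit : IsCIT X) (N : Subgroup X)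
    [N.Normal] (hC : centralizer (N : Set X) = ⊥) {P : Type*} [Group P] (e : N ≃* P) :
    ∃ ψ : X →* MulAut P, Admissible ψ.range ∧ ∀ x, ψ x ∈ Cfsg.Inn P ↔ x ∈ N := by
  set ψ : X →* MulAut P :=
    (MulAut.congr e).toMonoidHom.comp (MulAut.conjNormal (H := N)) with hψ
  have happ : ∀ (x : X) (p : P), ψ x p = e (MulAut.conjNormal x (e.symm p)) := fun x p => rfl
  have hfixed : ∀ {x : X} {p : P}, ψ x p = p → Commute x (e.symm p : X) := by
    intro x p h
    rw [happ] at h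
    have h1 := congrArg Subtype.val (e.eq_symm_apply.2 h)
    rw [MulAut.conjNormal_apply] at h1
    exact mul_inv_eq_iff_eq_mul.1 h1
  have hinj : Function.Injective ψ := by
    rw [injective_iff_map_eq_one]
    intro x hx
    rw [← mem_bot, ← hC, mem_centralizer_iff]
    intro n hn
    have := hfixed (x := x) (p := e ⟨n, hn⟩) (by rw [hx]; rfl)
    rw [MulEquiv.symm_apply_apply] at this
    exact this.eq.symm
  have hconj : ∀ n : N, ψ n = MulAut.conj (e n) := fun n => by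
    ext p
    rw [happ, MulAut.conj_apply, show MulAut.conjNormal (n : X) (e.symm p) = n * e.symm p * n⁻¹ from
      Subtype.ext (MulAut.conjNormal_apply (n : X) (e.symm p)), map_mul, map_mul, map_inv,
      MulEquiv.apply_symm_apply]
  refine ⟨ψ, ⟨?_, ?_, ?_⟩, fun x => ⟨?_, fun hx => ⟨e ⟨x, hx⟩, (hconj ⟨x, hx⟩).symm⟩⟩⟩
  · rintro _ ⟨p, rfl⟩
    exact ⟨(e.symm p : X), by rw [hconj, MulEquiv.apply_symm_apply]⟩
  · rintro _ ⟨x, rfl⟩ ⟨t, y, ht, hy, hyo, hxt, hxy⟩
    by_contra hx1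
    have hx : x ≠ 1 := fun h => hx1 (by rw [h, map_one])
    have ht' : orderOf (e.symm t : X) = 2 := by
      rw [orderOf_coe, MulEquiv.orderOf_eq, ht]
    obtain ⟨k, hk⟩ := hcit _ ht' ⟨x, mem_centralizer_singleton_iff.2 (hfixed hxt).eq⟩
    have h1 := hcit.eq_one_of_two_elt (congrArg Subtype.val hk) hx (hfixed hxy)
      (by rw [orderOf_coe, MulEquiv.orderOf_eq]; exact hyo)
    exact hy (by simpa using h1)
  · rintro _ ⟨x, rfl⟩ _ ⟨z, rfl⟩ ho hc hodd
    rw [orderOf_injective ψ hinj] at ho hodd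
    rw [hcit.eq_one ho (hinj ((map_mul ψ x z).trans (hc.eq.trans (map_mul ψ z x).symm))) hodd,
      map_one]
  · rintro ⟨p, hp⟩
    have : x = (e.symm p : X) := hinj (by rw [← hp, hconj, MulEquiv.apply_symm_apply])
    exact this ▸ (e.symm p).2

theorem eq_top_of_le {X : Type*} [Group X] {N : Subgroup X} {P : Type*} [Group P]
    {ψ : X →* MulAut P} (h : ∀ x, ψ x ∈ Cfsg.Inn P ↔ x ∈ N) (hle : ψ.range ≤ Cfsg.Inn P) :
    N = ⊤ :=
  (eq_top_iff' N).2 fun x => (h x).1 (hle ⟨x, rfl⟩)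

/-- The almost simple CIT-groups. -/
theorem almost {X : Type*} [Group X] [Finite X] (hcit : IsCIT X) (N : Subgroup X) [N.Normal]
    [IsSimpleGroup N] (hN : ¬ IsMulCommutative N) (hC : centralizer (N : Set X) = ⊥) :
    N = ⊤ ∨ (N.index = 2 ∧ ∃ (F : Type) (_ : Field F) (_ : Fintype F), Fintype.card F = 9 ∧
      Nonempty (N ≃* Matrix.ProjectiveSpecialLinearGroup (Fin 2) F)) := by
  classical
  have hab : ∃ a b : N, a * b ≠ b * a := by
    by_contra hc
    exact hN ⟨⟨fun a b => by_contra fun e => hc ⟨a, b, e⟩⟩⟩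
  rcases CIT.classify hab (hcit.subgroup N) with
    ⟨F, iF, iT, hq, ⟨e⟩⟩ | ⟨F, iF, iT, hq, ⟨e⟩⟩ | ⟨⟨F, iF, iT, m, hm, hq, ⟨e⟩⟩, -⟩
  · obtain ⟨ψ, hA, hψ⟩ := exists_admissible hcit N hC e
    rcases hq with h9 | ⟨n, hn⟩ | ⟨hp, -⟩
    · refine or_iff_not_imp_left.2 fun hne => ⟨?_, F, iF, iT, h9, ⟨e⟩⟩
      obtain ⟨a, ha⟩ : ∃ a, a ∉ N := by
        by_contra hall
        exact hne ((eq_top_iff' N).2 fun x => by_contra fun h => hall ⟨x, h⟩)
      refine index_eq_two_iff.2 ⟨a, fun b => ?_⟩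
      by_cases hb : b ∈ N
      · exact Or.inr ⟨hb, fun h => ha ((N.mul_mem_cancel_left hb).1 h)⟩
      · refine Or.inl ⟨(hψ _).1 ?_, hb⟩
        rw [map_mul]
        exact mul_mem_inn hA ⟨b, rfl⟩ ⟨a, rfl⟩ (mt (hψ b).1 hb) (mt (hψ a).1 ha)
    · refine Or.inl (eq_top_of_le hψ (le_inn_of_two_pow hA (m := n) ?_ hn))
      by_contra h0
      have := Fintype.one_lt_card (α := F)
      simp only [not_lt, Nat.le_zero] at h0
      rw [hn, h0] at this
      simp at this
    · refine Or.inl (eq_top_of_le hψ (le_inn_of_prime hA hp ?_))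
      have h4 := EPPO42.four_le_card hab e
      by_contra h5
      exact absurd hp (by rw [show Fintype.card F = 4 by omega]; norm_num)
  · obtain ⟨ψ, hA, hψ⟩ := exists_admissible hcit N hC e
    exact Or.inl (eq_top_of_le hψ (le_inn_of_four hq hA))
  · exact Or.inl (CNCit80.eq_top_of_suzuki hcit N hm hq
      (e.trans (RankOne.SzBridge.szEquiv hq hm).symm))

end Cfsg.Agent.CNStruct80
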