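import Cfsg.Agent.AutPSL.Main
import Cfsg.Agent.AutPSL.Centralizer
import Mathlib

/-!
# Groups of automorphisms of `PSL₂(q)` and `PSL₃(4)` fixing no involution-odd element pair

A group of automorphisms which contains the inner ones, in which no involution commutes with an
element of odd order and in which no element fixes both an involution and a nontrivial element of
odd order, is the group of inner automorphisms, or contains it with index two (`q` odd).
-/

set_option autoImplicit false

namespace Cfsg.Agent.CNStruct80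

open Matrix AutPSL

/-- The automorphism fixes an involution and a nontrivial element of odd order. -/
def FixesPair {P : Type*} [Group P] (α : MulAut P) : Prop :=
  ∃ t y : P, orderOf t = 2 ∧ y ≠ 1 ∧ Odd (orderOf y) ∧ α t = t ∧ α y = y

/-- The conditions on a group of automorphisms coming from a CIT-group. -/
structure Admissible {P : Type*} [Group P] (A : Subgroup (MulAut P)) : Prop where
  inn : Cfsg.Inn P ≤ A
  fix : ∀ α ∈ A, FixesPair α → α = 1
  cit : ∀ α ∈ A, ∀ β ∈ A, orderOf α = 2 → Commute α β → Odd (orderOf β) → β = 1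

theorem Admissible.conj {P : Type*} [Group P] {A : Subgroup (MulAut P)} (hA : Admissible A)
    (γ : MulAut P) : Admissible (A.comap (MulAut.conj γ).toMonoidHom) := by
  refine ⟨fun d hd => hA.inn (Subgroup.Normal.conj_mem inferInstance d hd γ), ?_, ?_⟩
  · rintro α hα ⟨t, y, ht, hy, hyo, hαt, hαy⟩
    have h1 : γ * α * γ⁻¹ = 1 := by
      refine hA.fix _ hα ⟨γ t, γ y, by rw [MulEquiv.orderOf_eq, ht],
        fun e => hy (by simpa using e), by rw [MulEquiv.orderOf_eq]; exact hyo, ?_, ?_⟩
      · simp [hαt]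
      · simp [hαy]
    simpa using h1
  · intro α hα β hβ ho hc hodd
    have ho' : ∀ x : MulAut P, orderOf ((MulAut.conj γ).toMonoidHom x) = orderOf x := fun x =>
      orderOf_injective (MulAut.conj γ).toMonoidHom (MulAut.conj γ).injective x
    have h1 := hA.cit _ hα _ hβ ((ho' α).trans ho) (hc.map (MulAut.conj γ).toMonoidHom)
      (by rw [ho']; exact hodd)
    exact (MulAut.conj γ).injective (h1.trans (map_one _).symm)

universe u

variable {F : Type u} [Field F]

section Matrices

variable {n : ℕ}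

theorem orderOf_mk {s : Matrix.SpecialLinearGroup (Fin n) F} {r : ℕ} (hr : r.Prime)
    (hpow : s ^ r ∈ Subgroup.center (Matrix.SpecialLinearGroup (Fin n) F))
    {i j : Fin n} (hij : i ≠ j) (h : (s : Matrix (Fin n) (Fin n) F) i j ≠ 0) :
    orderOf (QuotientGroup.mk s : Matrix.ProjectiveSpecialLinearGroup (Fin n) F) = r := by
  haveI := Fact.mk hr
  refine orderOf_eq_prime ?_ fun e => h ?_
  · rw [← QuotientGroup.mk_pow, QuotientGroup.eq_one_iff]
    exact hpow
  · obtain ⟨c, -, hc⟩ := Matrix.SpecialLinearGroup.mem_center_iff.mp ((QuotientGroup.eq_one_iff s).1 e)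
    rw [← hc]
    simp [Matrix.diagonal_apply_ne _ hij]

theorem map_entries (σ : F ≃+* F) {s : Matrix.SpecialLinearGroup (Fin n) F}
    (h : ∀ i j, σ ((s : Matrix (Fin n) (Fin n) F) i j) = (s : Matrix (Fin n) (Fin n) F) i j) :
    fieldMap σ (rho n F s) = rho n F s := by
  apply Units.ext
  ext i j
  exact h i j

theorem semi_fix {σ : F ≃+* F} {β : MulAut (Matrix.ProjectiveSpecialLinearGroup (Fin n) F)}
    (h : IsSemi 1 σ β) {s : Matrix.SpecialLinearGroup (Fin n) F}
    (hs : ∀ i j, σ ((s : Matrix (Fin n) (Fin n) F) i j) = (s : Matrix (Fin n) (Fin n) F) i j) :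
    β (QuotientGroup.mk s) = QuotientGroup.mk s :=
  h s s (by rw [act_apply, map_entries σ hs]; group)

end Matrices

/-! ### Degree two -/

section Two

/-- An element whose image is an involution. -/
def invMat : Matrix.SpecialLinearGroup (Fin 2) F := ⟨!![0, -1; 1, 0], by simp [Matrix.det_fin_two]⟩

/-- An element whose image has order three. -/
def triMat : Matrix.SpecialLinearGroup (Fin 2) F := ⟨!![0, -1; 1, -1], by simp [Matrix.det_fin_two]⟩

theorem mem_center_of_coe {n : ℕ} {s : Matrix.SpecialLinearGroup (Fin n) F} {c : F}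
    (h : (s : Matrix (Fin n) (Fin n) F) = c • 1) :
    s ∈ Subgroup.center (Matrix.SpecialLinearGroup (Fin n) F) :=
  Subgroup.mem_center_iff.2 fun A => Subtype.ext (by
    rw [Matrix.SpecialLinearGroup.coe_mul, Matrix.SpecialLinearGroup.coe_mul, h, Matrix.smul_mul,
      Matrix.mul_smul, Matrix.one_mul, Matrix.mul_one])

theorem invMat_sq : (invMat : Matrix.SpecialLinearGroup (Fin 2) F) ^ 2 ∈
    Subgroup.center (Matrix.SpecialLinearGroup (Fin 2) F) := by
  refine mem_center_of_coe (c := -1) ?_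
  rw [Matrix.SpecialLinearGroup.coe_pow]
  show (!![0, -1; 1, 0] : Matrix (Fin 2) (Fin 2) F) ^ 2 = _
  rw [pow_two]
  ext i j
  fin_cases i <;> fin_cases j <;> simp [Matrix.mul_apply, Fin.sum_univ_two]

theorem triMat_cube : (triMat : Matrix.SpecialLinearGroup (Fin 2) F) ^ 3 ∈
    Subgroup.center (Matrix.SpecialLinearGroup (Fin 2) F) := by
  refine mem_center_of_coe (c := 1) ?_
  rw [Matrix.SpecialLinearGroup.coe_pow]
  show (!![0, -1; 1, -1] : Matrix (Fin 2) (Fin 2) F) ^ 3 = _
  rw [pow_succ, pow_two]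
  ext i j
  fin_cases i <;> fin_cases j <;> simp [Matrix.mul_apply, Fin.sum_univ_two]

theorem semi_one_fixesPair {σ : F ≃+* F}
    {β : MulAut (Matrix.ProjectiveSpecialLinearGroup (Fin 2) F)} (h : IsSemi 1 σ β) :
    FixesPair β := by
  have hw : orderOf (QuotientGroup.mk (triMat (F := F)) :
      Matrix.ProjectiveSpecialLinearGroup (Fin 2) F) = 3 :=
    orderOf_mk Nat.prime_three triMat_cube (i := 1) (j := 0) (by decide) (by simp [triMat])
  refine ⟨QuotientGroup.mk invMat, QuotientGroup.mk triMat,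
    orderOf_mk Nat.prime_two invMat_sq (i := 1) (j := 0) (by decide) (by simp [invMat]), fun e => ?_,
    by rw [hw]; decide, semi_fix h ?_, semi_fix h ?_⟩
  · rw [e, orderOf_one] at hw
    omega
  · intro i j
    fin_cases i <;> fin_cases j <;> simp [invMat]
  · intro i j
    fin_cases i <;> fin_cases j <;> simp [triMat]

variable [Fintype F]

variable {A : Subgroup (MulAut (Matrix.ProjectiveSpecialLinearGroup (Fin 2) F))}

theorem pgl_mem_inn {n : ℕ} (hn : 2 ≤ n) {g : GL (Fin n) F} (hg : detClass n F g = 1) :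
    pgl n F g ∈ Cfsg.Inn (Matrix.ProjectiveSpecialLinearGroup (Fin n) F) := by
  rw [inn_eq_map hn]
  exact ⟨g, hg, rfl⟩

theorem semi_split {n : ℕ} {g : GL (Fin n) F} {σ : F ≃+* F}
    {β : MulAut (Matrix.ProjectiveSpecialLinearGroup (Fin n) F)} (h : IsSemi g σ β) :
    IsSemi 1 σ ((pgl n F g)⁻¹ * β) := by
  have h1 := Induced.comp (normalises_psl g σ) (isSemi_pgl g⁻¹) h
  rwa [one_mul, fieldMap_one, inv_mul_cancel, map_inv] at h1

theorem mem_inn_of_class_one (hA : Admissible A) {g : GL (Fin 2) F} {σ : F ≃+* F}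
    {α : MulAut (Matrix.ProjectiveSpecialLinearGroup (Fin 2) F)} (hα : α ∈ A) (h : IsSemi g σ α)
    (hg : detClass 2 F g = 1) : α ∈ Cfsg.Inn (Matrix.ProjectiveSpecialLinearGroup (Fin 2) F) := by
  have hin := pgl_mem_inn le_rfl hg
  have h1 := hA.fix _ (mul_mem (inv_mem (hA.inn hin)) hα) (semi_one_fixesPair (semi_split h))
  rwa [← inv_mul_eq_one.1 h1]

theorem exists_semi_two (α : MulAut (Matrix.ProjectiveSpecialLinearGroup (Fin 2) F)) :
    ∃ (g : GL (Fin 2) F) (σ : F ≃+* F), IsSemi g σ α := by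
  obtain ⟨g, σ, β, h, rfl | ⟨h3, -⟩⟩ := exists_semi le_rfl α
  · exact ⟨g, σ, h⟩
  · omega

theorem detClass_eq_one_iff {n : ℕ} {g : GL (Fin n) F} :
    detClass n F g = 1 ↔ ∃ d : Fˣ, d ^ n = Matrix.GeneralLinearGroup.det g :=
  QuotientGroup.eq_one_iff _

theorem det_fieldMap {n : ℕ} (σ : F ≃+* F) (g : GL (Fin n) F) :
    Matrix.GeneralLinearGroup.det (fieldMap σ g) =
      Units.map σ.toRingHom.toMonoidHom (Matrix.GeneralLinearGroup.det g) := by
  apply Units.ext
  rw [Matrix.GeneralLinearGroup.val_det_apply, fieldMap_coe]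
  show (σ.mapMatrix (g : Matrix (Fin n) (Fin n) F)).det = σ _
  rw [← RingEquiv.map_det, Matrix.GeneralLinearGroup.val_det_apply]

/-- Two non-squares of a finite field have a square as product. -/
theorem isSquare_mul_of_not {a b : Fˣ} (ha : ¬ ∃ d, d ^ 2 = a) (hb : ¬ ∃ d, d ^ 2 = b) :
    ∃ d, d ^ 2 = a * b := by
  obtain ⟨g, hg⟩ := IsCyclic.exists_generator (α := Fˣ)
  obtain ⟨i, rfl⟩ := Subgroup.mem_zpowers_iff.1 (hg a)
  obtain ⟨j, rfl⟩ := Subgroup.mem_zpowers_iff.1 (hg b)
  have odd_of : ∀ k : ℤ, (¬ ∃ d, d ^ 2 = g ^ k) → Odd k := fun k hk => by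
    rcases Int.even_or_odd k with ⟨r, hr⟩ | h
    · exact absurd ⟨g ^ r, by rw [hr, pow_two, ← _root_.zpow_add]⟩ hk
    · exact h
  obtain ⟨r, hr⟩ := (odd_of i ha).add_odd (odd_of j hb)
  exact ⟨g ^ r, by rw [← _root_.zpow_add, hr, pow_two, ← _root_.zpow_add]⟩

/-- The inner automorphisms have index at most two. -/
theorem mul_mem_inn (hA : Admissible A) {α β : MulAut (Matrix.ProjectiveSpecialLinearGroup (Fin 2) F)}
    (hα : α ∈ A) (hβ : β ∈ A)
    (hα' : α ∉ Cfsg.Inn (Matrix.ProjectiveSpecialLinearGroup (Fin 2) F))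
    (hβ' : β ∉ Cfsg.Inn (Matrix.ProjectiveSpecialLinearGroup (Fin 2) F)) :
    α * β ∈ Cfsg.Inn (Matrix.ProjectiveSpecialLinearGroup (Fin 2) F) := by
  obtain ⟨g, σ, hg⟩ := exists_semi_two α
  obtain ⟨h, τ, hh⟩ := exists_semi_two β
  refine mem_inn_of_class_one hA (mul_mem hα hβ) (Induced.comp (normalises_psl h τ) hg hh) ?_
  rw [detClass_eq_one_iff, map_mul, det_fieldMap]
  refine isSquare_mul_of_not (fun hd => hα' (mem_inn_of_class_one hA hα hg
    (detClass_eq_one_iff.2 hd))) fun ⟨d, hd⟩ => hβ' (mem_inn_of_class_one hA hβ hh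
    (detClass_eq_one_iff.2 ⟨Units.map σ.symm.toRingHom.toMonoidHom d, ?_⟩))
  rw [← map_pow, hd]
  ext
  simp

/-- In characteristic two nothing is outside the inner automorphisms. -/
theorem le_inn_of_two_pow (hA : Admissible A) {m : ℕ} (hm : 0 < m)
    (hF : Fintype.card F = 2 ^ m) :
    A ≤ Cfsg.Inn (Matrix.ProjectiveSpecialLinearGroup (Fin 2) F) := by
  intro α hα
  obtain ⟨g, σ, hg⟩ := exists_semi_two α
  refine mem_inn_of_class_one hA hα hg (detClass_eq_one_iff.2 ?_)
  obtain ⟨d, hd⟩ := (powCoprime (G := Fˣ) (n := 2) (by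
    rw [card_units_eq (F := F) _ hF]
    refine ((Nat.Prime.coprime_iff_not_dvd Nat.prime_two).2 ?_).symm
    have h2 : 2 ∣ 2 ^ m := dvd_pow_self 2 hm.ne'
    have h1 : 1 ≤ 2 ^ m := Nat.one_le_pow _ _ two_pos
    omega)).surjective (Matrix.GeneralLinearGroup.det g)
  exact ⟨d, hd⟩

/-- `PGL₂(p)` contains an involution commuting with an element of order three. -/
theorem le_inn_of_prime (hA : Admissible A) (hp : (Fintype.card F).Prime)
    (h5 : 5 ≤ Fintype.card F) :
    A ≤ Cfsg.Inn (Matrix.ProjectiveSpecialLinearGroup (Fin 2) F) := by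
  classical
  haveI := Fact.mk hp
  haveI : CharP F (Fintype.card F) := charP_of_card_eq_prime rfl
  have hone : ∀ σ : F ≃+* F, σ = 1 := by
    intro σ
    ext x
    obtain ⟨z, rfl⟩ := (ZMod.castHom_bijective (R := F) rfl).surjective x
    exact RingHom.congr_fun (RingHom.ext_zmod (σ.toRingHom.comp (ZMod.castHom dvd_rfl F))
      (ZMod.castHom dvd_rfl F)) z
  intro α hα
  by_contra hαI
  obtain ⟨g, σ, hg⟩ := exists_semi_two α
  rw [hone σ] at hg
  -- all projectivities lie in `A`
  have hall : ∀ h : GL (Fin 2) F, pgl 2 F h ∈ A := by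
    intro h
    by_cases hh : detClass 2 F h = 1
    · exact hA.inn (pgl_mem_inn le_rfl hh)
    · have h1 : detClass 2 F (h * g) = 1 := by
        rw [detClass_eq_one_iff, map_mul]
        exact isSquare_mul_of_not (fun hd => hh (detClass_eq_one_iff.2 hd))
          fun hd => hαI (mem_inn_of_class_one hA hα hg (detClass_eq_one_iff.2 hd))
      have h2 := mul_mem (hA.inn (pgl_mem_inn le_rfl h1)) (inv_mem hα)
      rwa [eq_pgl hg, map_mul, mul_inv_cancel_right] at h2
  have h23 : (2 : F) ≠ 0 ∧ (3 : F) ≠ 0 := by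
    constructor <;> intro h0
    · have := Nat.le_of_dvd (by norm_num) ((CharP.cast_eq_zero_iff F (Fintype.card F) 2).1
        (by exact_mod_cast h0))
      omega
    · have := Nat.le_of_dvd (by norm_num) ((CharP.cast_eq_zero_iff F (Fintype.card F) 3).1
        (by exact_mod_cast h0))
      omega
  set a : GL (Fin 2) F := Matrix.GeneralLinearGroup.mk'' !![0, -3; 1, 0]
    (by rw [Matrix.det_fin_two, isUnit_iff_ne_zero]; simpa using h23.2) with ha
  set b : GL (Fin 2) F := Matrix.GeneralLinearGroup.mk'' !![1, -3; 1, 1]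
    (by
      rw [Matrix.det_fin_two, isUnit_iff_ne_zero]
      simp only [Matrix.of_apply, Matrix.cons_val', Matrix.cons_val_zero, Matrix.cons_val_one,
        Matrix.cons_val_fin_one, mul_one, neg_mul, sub_neg_eq_add]
      rw [show (1 : F) + 3 = 2 * 2 by ring]
      exact mul_ne_zero h23.1 h23.1) with hb
  have hac : (a : Matrix (Fin 2) (Fin 2) F) = !![0, -3; 1, 0] := rfl
  have hbc : (b : Matrix (Fin 2) (Fin 2) F) = !![1, -3; 1, 1] := rfl
  have hcomm : Commute a b := by
    apply Units.ext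
    rw [Units.val_mul, Units.val_mul, hac, hbc]
    ext i j
    fin_cases i <;> fin_cases j <;> simp [Matrix.mul_apply, Fin.sum_univ_two]
  have hne : ∀ x : GL (Fin 2) F, (x : Matrix (Fin 2) (Fin 2) F) 1 0 ≠ 0 → pgl 2 F x ≠ 1 := by
    intro x hx e
    obtain ⟨c, rfl⟩ := (pgl_eq_one_iff le_rfl).1 e
    rw [scalarGL_coe] at hx
    simp at hx
  have hao : orderOf (pgl 2 F a) = 2 := by
    refine orderOf_eq_prime ?_ (hne a (by simp [hac]))
    rw [← map_pow]
    refine (pgl_eq_one_iff le_rfl).2 ⟨Units.mk0 (-3) (neg_ne_zero.2 h23.2), Units.ext ?_⟩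
    rw [scalarGL_coe, Units.val_pow_eq_pow_val, hac]
    ext i j
    fin_cases i <;> fin_cases j <;> simp [pow_two, Matrix.mul_apply, Fin.sum_univ_two]
  have hbo : orderOf (pgl 2 F b) = 3 := by
    haveI := Fact.mk Nat.prime_three
    refine orderOf_eq_prime ?_ (hne b (by simp [hbc]))
    rw [← map_pow]
    refine (pgl_eq_one_iff le_rfl).2 ⟨Units.mk0 (-(2 * 2 * 2))
      (neg_ne_zero.2 (mul_ne_zero (mul_ne_zero h23.1 h23.1) h23.1)), Units.ext ?_⟩
    rw [scalarGL_coe, Units.val_pow_eq_pow_val, hbc]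
    ext i j
    fin_cases i <;> fin_cases j <;> simp [pow_succ, Matrix.mul_apply, Fin.sum_univ_two] <;> ring
  have := hA.cit _ (hall a) _ (hall b) hao (hcomm.map _) (by rw [hbo]; decide)
  rw [this, orderOf_one] at hbo
  omega

end Two

/-! ### Degree three over the field of four elements -/

section Three

theorem sigma_eq_one [Fintype F] (hF : Fintype.card F = 4) {σ : F ≃+* F} {c : F}
    (h0 : c ≠ 0) (h1 : c ≠ 1) (hσ : σ c = c) : σ = 1 := by
  classical
  have h3 : c ^ 3 = 1 := by simpa [hF] using FiniteField.pow_card_sub_one_eq_one c h0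
  have hcc : c * c ≠ 1 := fun e => h1 (by
    calc c = c * (c * c) := by rw [e, mul_one]
      _ = 1 := by rw [← h3]; ring)
  have hcc' : c * c ≠ c := fun e => h1 (mul_left_cancel₀ h0 (e.trans (mul_one c).symm))
  have huniv : ({0, 1, c, c * c} : Finset F) = Finset.univ :=
    Finset.eq_univ_of_card _ (by
      rw [Finset.card_insert_of_notMem, Finset.card_insert_of_notMem,
        Finset.card_insert_of_notMem, Finset.card_singleton, hF]
      · simpa using Ne.symm hcc'
      · simp [Ne.symm h1, Ne.symm hcc]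
      · simp [Ne.symm h0, h0])
  ext x
  have hx := huniv ▸ Finset.mem_univ x
  simp only [Finset.mem_insert, Finset.mem_singleton] at hx
  rcases hx with rfl | rfl | rfl | rfl <;> simp [hσ]

variable [Fintype F] (hF : Fintype.card F = 4)
include hF

theorem charTwo : (-1 : F) = 1 := by
  have : CharP F 2 := by
    obtain ⟨q, hq⟩ := CharP.exists F
    obtain ⟨m, hqp, hm⟩ := FiniteField.card F q
    have h2 : q ∣ 2 ^ 2 := by norm_num; exact hF ▸ hm ▸ dvd_pow_self q m.ne_zero
    rwa [(Nat.prime_dvd_prime_iff_eq hqp Nat.prime_two).1 (hqp.dvd_of_dvd_pow h2)] at hq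
  exact CharTwo.neg_eq 1

theorem detClass_three {g : GL (Fin 3) F} :
    detClass 3 F g = 1 ↔ Matrix.GeneralLinearGroup.det g = 1 := by
  rw [detClass_eq_one_iff]
  constructor
  · rintro ⟨d, hd⟩
    rw [← hd]
    ext
    simpa [hF] using FiniteField.pow_card_sub_one_eq_one (d : F) d.ne_zero
  · exact fun h => ⟨1, by rw [h, one_pow]⟩

theorem unit_cases (σ : F ≃+* F) {c : Fˣ} (hc : c ≠ 1) :
    Units.map σ.toRingHom.toMonoidHom c = c ∨ Units.map σ.toRingHom.toMonoidHom c = c * c := by
  classical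
  set d := Units.map σ.toRingHom.toMonoidHom c with hd
  have hd1 : d ≠ 1 := fun e => hc (by
    ext
    apply σ.injective
    simpa [hd] using congrArg Units.val e)
  have hcc : c * c ≠ 1 := fun e => hc (by
    have h3 : c * (c * c) = 1 := by
      ext
      have := FiniteField.pow_card_sub_one_eq_one (c : F) c.ne_zero
      rw [hF, show 4 - 1 = 3 from rfl, pow_succ', pow_two] at this
      simpa using this
    rwa [e, mul_one] at h3)
  have hcc' : c * c ≠ c := fun e => hc (mul_eq_left.1 e)
  have huniv : ({1, c, c * c} : Finset Fˣ) = Finset.univ :=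
    Finset.eq_univ_of_card _ (by
      rw [Finset.card_insert_of_notMem, Finset.card_insert_of_notMem, Finset.card_singleton,
        Fintype.card_units, hF]
      · simpa using Ne.symm hcc'
      · simp [Ne.symm hc, Ne.symm hcc])
  have hx := huniv ▸ Finset.mem_univ d
  simp only [Finset.mem_insert, Finset.mem_singleton] at hx
  exact hx.resolve_left hd1

/-- A transposition matrix. -/
def transMat : Matrix.SpecialLinearGroup (Fin 3) F :=
  ⟨!![1, 0, 0; 0, 0, 1; 0, 1, 0], by simp [Matrix.det_fin_three, charTwo hF]⟩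

/-- A three-cycle matrix. -/
def cycMat : Matrix.SpecialLinearGroup (Fin 3) F :=
  ⟨!![0, 0, 1; 1, 0, 0; 0, 1, 0], by simp [Matrix.det_fin_three]⟩

/-- An element of order three in the lower block. -/
def blockMat : Matrix.SpecialLinearGroup (Fin 3) F :=
  ⟨!![1, 0, 0; 0, 0, 1; 0, 1, 1], by simp [Matrix.det_fin_three, charTwo hF]⟩

theorem orderOf_transMat :
    orderOf (QuotientGroup.mk (transMat hF) : Matrix.ProjectiveSpecialLinearGroup (Fin 3) F) = 2 := by
  refine orderOf_mk Nat.prime_two ?_ (i := 1) (j := 2) (by decide) (by simp [transMat])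
  rw [show transMat hF ^ 2 = 1 from ?_]
  · exact one_mem _
  apply Subtype.ext
  rw [Matrix.SpecialLinearGroup.coe_pow]
  show (!![1, 0, 0; 0, 0, 1; 0, 1, 0] : Matrix (Fin 3) (Fin 3) F) ^ 2 = 1
  rw [pow_two]
  ext i j
  fin_cases i <;> fin_cases j <;> simp [Matrix.mul_apply, Fin.sum_univ_three]

theorem orderOf_cycMat :
    orderOf (QuotientGroup.mk (cycMat (F := F)) : Matrix.ProjectiveSpecialLinearGroup (Fin 3) F) = 3 := by
  refine orderOf_mk Nat.prime_three ?_ (i := 1) (j := 0) (by decide) (by simp [cycMat])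
  rw [show (cycMat (F := F)) ^ 3 = 1 from ?_]
  · exact one_mem _
  apply Subtype.ext
  rw [Matrix.SpecialLinearGroup.coe_pow]
  show (!![0, 0, 1; 1, 0, 0; 0, 1, 0] : Matrix (Fin 3) (Fin 3) F) ^ 3 = 1
  rw [pow_succ, pow_two]
  ext i j
  fin_cases i <;> fin_cases j <;> simp [Matrix.mul_apply, Fin.sum_univ_three]

theorem orderOf_blockMat :
    orderOf (QuotientGroup.mk (blockMat hF) : Matrix.ProjectiveSpecialLinearGroup (Fin 3) F) = 3 := by
  refine orderOf_mk Nat.prime_three ?_ (i := 1) (j := 2) (by decide) (by simp [blockMat])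
  rw [show blockMat hF ^ 3 = 1 from ?_]
  · exact one_mem _
  have h2 : (1 : F) + 1 = 0 := by linear_combination -(charTwo hF)
  apply Subtype.ext
  rw [Matrix.SpecialLinearGroup.coe_pow]
  show (!![1, 0, 0; 0, 0, 1; 0, 1, 1] : Matrix (Fin 3) (Fin 3) F) ^ 3 = 1
  rw [pow_succ, pow_two]
  ext i j
  fin_cases i <;> fin_cases j <;> simp [Matrix.mul_apply, Fin.sum_univ_three, h2]

theorem semi_one_fixesPair_three {σ : F ≃+* F}
    {β : MulAut (Matrix.ProjectiveSpecialLinearGroup (Fin 3) F)} (h : IsSemi 1 σ β) :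
    FixesPair β ∧ FixesPair (β * itAut 3 F) := by
  have ht := orderOf_transMat hF
  have hc := orderOf_cycMat hF
  have hne : (QuotientGroup.mk (cycMat (F := F)) : Matrix.ProjectiveSpecialLinearGroup (Fin 3) F) ≠ 1 :=
    fun e => by rw [e, orderOf_one] at hc; omega
  have hst : ∀ i j, σ ((transMat hF : Matrix (Fin 3) (Fin 3) F) i j) =
      (transMat hF : Matrix (Fin 3) (Fin 3) F) i j := by
    intro i j
    fin_cases i <;> fin_cases j <;> simp [transMat]
  have hsc : ∀ i j, σ (((cycMat (F := F)) : Matrix (Fin 3) (Fin 3) F) i j) =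
      ((cycMat (F := F)) : Matrix (Fin 3) (Fin 3) F) i j := by
    intro i j
    fin_cases i <;> fin_cases j <;> simp [cycMat]
  have hit : ∀ s : Matrix.SpecialLinearGroup (Fin 3) F,
      s * Matrix.SpecialLinearGroup.transpose s = 1 → itSL s = s := fun s hs => by
    show Matrix.SpecialLinearGroup.transpose s⁻¹ = s
    rw [inv_eq_of_mul_eq_one_right hs]
    exact Subtype.ext (Matrix.transpose_transpose _)
  have hit_t : itSL (transMat hF) = transMat hF := hit _ (by
    apply Subtype.ext
    show (!![1, 0, 0; 0, 0, 1; 0, 1, 0] : Matrix (Fin 3) (Fin 3) F) *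
      (!![1, 0, 0; 0, 0, 1; 0, 1, 0] : Matrix (Fin 3) (Fin 3) F)ᵀ = 1
    ext i j
    fin_cases i <;> fin_cases j <;> simp [Matrix.mul_apply, Fin.sum_univ_three])
  have hit_c : itSL (cycMat (F := F)) = cycMat := hit _ (by
    apply Subtype.ext
    show (!![0, 0, 1; 1, 0, 0; 0, 1, 0] : Matrix (Fin 3) (Fin 3) F) *
      (!![0, 0, 1; 1, 0, 0; 0, 1, 0] : Matrix (Fin 3) (Fin 3) F)ᵀ = 1
    ext i j
    fin_cases i <;> fin_cases j <;> simp [Matrix.mul_apply, Fin.sum_univ_three])
  refine ⟨⟨_, _, ht, hne, by rw [hc]; decide, semi_fix h hst, semi_fix h hsc⟩,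
    ⟨_, _, ht, hne, by rw [hc]; decide, ?_, ?_⟩⟩
  · rw [MulAut.mul_apply, itAut_mk, hit_t, semi_fix h hst]
  · rw [MulAut.mul_apply, itAut_mk, hit_c, semi_fix h hsc]

variable {A : Subgroup (MulAut (Matrix.ProjectiveSpecialLinearGroup (Fin 3) F))}

theorem no_diag (hA : Admissible A) {g : GL (Fin 3) F} (hα : pgl 3 F g ∈ A) :
    Matrix.GeneralLinearGroup.det g = 1 := by
  by_contra hd
  set D : GL (Fin 3) F := diagGL (by norm_num) (Matrix.GeneralLinearGroup.det g) with hD
  have hdet : Matrix.GeneralLinearGroup.det (D * g⁻¹) = 1 := by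
    rw [map_mul, hD, diagGL_det, map_inv, mul_inv_cancel]
  have hDA : pgl 3 F D ∈ A := by
    have := mul_mem (hA.inn (pgl_mem_inn (by norm_num) ((detClass_three hF).2 hdet))) hα
    rwa [← map_mul, inv_mul_cancel_right] at this
  have hfix : ∀ s : Matrix.SpecialLinearGroup (Fin 3) F,
      (∀ i : Fin 3, i ≠ 0 → (s : Matrix (Fin 3) (Fin 3) F) i 0 = 0 ∧
        (s : Matrix (Fin 3) (Fin 3) F) 0 i = 0) →
      pgl 3 F D (QuotientGroup.mk s) = QuotientGroup.mk s := by
    intro s hs
    refine isSemi_pgl D s s ?_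
    rw [act_apply, fieldMap_one]
    refine eq_mul_inv_of_mul_eq (Units.ext ?_)
    ext i j
    show ((s : Matrix (Fin 3) (Fin 3) F) * (D : Matrix (Fin 3) (Fin 3) F)) i j =
      ((D : Matrix (Fin 3) (Fin 3) F) * (s : Matrix (Fin 3) (Fin 3) F)) i j
    have hDc : (D : Matrix (Fin 3) (Fin 3) F) = Matrix.diagonal (Function.update (fun _ => (1 : F))
        0 (Matrix.GeneralLinearGroup.det g : F)) := rfl
    rw [hDc, Matrix.mul_diagonal, Matrix.diagonal_mul]
    by_cases hi : i = 0
    · subst hi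
      by_cases hj : j = 0
      · subst hj; ring
      · rw [(hs j hj).2]; ring
    · by_cases hj : j = 0
      · subst hj
        rw [(hs i hi).1]; ring
      · rw [Function.update_of_ne hi, Function.update_of_ne hj]; ring
  have hb := orderOf_blockMat hF
  have h1 := hA.fix _ hDA ⟨_, _, orderOf_transMat hF, fun e => by rw [e, orderOf_one] at hb; omega,
    by rw [hb]; decide, hfix (transMat hF) (fun i hi => by fin_cases i <;> simp_all [transMat]),
    hfix (blockMat hF) (fun i hi => by fin_cases i <;> simp_all [blockMat])⟩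
  obtain ⟨c, hc⟩ := (pgl_eq_one_iff (by norm_num)).1 h1
  refine hd ((diagGL_det (n := 3) (by norm_num) _).symm.trans ?_)
  rw [← hD, hc, Matrix.GeneralLinearGroup.det_scalar, Fintype.card_fin]
  ext
  simpa [hF] using FiniteField.pow_card_sub_one_eq_one (c : F) c.ne_zero

theorem mem_inn_three (hA : Admissible A) {g : GL (Fin 3) F} {σ : F ≃+* F}
    {α β : MulAut (Matrix.ProjectiveSpecialLinearGroup (Fin 3) F)} (hα : α ∈ A) (h : IsSemi g σ β)
    (hcase : α = β ∨ α = β * itAut 3 F) (hg : Matrix.GeneralLinearGroup.det g = 1) :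
    α ∈ Cfsg.Inn (Matrix.ProjectiveSpecialLinearGroup (Fin 3) F) := by
  have hin := pgl_mem_inn (n := 3) (by norm_num) ((detClass_three hF).2 hg)
  have hmem := mul_mem (inv_mem (hA.inn hin)) hα
  have h2 := semi_one_fixesPair_three hF (semi_split h)
  have h1 : (pgl 3 F g)⁻¹ * α = 1 := by
    refine hA.fix _ hmem ?_
    rcases hcase with rfl | rfl
    · exact h2.1
    · rw [← mul_assoc]; exact h2.2
  rwa [← inv_mul_eq_one.1 h1]

theorem le_inn_of_four (hA : Admissible A) :
    A ≤ Cfsg.Inn (Matrix.ProjectiveSpecialLinearGroup (Fin 3) F) := by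
  intro α hα
  obtain ⟨g, σ, β, h, hcase⟩ := exists_semi (n := 3) (by norm_num) α
  replace hcase : α = β ∨ α = β * itAut 3 F := hcase.imp_right And.right
  by_cases hg : Matrix.GeneralLinearGroup.det g = 1
  · exact mem_inn_three hF hA hα h hcase hg
  have hg' : (Matrix.GeneralLinearGroup.det g : F) ≠ 1 := fun e => hg (Units.ext e)
  set c := Matrix.GeneralLinearGroup.det g with hc
  have hc3 : c * c * c = 1 := by
    ext
    have := FiniteField.pow_card_sub_one_eq_one (c : F) c.ne_zero
    rw [hF, show 4 - 1 = 3 from rfl, pow_succ, pow_two] at this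
    simpa using this
  -- after a conjugation the determinant becomes trivial
  set D : GL (Fin 3) F := diagGL (by norm_num) c with hD
  have hback : pgl 3 F D * α * (pgl 3 F D)⁻¹ ∈ Cfsg.Inn (Matrix.ProjectiveSpecialLinearGroup (Fin 3) F) →
      α ∈ Cfsg.Inn (Matrix.ProjectiveSpecialLinearGroup (Fin 3) F) := fun hi => by
    have := Subgroup.Normal.conj_mem inferInstance _ hi (pgl 3 F D)⁻¹
    simpa [mul_assoc] using this
  have hmemA : pgl 3 F D * α * (pgl 3 F D)⁻¹ ∈ A.comap (MulAut.conj (pgl 3 F D)⁻¹).toMonoidHom := by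
    show (pgl 3 F D)⁻¹ * (pgl 3 F D * α * (pgl 3 F D)⁻¹) * ((pgl 3 F D)⁻¹)⁻¹ ∈ A
    simpa [mul_assoc] using hα
  rcases hcase with rfl | rfl
  · rcases unit_cases hF σ hg with hσ | hσ
    · have hσ1 := sigma_eq_one hF c.ne_zero hg' (congrArg Units.val hσ)
      subst hσ1
      rw [eq_pgl h] at hα
      exact absurd (no_diag hF hA hα) hg
    · refine hback (mem_inn_three hF (hA.conj _) hmemA
        (g := D * g * fieldMap σ D⁻¹) (σ := σ) (β := pgl 3 F D * α * (pgl 3 F D)⁻¹) ?_ (Or.inl rfl) ?_)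
      · have h1 := Induced.comp (normalises_psl _ _) (isSemi_pgl D) h
        have h2 := Induced.comp (normalises_psl _ _) h1 (isSemi_pgl D⁻¹)
        simpa [fieldMap_one, mul_assoc, map_inv] using h2
      · rw [map_mul, map_mul, det_fieldMap, map_inv, hD, diagGL_det, map_inv, ← hc, hσ,
          mul_inv_cancel]
  · rcases unit_cases hF σ hg with hσ | hσ
    · refine hback (mem_inn_three hF (hA.conj _) hmemA
        (g := D * g * fieldMap σ (itGL D⁻¹)) (σ := σ)
        (β := pgl 3 F D * β * (itAut 3 F * (pgl 3 F D)⁻¹ * itAut 3 F)) ?_ (Or.inr ?_) ?_)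
      · have h1 := Induced.comp (normalises_psl _ _) (isSemi_pgl D) h
        have h2 := Induced.comp (normalises_psl _ _) h1 (isSemi_pgl D⁻¹).it_conj
        simpa [fieldMap_one, mul_assoc, map_inv] using h2
      · simp only [mul_assoc, itAut_mul_self, mul_one]
      · rw [map_mul, map_mul, det_fieldMap, hD, diagGL_det, ← hc]
        have : Matrix.GeneralLinearGroup.det (itGL (diagGL (n := 3) (F := F) (by norm_num) c)⁻¹) = c := by
          apply Units.ext
          rw [Matrix.GeneralLinearGroup.val_det_apply, itGL_coe, inv_inv, Matrix.det_transpose,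
            ← Matrix.GeneralLinearGroup.val_det_apply, diagGL_det]
        rw [this, hσ, hc3]
    · exfalso
      have h2 : IsSemi (g * fieldMap σ (itGL g)) (σ * σ) (β * itAut 3 F * (β * itAut 3 F)) := by
        rw [show β * itAut 3 F * (β * itAut 3 F) = β * (itAut 3 F * β * itAut 3 F) by
          simp [mul_assoc]]
        exact Induced.comp (normalises_psl _ _) h h.it_conj
      have hσσ : σ * σ = 1 := by
        refine sigma_eq_one hF c.ne_zero hg' ?_
        have e1 : σ (c : F) = (c : F) * c := congrArg Units.val hσ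
        show σ (σ (c : F)) = c
        rw [e1, map_mul, e1]
        have e3 : (c : F) * c * c = 1 := congrArg Units.val hc3
        linear_combination (c : F) * e3
      rw [hσσ] at h2
      have hm := mul_mem hα hα
      rw [eq_pgl h2] at hm
      have h3 := no_diag hF hA hm
      rw [map_mul, det_fieldMap, ← hc,
        show Matrix.GeneralLinearGroup.det (itGL g) = c⁻¹ from Units.ext (by
          rw [Matrix.GeneralLinearGroup.val_det_apply, itGL_coe, Matrix.det_transpose,
            ← Matrix.GeneralLinearGroup.val_det_apply, map_inv]),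
        map_inv, hσ, _root_.mul_inv_rev, mul_inv_cancel_left, inv_eq_one] at h3
      exact hg h3

end Three

end Cfsg.Agent.CNStruct80
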