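import Cfsg.Agent.Lib.Suzuki.Sylow
import Mathlib

/-!
# Modules for the Suzuki group on which elements of odd order act fixed-point-freely

Basic notions. A module is a homomorphism into the additive endomorphisms of an abelian group.
-/

set_option autoImplicit false

namespace Cfsg.Agent.CNStruct80

open Matrix Cfsg.Agent.Suzuki

/-- Elements of odd order fix no non-zero vector. -/
def Fpf {G W : Type*} [Group G] [AddCommGroup W] (ρ : G →* AddMonoid.End W) : Prop :=
  ∀ g : G, Odd (orderOf g) → g ≠ 1 → ∀ w : W, ρ g w = w → w = 0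

/-- The subgroup is invariant. -/
def Inv {G W : Type*} [Group G] [AddCommGroup W] (ρ : G →* AddMonoid.End W) (A : AddSubgroup W) :
    Prop :=
  ∀ g : G, ∀ w ∈ A, ρ g w ∈ A

/-- No invariant subgroup besides the obvious ones. -/
def Irred {G W : Type*} [Group G] [AddCommGroup W] (ρ : G →* AddMonoid.End W) : Prop :=
  Nontrivial W ∧ ∀ A : AddSubgroup W, Inv ρ A → A = ⊥ ∨ A = ⊤

variable {F : Type*} [Field F] {m : ℕ}

/-- The natural four-dimensional matrix of an element. -/
def natM (g : Cfsg.Sz F m) : Matrix (Fin 4) (Fin 4) F :=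
  (g : Matrix.SpecialLinearGroup (Fin 4) F).1

theorem natM_one : natM (1 : Cfsg.Sz F m) = 1 := rfl

theorem natM_mul (g h : Cfsg.Sz F m) : natM (g * h) = natM g * natM h := rfl

/-- The natural module. -/
def natHom (F : Type*) [Field F] (m : ℕ) : Cfsg.Sz F m →* AddMonoid.End (Fin 4 → F) where
  toFun g := (Matrix.mulVecLin (natM g)).toAddMonoidHom
  map_one' := by
    ext v : 1
    show natM (1 : Cfsg.Sz F m) *ᵥ v = v
    rw [natM_one, Matrix.one_mulVec]
  map_mul' g h := by
    ext v : 1
    show natM (g * h) *ᵥ v = natM g *ᵥ (natM h *ᵥ v)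
    rw [natM_mul, Matrix.mulVec_mulVec]

@[simp]
theorem natHom_apply (g : Cfsg.Sz F m) (v : Fin 4 → F) : natHom F m g v = natM g *ᵥ v := rfl

section
variable [Fintype F] (hF : Fintype.card F = 2 ^ (2 * m + 1))
include hF

theorem natM_U (a b : F) : natM (U hF a b) = umat m a b := rfl

theorem natM_T (k : Fˣ) : natM (T hF k) = Matrix.diagonal
    ![rho m (k : F) * k, rho m (k : F), (rho m (k : F))⁻¹, (rho m (k : F) * k)⁻¹] := rfl

theorem natM_W : natM (W hF) = !![0, 0, 0, 1; 0, 0, 1, 0; 0, 1, 0, 0; 1, 0, 0, 0] := rfl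

end

end Cfsg.Agent.CNStruct80
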