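import Cfsg.Agent.CNStruct80.Basic
import Mathlib

/-!
# Additive maps between vector spaces over a field of order `2 ^ n`

Such a map is the sum of its semilinear parts.
-/

set_option autoImplicit false

namespace Cfsg.Agent.CNStruct80

variable {F : Type*} [Field F] [Fintype F] {U W : Type*} [AddCommGroup U] [Module F U]
  [AddCommGroup W] [Module F W]

/-- The part of `f` which is semilinear for the `r`-th power of Frobenius. -/
def part (r : ℕ) (f : U →+ W) : U →+ W where
  toFun v := ∑ l : F, (l⁻¹) ^ 2 ^ r • f (l • v)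
  map_zero' := by simp
  map_add' u v := by simp [smul_add, map_add, Finset.sum_add_distrib]

theorem part_apply (r : ℕ) (f : U →+ W) (v : U) :
    part (F := F) r f v = ∑ l : F, (l⁻¹) ^ 2 ^ r • f (l • v) := rfl

theorem part_smul (r : ℕ) (f : U →+ W) (c : F) (v : U) :
    part (F := F) r f (c • v) = c ^ 2 ^ r • part (F := F) r f v := by
  rcases eq_or_ne c 0 with rfl | hc
  · simp
  simp only [part_apply, Finset.smul_sum, smul_smul]
  refine Fintype.sum_equiv (Equiv.mulRight₀ c hc) _ _ fun l => ?_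
  simp only [Equiv.mulRight₀_apply]
  rw [mul_inv_rev, mul_pow, ← mul_assoc, ← mul_pow, mul_inv_cancel₀ hc, one_pow, one_mul]

theorem part_comp_left (r : ℕ) (f : U →+ W) {Z : Type*} [AddCommGroup Z] [Module F Z] (L : W →ₗ[F] Z) :
    part (F := F) r (L.toAddMonoidHom.comp f) = L.toAddMonoidHom.comp (part (F := F) r f) := by
  ext v
  simp [part_apply, map_sum]

theorem part_comp_right (r : ℕ) (f : U →+ W) {Z : Type*} [AddCommGroup Z] [Module F Z] (L : Z →ₗ[F] U) :
    part (F := F) r (f.comp L.toAddMonoidHom) = (part (F := F) r f).comp L.toAddMonoidHom := by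
  ext v
  simp [part_apply]

theorem part_add (r : ℕ) (f g : U →+ W) : part (F := F) r (f + g) = part (F := F) r f + part (F := F) r g := by
  ext v
  simp [part_apply, smul_add, Finset.sum_add_distrib]

variable {n : ℕ} (hF : Fintype.card F = 2 ^ n)
include hF

theorem trace_sum_sq (hn : 0 < n) (x : F) :
    (∑ r ∈ Finset.range n, x ^ 2 ^ r) * (∑ r ∈ Finset.range n, x ^ 2 ^ r) =
      ∑ r ∈ Finset.range n, x ^ 2 ^ r := by
  have : CharP F 2 := charP_of_card_eq_prime_pow hF
  obtain ⟨k, rfl⟩ : ∃ k, n = k + 1 := ⟨n - 1, by omega⟩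
  rw [← pow_two, sum_pow_char, Finset.sum_congr rfl (fun r _ => by
    show (x ^ 2 ^ r) ^ 2 = x ^ 2 ^ (r + 1)
    rw [← pow_mul, ← pow_succ])]
  conv_rhs => rw [Finset.sum_range_succ']
  rw [Finset.sum_range_succ, ← hF, FiniteField.pow_card, pow_zero, pow_one]

/-- An additive map is the sum of its semilinear parts. -/
theorem sum_part (hn : 0 < n) (f : U →+ W) (v : U) :
    ∑ r ∈ Finset.range n, part (F := F) r f v = f v := by
  classical
  have hbool : ∀ l : F, (∑ r ∈ Finset.range n, (l⁻¹) ^ 2 ^ r) = 0 ∨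
      (∑ r ∈ Finset.range n, (l⁻¹) ^ 2 ^ r) = 1 := fun l => by
    rcases eq_or_ne (∑ r ∈ Finset.range n, (l⁻¹) ^ 2 ^ r) 0 with h | h
    · exact Or.inl h
    · exact Or.inr (mul_left_cancel₀ h ((trace_sum_sq hF hn _).trans (mul_one _).symm))
  simp only [part_apply]
  rw [Finset.sum_comm]
  have h1 : ∀ l : F, ∑ r ∈ Finset.range n, (l⁻¹) ^ 2 ^ r • f (l • v) =
      f ((∑ r ∈ Finset.range n, (l⁻¹) ^ 2 ^ r * l) • v) := by
    intro l
    rw [← Finset.sum_smul, ← Finset.sum_mul]
    rcases hbool l with h | h <;> rw [h] <;> simp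
  simp only [h1, ← map_sum, ← Finset.sum_smul]
  rw [Finset.sum_comm]
  have h2 : ∀ r ∈ Finset.range n, ∑ l : F, (l⁻¹) ^ 2 ^ r * l = if r = 0 then 1 else 0 := by
    intro r hr
    rcases Nat.eq_zero_or_pos r with rfl | hr0
    · rw [if_pos rfl, Fintype.sum_eq_add_sum_compl 0]
      simp only [inv_zero, pow_zero, pow_one, mul_zero, zero_add]
      rw [Finset.sum_congr rfl (g := fun _ => (1 : F)) (fun l hl => inv_mul_cancel₀ (show l ≠ 0 by simpa using hl)),
        Finset.sum_const, Finset.card_compl, hF, Finset.card_singleton, nsmul_one,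
        Nat.cast_sub Nat.one_le_two_pow, Nat.cast_pow, Nat.cast_one]
      have : CharP F 2 := charP_of_card_eq_prime_pow hF
      rw [show ((2 : ℕ) : F) = 0 from CharTwo.two_eq_zero, zero_pow hn.ne']
      exact (zero_sub 1).trans (CharTwo.neg_eq 1)
    · rw [if_neg hr0.ne']
      have he : 1 < 2 ^ r := Nat.one_lt_two_pow hr0.ne'
      have hlt : 2 ^ r - 1 < Fintype.card F - 1 := by
        have : 2 ^ r < 2 ^ n := Nat.pow_lt_pow_right one_lt_two (Finset.mem_range.1 hr)
        rw [hF]; omega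
      rw [← FiniteField.sum_pow_lt_card_sub_one (K := F) _ hlt]
      refine Fintype.sum_equiv (Equiv.inv F) _ _ fun l => ?_
      rcases eq_or_ne l 0 with rfl | hl
      · simp [zero_pow (Nat.sub_ne_zero_of_lt he)]
      · rw [Equiv.inv_apply, ← pow_sub_one_mul (by omega : 2 ^ r ≠ 0), mul_assoc,
          inv_mul_cancel₀ hl, mul_one]
  rw [Finset.sum_congr rfl h2, Finset.sum_ite_eq' (Finset.range n) 0, if_pos (Finset.mem_range.2 hn),
    one_smul]

omit hF in
theorem part_eq_sum {ι : Type*} [Fintype ι] [DecidableEq ι] (r : ℕ) (f : (ι → F) →+ W) (v : ι → F) :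
    part (F := F) r f v = ∑ l, v l ^ 2 ^ r • part (F := F) r f (Pi.single l 1) := by
  conv_lhs => rw [pi_eq_sum_univ' v]
  rw [map_sum]
  exact Finset.sum_congr rfl fun l _ => part_smul r f _ _

end Cfsg.Agent.CNStruct80
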