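import Cfsg.Agent.CNStruct80.Lift
import Cfsg.Agent.Lib.RankOne.SzBridge
import Mathlib

/-!
# A normal 2-subgroup with a Suzuki quotient acting fixed-point-freely is elementary abelian

The facts about modules for the Suzuki group enter as hypotheses.
-/

set_option autoImplicit false

namespace Cfsg.Agent.CNStruct80

open Cfsg.Agent.Suzuki
open scoped IsMulCommutative commutatorElement

universe u

section general

variable {X : Type*} [Group X]

/-- An odd-order power with non-trivial image. -/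
theorem exists_odd_pow {G : Type*} [Group G] [Finite G] {H : Type*} [Group H] (f : G →* H) (x : G)
    (ho : Odd (orderOf (f x))) (hne : f x ≠ 1) : ∃ n : ℕ, Odd (orderOf (x ^ n)) ∧ f (x ^ n) ≠ 1 := by
  obtain ⟨a, k, hk, hn⟩ := Nat.exists_eq_two_pow_mul_odd (orderOf_pos x).ne'
  refine ⟨2 ^ a, ?_, fun h => hne ?_⟩
  · rw [orderOf_pow_of_dvd (pow_ne_zero _ two_ne_zero) (Dvd.intro k hn.symm), hn,
      Nat.mul_div_cancel_left _ (Nat.two_pow_pos a)]
    exact hk
  · rw [map_pow] at h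
    have hd := orderOf_dvd_of_pow_eq_one h
    exact orderOf_eq_one_iff.1
      (Nat.Coprime.eq_one_of_dvd (Nat.Coprime.pow_right a (Nat.coprime_two_right.2 ho)) hd)

/-- Automorphisms as endomorphisms of the additive group. -/
def autEnd (A : Type*) [CommGroup A] : MulAut A →* AddMonoid.End (Additive A) where
  toFun α := AddMonoidHom.mk' (fun a => Additive.ofMul (α a.toMul)) fun a b => by simp
  map_one' := rfl
  map_mul' _ _ := rfl

section sub

variable {W : Type*} [AddCommGroup W] (ρ : X →* AddMonoid.End W) (A : AddSubgroup W) (hA : Inv ρ A)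

/-- The submodule. -/
def subMod : X →* AddMonoid.End A where
  toFun g := AddMonoidHom.mk' (fun a => (⟨ρ g a.1, hA g a.1 a.2⟩ : A))
    fun a b => Subtype.ext (map_add (ρ g) a.1 b.1)
  map_one' := by
    ext a
    show ρ 1 (a : W) = a
    rw [map_one]; rfl
  map_mul' g h := by
    ext a
    show ρ (g * h) (a : W) = ρ g (ρ h a)
    rw [map_mul]; rfl

theorem subMod_apply (g : X) (a : A) : ((subMod ρ A hA g a : A) : W) = ρ g a := rfl

theorem subMod_fpf (hf : Fpf ρ) : Fpf (subMod ρ A hA) := fun g ho hg a ha =>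
  Subtype.ext (hf g ho hg a (congrArg Subtype.val ha))

/-- The quotient module. -/
def quotMod : X →* AddMonoid.End (W ⧸ A) where
  toFun g := QuotientAddGroup.map A A (ρ g) (hA g)
  map_one' := by
    refine AddMonoidHom.ext fun w => ?_
    induction w using QuotientAddGroup.induction_on with
    | H w => show (QuotientAddGroup.mk (ρ 1 w) : W ⧸ A) = _; rw [map_one]; rfl
  map_mul' g h := by
    refine AddMonoidHom.ext fun w => ?_
    induction w using QuotientAddGroup.induction_on with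
    | H w => show (QuotientAddGroup.mk (ρ (g * h) w) : W ⧸ A) = _; rw [map_mul]; rfl

theorem quotMod_mk (g : X) (w : W) :
    quotMod ρ A hA g (w : W ⧸ A) = ((ρ g w : W) : W ⧸ A) := rfl

theorem quotMod_fpf [Finite W] (hf : Fpf ρ) : Fpf (quotMod ρ A hA) := by
  intro g ho hg q hq
  induction q using QuotientAddGroup.induction_on with
  | H w =>
    rw [quotMod_mk] at hq
    have h0 : ρ g w - w ∈ A := by
      rw [← QuotientAddGroup.eq_zero_iff, QuotientAddGroup.mk_sub, hq, sub_self]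
    have hinj : Function.Injective
        (fun a : A => (⟨ρ g a.1 - a.1, A.sub_mem (hA g a.1 a.2) a.2⟩ : A)) := by
      intro a b hab
      have hab' : ρ g a.1 - a.1 = ρ g b.1 - b.1 := congrArg Subtype.val hab
      refine Subtype.ext (sub_eq_zero.1 (hf g ho hg _ ?_))
      rw [map_sub]
      exact sub_eq_sub_iff_sub_eq_sub.1 hab'
    obtain ⟨a, ha⟩ := (Finite.injective_iff_surjective.1 hinj) ⟨_, h0⟩
    have ha' : ρ g a.1 - a.1 = ρ g w - w := congrArg Subtype.val ha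
    have := hf g ho hg (a.1 - w) (by rw [map_sub]; exact sub_eq_sub_iff_sub_eq_sub.1 ha')
    rw [QuotientAddGroup.eq_zero_iff, ← sub_eq_zero.1 this]
    exact a.2

end sub

section conj

variable {G : Type u} [Group G] (φ : G →* X) (hφ : Function.Surjective φ)
  (A : Subgroup G) [A.Normal] [IsMulCommutative A]
  (hA : ∀ q ∈ φ.ker, ∀ a ∈ A, q * a = a * q)

/-- Conjugation on an abelian normal subgroup centralized by the kernel. -/
noncomputable def conjMod : X →* AddMonoid.End (Additive A) :=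
  (autEnd A).comp (φ.liftOfSurjective hφ ⟨MulAut.conjNormal, fun q hq => by
    refine MulEquiv.ext fun a => Subtype.ext ?_
    show q * (a : G) * q⁻¹ = a
    rw [hA q hq _ a.2, mul_inv_cancel_right]⟩)

theorem conjMod_apply (x : G) (a : Additive A) :
    conjMod φ hφ A hA (φ x) a = Additive.ofMul (MulAut.conjNormal x a.toMul) := by
  have h := MonoidHom.liftOfRightInverse_comp_apply φ (Function.surjInv hφ)
    (Function.rightInverse_surjInv hφ) ⟨MulAut.conjNormal, fun q hq => by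
    refine MulEquiv.ext fun a => Subtype.ext ?_
    show q * (a : G) * q⁻¹ = a
    rw [hA q hq _ a.2, mul_inv_cancel_right]⟩ x
  exact congrArg (fun α : MulAut A => Additive.ofMul (α a.toMul)) h

theorem conjMod_coe (x : G) (a : Additive A) :
    ((conjMod φ hφ A hA (φ x) a).toMul : A).1 = x * (a.toMul : A).1 * x⁻¹ := by
  rw [conjMod_apply]; rfl

theorem conjMod_fpf [Finite G] (hAQ : A ≤ φ.ker)
    (hfpf : ∀ x : G, Odd (orderOf x) → ∀ q ∈ φ.ker, q ≠ 1 → Commute x q → x = 1) :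
    Fpf (conjMod φ hφ A hA) := by
  intro g ho hg a ha
  obtain ⟨x, rfl⟩ := hφ g
  by_contra hne
  have hc : Commute x (a.toMul : A).1 := by
    have h1 := congrArg (fun b : Additive A => (b.toMul : A).1) ha
    simp only [conjMod_coe] at h1
    exact mul_inv_eq_iff_eq_mul.1 h1
  obtain ⟨n, hn, hn1⟩ := exists_odd_pow φ x ho hg
  refine hn1 ?_
  rw [hfpf _ hn _ (hAQ (a.toMul : A).2) (fun h1 => hne ?_) (hc.pow_left n), map_one]
  exact Additive.toMul.injective (Subtype.ext h1)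

end conj

end general

section suzuki

variable {F : Type} [Field F] [Fintype F] {m : ℕ}

/-- The classification of irreducible modules, as a property. -/
def ClassifyProp (F : Type) [Field F] (m : ℕ) : Prop :=
  ∀ {W : Type u} [AddCommGroup W] [Finite W], (∀ w : W, w + w = 0) →
    ∀ ρ : Cfsg.Sz F m →* AddMonoid.End W, Fpf ρ → Irred ρ →
      ∃ e : W ≃+ (Fin 4 → F), ∀ g w, e (ρ g w) = natHom F m g (e w)

/-- Vanishing of invariant biadditive maps, as a property. -/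
def BiaddProp (F : Type) [Field F] (m : ℕ) : Prop :=
  ∀ B : (Fin 4 → F) →+ (Fin 4 → F) →+ (Fin 4 → F),
    (∀ g u v, B (natHom F m g u) (natHom F m g v) = natHom F m g (B u v)) → B = 0

/-- Splitting of self-extensions, as a property. -/
def SectionProp (F : Type) [Field F] (m : ℕ) : Prop :=
  ∀ {W : Type u} [AddCommGroup W] [Finite W], (∀ w : W, w + w = 0) →
    ∀ (ρ : Cfsg.Sz F m →* AddMonoid.End W) (i : (Fin 4 → F) →+ W) (π : W →+ (Fin 4 → F)),
      Function.Injective i → Function.Surjective π → (∀ w, π w = 0 ↔ ∃ v, i v = w) →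
      (∀ g v, i (natHom F m g v) = ρ g (i v)) → (∀ g w, π (ρ g w) = natHom F m g (π w)) →
      ∃ s : (Fin 4 → F) →+ W, (∀ g v, s (natHom F m g v) = ρ g (s v)) ∧ ∀ v, π (s v) = v

omit [Fintype F] in
theorem addCard_quot_lt {W : Type*} [AddCommGroup W] [Finite W] {A : AddSubgroup W} (hA : A ≠ ⊥) :
    Nat.card (W ⧸ A) < Nat.card W := by
  rw [A.card_eq_card_quotient_mul_card_addSubgroup]
  exact lt_mul_of_one_lt_right Nat.card_pos (A.one_lt_card_iff_ne_bot.2 hA)

omit [Fintype F] in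
theorem addCard_sub_lt {W : Type*} [AddCommGroup W] [Finite W] {A : AddSubgroup W} (hA : A ≠ ⊤) :
    Nat.card A < Nat.card W :=
  lt_of_le_of_ne (Nat.card_le_card_of_injective _ Subtype.val_injective) fun h =>
    hA (A.eq_top_of_card_eq h)

omit [Fintype F] in
/-- A module reduces along an invariant subgroup. -/
theorem bilin_step {W : Type u} {W' : Type u} [AddCommGroup W] [AddCommGroup W'] [Finite W]
    (h2 : ∀ w : W, w + w = 0) (ρ : Cfsg.Sz F m →* AddMonoid.End W) (hf : Fpf ρ)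
    (ρ' : Cfsg.Sz F m →* AddMonoid.End W')
    (B : W →+ W' →+ (Fin 4 → F)) (hB : ∀ g a b, B (ρ g a) (ρ' g b) = natHom F m g (B a b))
    (hni : ¬ Irred ρ)
    (ih : ∀ {W₁ : Type u} [AddCommGroup W₁] [Finite W₁], Nat.card W₁ < Nat.card W →
      (∀ w : W₁, w + w = 0) → ∀ ρ₁ : Cfsg.Sz F m →* AddMonoid.End W₁, Fpf ρ₁ →
      ∀ B₁ : W₁ →+ W' →+ (Fin 4 → F),
        (∀ g a b, B₁ (ρ₁ g a) (ρ' g b) = natHom F m g (B₁ a b)) → B₁ = 0) : B = 0 := by
  rcases subsingleton_or_nontrivial W with hW | hW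
  · ext w b : 2
    rw [Subsingleton.elim w 0, map_zero]; rfl
  obtain ⟨A, hA, hAb, hAt⟩ : ∃ A, Inv ρ A ∧ A ≠ ⊥ ∧ A ≠ ⊤ := by
    by_contra h
    push Not at h
    exact hni ⟨hW, fun A hA => or_iff_not_imp_left.2 (h A hA)⟩
  have h0 : B.comp A.subtype = 0 :=
    ih (addCard_sub_lt hAt) (fun w => Subtype.ext (h2 w.1)) (subMod ρ A hA) (subMod_fpf ρ A hA hf) _
      (fun g a b => hB g a b)
  have hker : A ≤ B.ker := fun a ha =>
    AddMonoidHom.mem_ker.2 (DFunLike.congr_fun h0 ⟨a, ha⟩)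
  have h1 : QuotientAddGroup.lift A B hker = 0 := by
    refine ih (addCard_quot_lt hAb) (fun w => ?_) (quotMod ρ A hA) (quotMod_fpf ρ A hA hf) _
      (fun g a b => ?_)
    · induction w using QuotientAddGroup.induction_on with
      | H w => rw [← QuotientAddGroup.mk_add, h2, QuotientAddGroup.mk_zero]
    · induction a using QuotientAddGroup.induction_on with
      | H a => exact hB g a b
  ext w : 1
  exact DFunLike.congr_fun h1 (w : W ⧸ A)

omit [Fintype F] in
theorem bilin_zero (hcl : ClassifyProp.{u} F m) (hbz : BiaddProp F m) (n : ℕ) :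
    ∀ {W W' : Type u} [AddCommGroup W] [AddCommGroup W'] [Finite W] [Finite W'],
      Nat.card W + Nat.card W' = n → (∀ w : W, w + w = 0) → (∀ w : W', w + w = 0) →
      ∀ (ρ : Cfsg.Sz F m →* AddMonoid.End W) (ρ' : Cfsg.Sz F m →* AddMonoid.End W'),
      Fpf ρ → Fpf ρ' → ∀ B : W →+ W' →+ (Fin 4 → F),
      (∀ g a b, B (ρ g a) (ρ' g b) = natHom F m g (B a b)) → B = 0 := by
  induction n using Nat.strong_induction_on with
  | _ n ih =>
  intro W W' _ _ _ _ hn h2 h2' ρ ρ' hf hf' B hB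
  by_cases hi : Irred ρ
  swap
  · exact bilin_step h2 ρ hf ρ' B hB hi fun {W₁} _ _ hlt h21 ρ₁ hf1 B₁ hB₁ =>
      ih _ (by omega) rfl h21 h2' ρ₁ ρ' hf1 hf' B₁ hB₁
  by_cases hi' : Irred ρ'
  swap
  · have h : B.flip = 0 := bilin_step h2' ρ' hf' ρ B.flip (fun g a b => hB g b a) hi'
      fun {W₁} _ _ hlt h21 ρ₁ hf1 B₁ hB₁ =>
        ih _ (by omega) rfl h21 h2 ρ₁ ρ hf1 hf B₁ hB₁
    ext a b : 2
    exact DFunLike.congr_fun (DFunLike.congr_fun h b) a
  obtain ⟨e, he⟩ := hcl h2 ρ hf hi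
  obtain ⟨e', he'⟩ := hcl h2' ρ' hf' hi'
  have hes : ∀ g v, e.symm (natHom F m g v) = ρ g (e.symm v) := fun g v => by
    rw [AddEquiv.symm_apply_eq, he, AddEquiv.apply_symm_apply]
  have hes' : ∀ g v, e'.symm (natHom F m g v) = ρ' g (e'.symm v) := fun g v => by
    rw [AddEquiv.symm_apply_eq, he', AddEquiv.apply_symm_apply]
  have h := hbz (((AddMonoidHom.compl₂ B e'.symm.toAddMonoidHom)).comp e.symm.toAddMonoidHom)
    (fun g u v => by
      show B (e.symm (natHom F m g u)) (e'.symm (natHom F m g v)) = _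
      rw [hes, hes', hB]; rfl)
  ext a b : 2
  have h1 := DFunLike.congr_fun (DFunLike.congr_fun h (e a)) (e' b)
  simpa using h1

variable (hF : Fintype.card F = 2 ^ (2 * m + 1))
include hF

/-- Doubling vanishes. -/
theorem dbl_zero (hm : 1 ≤ m) (hcl : ClassifyProp.{u} F m) (hsec : SectionProp.{u} F m)
    (hirV : Irred (natHom F m)) (n : ℕ) :
    ∀ {R : Type u} [AddCommGroup R] [Finite R], Nat.card R = n →
      ∀ (ρ : Cfsg.Sz F m →* AddMonoid.End R), Fpf ρ →
      ∀ (ι : (Fin 4 → F) →+ R), Function.Injective ι →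
      (∀ g v, ι (natHom F m g v) = ρ g (ι v)) → (∀ x : R, x + x ∈ ι.range) → ∀ x : R, x + x = 0 := by
  induction n using Nat.strong_induction_on with
  | _ n ih =>
  intro R _ _ hn ρ hf ι hι hιq hsq
  classical
  choose p hp using fun x => hsq x
  let π : R →+ (Fin 4 → F) := AddMonoidHom.mk' p fun x y => hι (by
    rw [map_add, hp, hp, hp]; abel)
  have hdbl : ∀ x, ι (π x) = x + x := hp
  have hπq : ∀ g x, π (ρ g x) = natHom F m g (π x) := fun g x => hι (by
    rw [hιq, hdbl, hdbl, map_add])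
  have hinv : Inv (natHom F m) π.range := by
    rintro g _ ⟨x, rfl⟩
    exact ⟨ρ g x, hπq g x⟩
  rcases hirV.2 _ hinv with h | h
  · intro x
    have : π x = 0 := by
      have h1 : π x ∈ π.range := ⟨x, rfl⟩
      rwa [h] at h1
    rw [← hdbl, this, map_zero]
  exfalso
  have hπ : Function.Surjective π := AddMonoidHom.range_eq_top.1 h
  have := charP_two hF
  have hVV : ∀ v : Fin 4 → F, v + v = 0 := fun v => funext fun i => Suzuki.add_self hF (v i)
  have hιker : ι.range ≤ π.ker := by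
    rintro _ ⟨v, rfl⟩
    exact hι (by rw [hdbl, ← map_add, hVV, map_zero])
  have hKinv : Inv ρ π.ker := fun g x hx => by
    rw [AddMonoidHom.mem_ker] at hx ⊢
    rw [hπq, hx, map_zero]
  have hIinv : Inv ρ ι.range := by
    rintro g _ ⟨v, rfl⟩
    exact ⟨natHom F m g v, hιq g v⟩
  by_cases hK : π.ker ≤ ι.range
  · exact no_lift hF hm ρ ι π hι hπ (fun x hx => hK hx) hdbl hιq hπq
  obtain ⟨K2, ⟨hK2i, hK2I, hK2K⟩, hmax⟩ := Set.Finite.exists_maximal
    (Set.toFinite {A : AddSubgroup R | Inv ρ A ∧ ι.range ≤ A ∧ A < π.ker})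
    ⟨ι.range, hIinv, le_rfl, lt_of_le_not_ge hιker hK⟩
  have hW2 : ∀ w : R ⧸ K2, w + w = 0 := fun w => by
    induction w using QuotientAddGroup.induction_on with
    | H w => rw [← QuotientAddGroup.mk_add, QuotientAddGroup.eq_zero_iff]; exact hK2I (hsq w)
  set ρW := quotMod ρ K2 hK2i
  have hfW : Fpf ρW := quotMod_fpf ρ K2 hK2i hf
  let πW : R ⧸ K2 →+ (Fin 4 → F) := QuotientAddGroup.lift K2 π hK2K.le
  let Kb : AddSubgroup (R ⧸ K2) := π.ker.map (QuotientAddGroup.mk' K2)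
  have hKb : Inv ρW Kb := by
    rintro g _ ⟨x, hx, rfl⟩
    exact ⟨ρ g x, hKinv g x hx, rfl⟩
  have hirK : Irred (subMod ρW Kb hKb) := by
    refine ⟨?_, fun S hS => ?_⟩
    · obtain ⟨k, hk, hk2⟩ := SetLike.exists_of_lt hK2K
      exact ⟨⟨⟨_, k, hk, rfl⟩, 0, fun h => hk2
        ((QuotientAddGroup.eq_zero_iff k).1 (congrArg Subtype.val h))⟩⟩
    · let S' : AddSubgroup R := (S.map Kb.subtype).comap (QuotientAddGroup.mk' K2)
      have hS'i : Inv ρ S' := by
        rintro g x ⟨s, hs, hsx⟩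
        refine ⟨subMod ρW Kb hKb g s, hS g s hs, ?_⟩
        show ρW g s.1 = _
        rw [show (s.1 : R ⧸ K2) = x from hsx]; rfl
      have hS'2 : K2 ≤ S' := fun x hx => ⟨0, S.zero_mem, ((QuotientAddGroup.eq_zero_iff x).2 hx).symm⟩
      have hS'K : S' ≤ π.ker := by
        rintro x ⟨s, -, hsx⟩
        obtain ⟨k, hk, hks⟩ := s.2
        have : (k : R ⧸ K2) = x := hks.trans hsx
        exact (congrArg πW this).symm.trans hk
      rcases eq_or_lt_of_le hS'K with hSK | hSK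
      · right
        refine eq_top_iff.2 fun s _ => ?_
        obtain ⟨k, hk, hks⟩ := s.2
        obtain ⟨s', hs', hs'k⟩ := hSK.ge hk
        rwa [show s = s' from Subtype.ext (hks.symm.trans hs'k.symm)]
      · left
        have hle : S' ≤ K2 := hmax ⟨hS'i, hK2I.trans hS'2, hSK⟩ hS'2
        refine eq_bot_iff.2 fun s hs => ?_
        obtain ⟨k, hk, hks⟩ := s.2
        refine AddSubgroup.mem_bot.2 (Subtype.ext ?_)
        rw [← hks]
        exact (QuotientAddGroup.eq_zero_iff k).2 (hle ⟨s, hs, hks.symm⟩)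
  obtain ⟨e, he⟩ := hcl (fun w : Kb => Subtype.ext (hW2 w.1)) (subMod ρW Kb hKb)
    (subMod_fpf ρW Kb hKb hfW) hirK
  have hes : ∀ g v, e.symm (natHom F m g v) = subMod ρW Kb hKb g (e.symm v) := fun g v => by
    rw [AddEquiv.symm_apply_eq, he, AddEquiv.apply_symm_apply]
  have hex : ∀ w, πW w = 0 ↔ ∃ v, Kb.subtype (e.symm v) = w := fun w => by
    constructor
    · intro hw
      induction w using QuotientAddGroup.induction_on with
      | H w => exact ⟨e ⟨_, w, hw, rfl⟩, congrArg Subtype.val (e.symm_apply_apply _)⟩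
    · rintro ⟨v, rfl⟩
      obtain ⟨k, hk, hks⟩ := (e.symm v).2
      show πW (e.symm v).1 = 0
      rw [← hks]; exact hk
  obtain ⟨s, hsq', hs⟩ := hsec hW2 ρW (Kb.subtype.comp e.symm.toAddMonoidHom) πW
    (Subtype.val_injective.comp e.symm.injective)
    (fun v => by obtain ⟨x, hx⟩ := hπ v; exact ⟨x, hx⟩) hex
    (fun g v => congrArg Subtype.val (hes g v))
    (fun g w => by
      induction w using QuotientAddGroup.induction_on with
      | H w => exact hπq g w)
  let C : AddSubgroup R := s.range.comap (QuotientAddGroup.mk' K2)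
  have hC : Inv ρ C := by
    rintro g x ⟨v, hv⟩
    refine ⟨natHom F m g v, ?_⟩
    rw [hsq', hv]; rfl
  have hCtop : C ≠ ⊤ := fun hC1 => by
    obtain ⟨k, hk, hk2⟩ := SetLike.exists_of_lt hK2K
    obtain ⟨v, hv⟩ := (eq_top_iff.1 hC1) (AddSubgroup.mem_top k)
    have hv0 : v = 0 := by
      rw [← hs v, hv]; exact hk
    rw [hv0, map_zero] at hv
    exact hk2 ((QuotientAddGroup.eq_zero_iff k).1 hv.symm)
  have hιC : ∀ v, ι v ∈ C := fun v =>
    ⟨0, by rw [map_zero]; exact ((QuotientAddGroup.eq_zero_iff _).2 (hK2I ⟨v, rfl⟩)).symm⟩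
  have hz := ih _ (hn ▸ addCard_sub_lt hCtop) rfl (subMod ρ C hC) (subMod_fpf ρ C hC hf)
    (ι.codRestrict C hιC) (fun a b hab => hι (congrArg Subtype.val hab))
    (fun g v => Subtype.ext (hιq g v))
    (fun x => ⟨π x.1, Subtype.ext (hdbl x.1)⟩)
  obtain ⟨v, hv⟩ := @exists_ne (Fin 4 → F) hirV.1 0
  obtain ⟨c, hc⟩ := QuotientAddGroup.mk_surjective (s v)
  have hπc : π c = v := by
    rw [← hs v, ← hc]; rfl
  apply hv
  refine hι ?_
  rw [← hπc, hdbl, map_zero]
  exact congrArg Subtype.val (hz ⟨c, ⟨v, hc.symm⟩⟩)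

/-- The main induction. -/
theorem elementary_of_hom (hm : 1 ≤ m) (hcl : ClassifyProp.{u} F m) (hbz : BiaddProp F m)
    (hsec : SectionProp.{u} F m) (n : ℕ) :
    ∀ {G : Type u} [Group G] [Finite G], Nat.card G = n →
      ∀ (φ : G →* Cfsg.Sz F m), Function.Surjective φ → IsPGroup 2 φ.ker →
      (∀ x : G, Odd (orderOf x) → ∀ q ∈ φ.ker, q ≠ 1 → Commute x q → x = 1) →
      (∀ a ∈ φ.ker, ∀ b ∈ φ.ker, a * b = b * a) ∧ ∀ a ∈ φ.ker, a * a = 1 := by
  induction n using Nat.strong_induction_on with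
  | _ n ih =>
  intro G _ _ hn φ hφ hQ hfpf
  classical
  by_cases hbot : φ.ker = ⊥
  · simp [hbot]
  have : Fact (Nat.Prime 2) := ⟨Nat.prime_two⟩
  -- the central elements of order two
  let Ω : Subgroup G :=
    { carrier := {z | z ∈ φ.ker ∧ (∀ q ∈ φ.ker, q * z = z * q) ∧ z * z = 1}
      one_mem' := ⟨one_mem _, fun q _ => by simp, by simp⟩
      mul_mem' := by
        rintro a b ⟨ha, ha1, ha2⟩ ⟨hb, hb1, hb2⟩
        refine ⟨mul_mem ha hb, fun q hq => ((Commute.mul_right (ha1 q hq) (hb1 q hq))), ?_⟩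
        calc a * b * (a * b) = a * (b * a) * b := by group
          _ = a * (a * b) * b := by rw [ha1 b hb]
          _ = (a * a) * (b * b) := by group
          _ = 1 := by rw [ha2, hb2, mul_one]
      inv_mem' := by
        rintro a ⟨ha, ha1, ha2⟩
        rw [inv_eq_of_mul_eq_one_right ha2]
        exact ⟨ha, ha1, ha2⟩ }
  have hΩn : Ω.Normal := ⟨fun z hz x => by
    obtain ⟨hz1, hz2, hz3⟩ := hz
    refine ⟨(MonoidHom.normal_ker φ).conj_mem z hz1 x, fun q hq => ?_, by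
      calc x * z * x⁻¹ * (x * z * x⁻¹) = x * (z * z) * x⁻¹ := by group
        _ = 1 := by rw [hz3, mul_one, mul_inv_cancel]⟩
    have h := hz2 _ ((MonoidHom.normal_ker φ).conj_mem q hq x⁻¹)
    calc q * (x * z * x⁻¹) = x * ((x⁻¹ * q * x⁻¹⁻¹) * z) * x⁻¹ := by group
      _ = x * (z * (x⁻¹ * q * x⁻¹⁻¹)) * x⁻¹ := by rw [h]
      _ = x * z * x⁻¹ * q := by group⟩
  have hΩb : Ω ≠ ⊥ := by
    have : Nontrivial φ.ker := (Subgroup.nontrivial_iff_ne_bot _).2 hbot
    obtain ⟨k, hk, hcard⟩ := (hQ.to_subgroup (Subgroup.center φ.ker)).nontrivial_iff_card.1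
      hQ.center_nontrivial
    obtain ⟨z, hz⟩ := exists_prime_orderOf_dvd_card' (G := Subgroup.center φ.ker) 2
      (hcard ▸ dvd_pow_self 2 hk.ne')
    intro h
    have hz2 : z * z = 1 := by rw [← pow_two, ← hz, pow_orderOf_eq_one]
    have hzΩ : (z.1.1 : G) ∈ Ω := ⟨z.1.2,
      fun q hq => congrArg Subtype.val (Subgroup.mem_center_iff.1 z.2 ⟨q, hq⟩),
      congrArg (fun t : Subgroup.center φ.ker => t.1.1) hz2⟩
    rw [h] at hzΩ
    have : z = 1 := Subtype.ext (Subtype.ext (Subgroup.mem_bot.1 hzΩ))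
    rw [this, orderOf_one] at hz
    omega
  obtain ⟨Z, ⟨hZn, hZb, hZΩ⟩, hmin⟩ := Set.Finite.exists_minimal
    (Set.toFinite {Z : Subgroup G | Z.Normal ∧ Z ≠ ⊥ ∧ Z ≤ Ω}) ⟨Ω, hΩn, hΩb, le_rfl⟩
  have hZQ : Z ≤ φ.ker := fun z hz => (hZΩ hz).1
  have hZc : ∀ q ∈ φ.ker, ∀ z ∈ Z, q * z = z * q := fun q hq z hz => (hZΩ hz).2.1 q hq
  have hZcomm : IsMulCommutative Z := ⟨⟨fun a b => Subtype.ext (hZc _ (hZQ a.2) _ b.2)⟩⟩
  set ρZ := conjMod φ hφ Z hZc
  have hfZ : Fpf ρZ := conjMod_fpf φ hφ Z hZc hZQ hfpf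
  have hZ2 : ∀ z : Additive Z, z + z = 0 := fun z =>
    Additive.toMul.injective (Subtype.ext (hZΩ (z.toMul : Z).2).2.2)
  have hirZ : Irred ρZ := by
    refine ⟨?_, fun S hS => ?_⟩
    · have := (Subgroup.nontrivial_iff_ne_bot Z).2 hZb
      exact inferInstance
    · let S' : Subgroup G := (AddSubgroup.toSubgroup' S).map Z.subtype
      have hS'n : S'.Normal := ⟨by
        rintro _ ⟨s, hs, rfl⟩ x
        refine ⟨(ρZ (φ x) (Additive.ofMul s)).toMul, hS (φ x) _ hs, ?_⟩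
        exact conjMod_coe φ hφ Z hZc x (Additive.ofMul s)⟩
      have hS'le : S' ≤ Z := Subgroup.map_subtype_le _
      by_cases hS' : S' = ⊥
      · left
        refine eq_bot_iff.2 fun s hs => ?_
        have : ((s.toMul : Z) : G) ∈ S' := ⟨s.toMul, hs, rfl⟩
        rw [hS', Subgroup.mem_bot] at this
        exact Additive.toMul.injective (Subtype.ext this)
      · right
        refine eq_top_iff.2 fun s _ => ?_
        obtain ⟨t, ht, hts⟩ := hmin ⟨hS'n, hS', hS'le.trans hZΩ⟩ hS'le (s.toMul : Z).2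
        rwa [show s = Additive.ofMul t from Additive.toMul.injective (Subtype.ext hts.symm)]
  obtain ⟨eZ, heZ⟩ := hcl hZ2 ρZ hfZ hirZ
  have heZs : ∀ g v, eZ.symm (natHom F m g v) = ρZ g (eZ.symm v) := fun g v => by
    rw [AddEquiv.symm_apply_eq, heZ, AddEquiv.apply_symm_apply]
  -- the quotient
  let φ' : G ⧸ Z →* Cfsg.Sz F m := QuotientGroup.lift Z φ hZQ
  have hφ' : Function.Surjective φ' := fun y => by obtain ⟨x, hx⟩ := hφ y; exact ⟨x, hx⟩
  have hker' : φ'.ker = φ.ker.map (QuotientGroup.mk' Z) := QuotientGroup.ker_lift Z φ hZQ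
  have hQ' : IsPGroup 2 φ'.ker := hker' ▸ hQ.map _
  have hfpf' : ∀ x : G ⧸ Z, Odd (orderOf x) → ∀ q ∈ φ'.ker, q ≠ 1 → Commute x q → x = 1 := by
    intro x' ho q' hq' hne hc
    by_contra hx'
    obtain ⟨x₀, rfl⟩ := QuotientGroup.mk'_surjective Z x'
    obtain ⟨k, hk, hk1⟩ := exists_odd_pow (QuotientGroup.mk' Z) x₀ ho hx'
    set x := x₀ ^ k
    have hx1 : x ≠ 1 := fun h => hk1 (by rw [h, map_one])
    have hc' : Commute (QuotientGroup.mk' Z x) q' := by rw [map_pow]; exact hc.pow_left k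
    rw [hker'] at hq'
    obtain ⟨q, hq, rfl⟩ := hq'
    have hcZ : q⁻¹ * x * q * x⁻¹ ∈ Z := by
      rw [← QuotientGroup.eq_one_iff]
      have : ((x : G ⧸ Z)) * (q : G ⧸ Z) = (q : G ⧸ Z) * x := hc'.eq
      simp only [QuotientGroup.mk_mul, QuotientGroup.mk_inv, mul_assoc]
      rw [← mul_assoc (x : G ⧸ Z), this]
      group
    have hinj : Function.Injective (fun z : Z => (z * (MulAut.conjNormal x z)⁻¹ : Z)) := by
      intro a b hab
      have h1 : MulAut.conjNormal x (a⁻¹ * b) = a⁻¹ * b := by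
        simp only at hab
        rw [map_mul, map_inv, eq_inv_mul_of_mul_eq hab, mul_assoc, inv_mul_cancel_right]
      by_contra hab'
      refine hx1 (hfpf x hk (a⁻¹ * b : Z) (hZQ (SetLike.coe_mem _)) (fun h => hab' ?_) ?_)
      · exact inv_mul_eq_one.1 (Subtype.ext h)
      · have h2 := congrArg Subtype.val h1
        rw [MulAut.conjNormal_apply] at h2
        exact mul_inv_eq_iff_eq_mul.1 h2
    obtain ⟨z, hz⟩ := (Finite.injective_iff_surjective.1 hinj) ⟨_, hcZ⟩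
    have hz' : (z : G) * (x * z * x⁻¹)⁻¹ = q⁻¹ * x * q * x⁻¹ := congrArg Subtype.val hz
    refine hx1 (hfpf x hk (q * z) (mul_mem hq (hZQ z.2)) (fun h => hne ?_) ?_)
    · rw [show QuotientGroup.mk' Z q = QuotientGroup.mk' Z (q * z) * (QuotientGroup.mk' Z z)⁻¹ by
        simp, h, map_one, one_mul, inv_eq_one]
      exact (QuotientGroup.eq_one_iff _).2 z.2
    · have : (z : G) = q⁻¹ * x * q * z * x⁻¹ := by
        calc (z : G) = (z * (x * z * x⁻¹)⁻¹) * (x * z * x⁻¹) := by group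
          _ = q⁻¹ * x * q * x⁻¹ * (x * z * x⁻¹) := by rw [hz']
          _ = q⁻¹ * x * q * z * x⁻¹ := by group
      show x * (q * z) = q * z * x
      conv_rhs => rw [this]
      group
  have hlt : Nat.card (G ⧸ Z) < n := by
    rw [← hn, Z.card_eq_card_quotient_mul_card_subgroup]
    exact lt_mul_of_one_lt_right Nat.card_pos (Z.one_lt_card_iff_ne_bot.2 hZb)
  obtain ⟨hc1, hs1⟩ := ih _ hlt rfl φ' hφ' hQ' hfpf'
  have hmem' : ∀ a ∈ φ.ker, (a : G ⧸ Z) ∈ φ'.ker := fun a ha => hker' ▸ ⟨a, ha, rfl⟩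
  have hcommZ : ∀ a ∈ φ.ker, ∀ b ∈ φ.ker, ⁅a, b⁆ ∈ Z := fun a ha b hb => by
    rw [← QuotientGroup.eq_one_iff]
    exact (map_commutatorElement (QuotientGroup.mk' Z) a b).trans
      (commutatorElement_eq_one_iff_mul_comm.2 (hc1 _ (hmem' a ha) _ (hmem' b hb)))
  -- (a) the kernel is abelian
  have hab : ∀ a ∈ φ.ker, ∀ b ∈ φ.ker, a * b = b * a := by
    have : IsMulCommutative φ'.ker := ⟨⟨fun a b => Subtype.ext (hc1 _ a.2 _ b.2)⟩⟩
    have hW2 : ∀ w : Additive φ'.ker, w + w = 0 := fun w =>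
      Additive.toMul.injective (Subtype.ext (hs1 _ (w.toMul : φ'.ker).2))
    set ρW := conjMod φ' hφ' φ'.ker hc1
    have hfW : Fpf ρW := conjMod_fpf φ' hφ' _ hc1 le_rfl hfpf'
    have hrep : ∀ w : Additive φ'.ker, ∃ a, a ∈ φ.ker ∧ (a : G ⧸ Z) = (w.toMul : φ'.ker).1 :=
      fun w => by
        obtain ⟨a, ha, hae⟩ := Subgroup.mem_map.1 (hker'.le (w.toMul : φ'.ker).2)
        exact ⟨a, ha, hae⟩
    choose r hr hr' using hrep
    have hsame : ∀ a b : G, (a : G ⧸ Z) = b → ∃ z ∈ Z, a = b * z := fun a b h =>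
      ⟨b⁻¹ * a, QuotientGroup.eq.1 h.symm, by group⟩
    have hl : ∀ a ∈ φ.ker, ∀ b ∈ φ.ker, ∀ z ∈ Z, ⁅a * z, b⁆ = ⁅a, b⁆ := fun a ha b hb z hz => by
      simp only [commutatorElement_def, mul_inv_rev]
      calc a * z * b * (z⁻¹ * a⁻¹) * b⁻¹ = a * (z * b) * z⁻¹ * a⁻¹ * b⁻¹ := by group
        _ = a * (b * z) * z⁻¹ * a⁻¹ * b⁻¹ := by rw [hZc b hb z hz]
        _ = a * b * a⁻¹ * b⁻¹ := by group
    have hr2 : ∀ a ∈ φ.ker, ∀ b ∈ φ.ker, ∀ z ∈ Z, ⁅a, b * z⁆ = ⁅a, b⁆ := fun a ha b hb z hz => by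
      rw [← commutatorElement_inv, hl b hb a ha z hz, commutatorElement_inv]
    have hmulL : ∀ a ∈ φ.ker, ∀ a' ∈ φ.ker, ∀ b ∈ φ.ker, ⁅a * a', b⁆ = ⁅a, b⁆ * ⁅a', b⁆ :=
      fun a ha a' ha' b hb => by
      calc ⁅a * a', b⁆ = a * ⁅a', b⁆ * a⁻¹ * ⁅a, b⁆ := by
            simp only [commutatorElement_def]; group
        _ = ⁅a', b⁆ * a * a⁻¹ * ⁅a, b⁆ := by rw [hZc a ha _ (hcommZ a' ha' b hb)]
        _ = ⁅a', b⁆ * ⁅a, b⁆ := by group
        _ = ⁅a, b⁆ * ⁅a', b⁆ := hZc _ (hZQ (hcommZ a' ha' b hb)) _ (hcommZ a ha b hb)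
    have hmulR : ∀ a ∈ φ.ker, ∀ b ∈ φ.ker, ∀ b' ∈ φ.ker, ⁅a, b * b'⁆ = ⁅a, b⁆ * ⁅a, b'⁆ :=
      fun a ha b hb b' hb' => by
      rw [← commutatorElement_inv (b * b') a, hmulL b hb b' hb' a ha, mul_inv_rev,
        commutatorElement_inv, commutatorElement_inv]
      exact hZc _ (hZQ (hcommZ a ha b' hb')) _ (hcommZ a ha b hb)
    let c : Additive φ'.ker → Additive φ'.ker → (Fin 4 → F) := fun w w' =>
      eZ (Additive.ofMul ⟨⁅r w, r w'⁆, hcommZ _ (hr w) _ (hr w')⟩)
    have hcadd : ∀ w₁ w₂ w', c (w₁ + w₂) w' = c w₁ w' + c w₂ w' := fun w₁ w₂ w' => by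
      simp only [c, ← map_add]
      refine congrArg eZ (Additive.toMul.injective (Subtype.ext ?_))
      show ⁅r (w₁ + w₂), r w'⁆ = ⁅r w₁, r w'⁆ * ⁅r w₂, r w'⁆
      obtain ⟨z, hz, he⟩ := hsame (r (w₁ + w₂)) (r w₁ * r w₂) (by
        rw [hr', QuotientGroup.mk_mul, hr', hr']; rfl)
      rw [he, hl _ (mul_mem (hr _) (hr _)) _ (hr w') z hz, hmulL _ (hr _) _ (hr _) _ (hr _)]
    have hcadd' : ∀ w w₁ w₂, c w (w₁ + w₂) = c w w₁ + c w w₂ := fun w w₁ w₂ => by
      simp only [c, ← map_add]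
      refine congrArg eZ (Additive.toMul.injective (Subtype.ext ?_))
      show ⁅r w, r (w₁ + w₂)⁆ = ⁅r w, r w₁⁆ * ⁅r w, r w₂⁆
      obtain ⟨z, hz, he⟩ := hsame (r (w₁ + w₂)) (r w₁ * r w₂) (by
        rw [hr', QuotientGroup.mk_mul, hr', hr']; rfl)
      rw [he, hr2 _ (hr w) _ (mul_mem (hr _) (hr _)) z hz, hmulR _ (hr _) _ (hr _) _ (hr _)]
    let B : Additive φ'.ker →+ Additive φ'.ker →+ (Fin 4 → F) :=
      AddMonoidHom.mk' (fun w => AddMonoidHom.mk' (c w) (hcadd' w))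
        fun w₁ w₂ => AddMonoidHom.ext fun w' => hcadd w₁ w₂ w'
    have hB : ∀ g w w', B (ρW g w) (ρW g w') = natHom F m g (B w w') := by
      intro g w w'
      obtain ⟨x, rfl⟩ := hφ g
      have hx : ∀ v, ∃ z ∈ Z, r (ρW (φ x) v) = x * r v * x⁻¹ * z := fun v => hsame _ _ (by
        rw [hr']
        exact (conjMod_coe φ' hφ' φ'.ker hc1 (x : G ⧸ Z) v).trans (by
          rw [← hr' v]; rfl))
      show c _ _ = natHom F m (φ x) (c w w')
      simp only [c, ← heZ]
      refine congrArg eZ (Additive.toMul.injective (Subtype.ext ?_))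
      refine Eq.trans ?_ (conjMod_coe φ hφ Z hZc x _).symm
      show ⁅r (ρW (φ x) w), r (ρW (φ x) w')⁆ = x * ⁅r w, r w'⁆ * x⁻¹
      obtain ⟨z, hz, he⟩ := hx w
      obtain ⟨z', hz', he'⟩ := hx w'
      have hn := MonoidHom.normal_ker φ
      rw [he, he', hl _ (hn.conj_mem _ (hr w) x) _ (mul_mem (hn.conj_mem _ (hr w') x) (hZQ hz')) z hz,
        hr2 _ (hn.conj_mem _ (hr w) x) _ (hn.conj_mem _ (hr w') x) z' hz']
      simp only [commutatorElement_def]; group
    have hB0 : B = 0 := bilin_zero hcl hbz _ rfl hW2 hW2 ρW ρW hfW hfW B hB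
    intro a ha b hb
    let wa : Additive φ'.ker := Additive.ofMul ⟨_, hmem' a ha⟩
    let wb : Additive φ'.ker := Additive.ofMul ⟨_, hmem' b hb⟩
    have h0 : c wa wb = 0 := DFunLike.congr_fun (DFunLike.congr_fun hB0 wa) wb
    have h1 : ⁅r wa, r wb⁆ = 1 :=
      congrArg (fun t : Additive Z => ((t.toMul : Z) : G)) (eZ.map_eq_zero_iff.1 h0)
    obtain ⟨z, hz, hae⟩ := hsame a (r wa) (hr' wa).symm
    obtain ⟨z', hz', hbe⟩ := hsame b (r wb) (hr' wb).symm
    rw [← commutatorElement_eq_one_iff_mul_comm, hae, hl _ (hr _) _ hb z hz, hbe,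
      hr2 _ (hr _) _ (hr _) z' hz', h1]
  refine ⟨hab, fun a ha => ?_⟩
  -- (b) exponent two
  have : IsMulCommutative φ.ker := ⟨⟨fun a b => Subtype.ext (hab _ a.2 _ b.2)⟩⟩
  set ρQ := conjMod φ hφ φ.ker hab
  let ι : (Fin 4 → F) →+ Additive φ.ker :=
    (MonoidHom.toAdditive (Subgroup.inclusion hZQ)).comp eZ.symm.toAddMonoidHom
  have hirV : Irred (natHom F m) := by
    refine ⟨?_, fun A hA => ?_⟩
    · have := hirZ.1
      exact eZ.symm.toEquiv.nontrivial
    · rcases hirZ.2 (A.comap eZ.toAddMonoidHom) (fun g w hw => by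
        show eZ (ρZ g w) ∈ A
        rw [heZ]; exact hA g _ hw) with h | h
      · left
        refine eq_bot_iff.2 fun v hv => ?_
        have : eZ.symm v ∈ A.comap eZ.toAddMonoidHom := by simpa using hv
        rw [h, AddSubgroup.mem_bot] at this
        simpa using congrArg eZ this
      · right
        refine eq_top_iff.2 fun v _ => ?_
        have : eZ.symm v ∈ A.comap eZ.toAddMonoidHom := by rw [h]; trivial
        simpa using this
  have h := dbl_zero hF hm hcl hsec hirV _ rfl ρQ (conjMod_fpf φ hφ _ hab le_rfl hfpf) ι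
    ((Subgroup.inclusion_injective hZQ).comp eZ.symm.injective)
    (fun g v => by
      obtain ⟨x, rfl⟩ := hφ g
      refine Additive.toMul.injective (Subtype.ext ?_)
      refine Eq.trans ?_ (conjMod_coe φ hφ φ.ker hab x _).symm
      show ((eZ.symm (natHom F m (φ x) v)).toMul : Z).1 = _
      rw [heZs]
      exact conjMod_coe φ hφ Z hZc x _)
    (fun y => by
      have hy : ((y.toMul : φ.ker) : G) * (y.toMul : φ.ker) ∈ Z :=
        (QuotientGroup.eq_one_iff _).1 (hs1 _ (hmem' _ (y.toMul : φ.ker).2))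
      refine ⟨eZ (Additive.ofMul ⟨_, hy⟩), Additive.toMul.injective (Subtype.ext ?_)⟩
      show ((eZ.symm (eZ _)).toMul : Z).1 = _
      rw [AddEquiv.symm_apply_apply]; rfl)
    (Additive.ofMul ⟨a, ha⟩)
  exact congrArg (fun t : Additive φ.ker => ((t.toMul : φ.ker) : G)) h

end suzuki

/-- A normal 2-subgroup with a Suzuki quotient on which odd-order elements act fixed-point-freely is
elementary abelian, given the module facts. -/
theorem suzuki_elementary_of {G : Type u} [Group G] [Finite G] (Q : Subgroup G) [Q.Normal]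
    (hQ : IsPGroup 2 Q) (hX : Cfsg.Lie.IsoSuzuki (G ⧸ Q))
    (hfpf : ∀ x : G, Odd (orderOf x) → ∀ q ∈ Q, q ≠ 1 → Commute x q → x = 1)
    (hfacts : ∀ (F : Type) [Field F] [Fintype F] (m : ℕ), 1 ≤ m →
      Fintype.card F = 2 ^ (2 * m + 1) →
      ClassifyProp.{u} F m ∧ BiaddProp F m ∧ SectionProp.{u} F m) :
    IsMulCommutative Q ∧ ∀ q ∈ Q, q * q = 1 := by
  obtain ⟨F, _, _, m, hm, hF, ⟨e⟩⟩ := hX
  obtain ⟨hcl, hbz, hsec⟩ := hfacts F m hm hF
  let φ : G →* Cfsg.Sz F m :=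
    ((RankOne.SzBridge.szEquiv hF hm).symm.toMonoidHom.comp e.toMonoidHom).comp (QuotientGroup.mk' Q)
  have hk : φ.ker = Q := by
    refine Subgroup.ext fun x => ?_
    simp [φ]
  have hφ : Function.Surjective φ :=
    (((RankOne.SzBridge.szEquiv hF hm).symm.surjective).comp e.surjective).comp
      (QuotientGroup.mk'_surjective Q)
  obtain ⟨h1, h2⟩ := elementary_of_hom hF hm hcl hbz hsec _ rfl φ hφ (hk.symm ▸ hQ) (hk.symm ▸ hfpf)
  rw [hk] at h1 h2
  exact ⟨⟨⟨fun a b => Subtype.ext (h1 _ a.2 _ b.2)⟩⟩, h2⟩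

end Cfsg.Agent.CNStruct80
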