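import Cfsg.Agent.CNStruct80.Column
import Cfsg.Agent.CNStruct80.Semi
import Cfsg.Agent.CNStruct80.Suzuki
import Mathlib

/-!
# Invariant biadditive maps on the natural module of a Suzuki group vanish
-/

set_option autoImplicit false

namespace Cfsg.Agent.CNStruct80

open Matrix Cfsg.Agent.Suzuki

variable {F : Type} [Field F] [Fintype F] {m : ℕ}

/-- The part of a biadditive map which is semilinear in both variables. -/
def part2 (r s : ℕ) (B : (Fin 4 → F) →+ (Fin 4 → F) →+ (Fin 4 → F)) (u : Fin 4 → F) :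
    (Fin 4 → F) →+ (Fin 4 → F) :=
  part (F := F) s (AddMonoidHom.mk' (fun v => part (F := F) r (B.flip v) u) fun v v' => by
    rw [map_add, part_add]; rfl)

theorem part2_smul (r s : ℕ) (B : (Fin 4 → F) →+ (Fin 4 → F) →+ (Fin 4 → F)) (c : F)
    (u v : Fin 4 → F) : part2 r s B (c • u) v = c ^ 2 ^ r • part2 r s B u v := by
  unfold part2
  rw [show (AddMonoidHom.mk' (fun w => part (F := F) r (B.flip w) (c • u)) _ :
      (Fin 4 → F) →+ (Fin 4 → F)) =
    (c ^ 2 ^ r • (LinearMap.id : (Fin 4 → F) →ₗ[F] (Fin 4 → F))).toAddMonoidHom.comp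
      (AddMonoidHom.mk' (fun w => part (F := F) r (B.flip w) u) fun w w' => by
        rw [map_add, part_add]; rfl) from
    AddMonoidHom.ext fun w => part_smul r (B.flip w) c u, part_comp_left]
  rfl

theorem part2_add (r s : ℕ) (B : (Fin 4 → F) →+ (Fin 4 → F) →+ (Fin 4 → F)) (u u' v : Fin 4 → F) :
    part2 r s B (u + u') v = part2 r s B u v + part2 r s B u' v := by
  unfold part2
  rw [← AddMonoidHom.add_apply, ← part_add]
  refine congrArg (fun f => part (F := F) s f v) ?_
  exact AddMonoidHom.ext fun w => map_add (part (F := F) r (B.flip w)) u u'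

theorem part2_smul_right (r s : ℕ) (B : (Fin 4 → F) →+ (Fin 4 → F) →+ (Fin 4 → F)) (c : F)
    (u v : Fin 4 → F) : part2 r s B u (c • v) = c ^ 2 ^ s • part2 r s B u v :=
  part_smul s _ c v

theorem part2_right (r s : ℕ) (B : (Fin 4 → F) →+ (Fin 4 → F) →+ (Fin 4 → F)) (u v : Fin 4 → F) :
    part2 r s B u v = ∑ l, v l ^ 2 ^ s • part2 r s B u (Pi.single l 1) :=
  part_eq_sum s _ v

theorem part2_eq_sum (r s : ℕ) (B : (Fin 4 → F) →+ (Fin 4 → F) →+ (Fin 4 → F)) (u v : Fin 4 → F) :
    part2 r s B u v = ∑ k, ∑ l, (u k ^ 2 ^ r * v l ^ 2 ^ s) •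
      part2 r s B (Pi.single k 1) (Pi.single l 1) := by
  have h : ∀ k, part2 r s B (u k • Pi.single k 1) v = ∑ l, (u k ^ 2 ^ r * v l ^ 2 ^ s) •
      part2 r s B (Pi.single k 1) (Pi.single l 1) := fun k => by
    rw [part2_smul, part2_right r s B _ v, Finset.smul_sum]
    simp only [smul_smul]
  let f : (Fin 4 → F) →+ (Fin 4 → F) :=
    AddMonoidHom.mk' (fun u => part2 r s B u v) fun a b => part2_add r s B a b v
  have hf : f (∑ k, u k • Pi.single k (1 : F)) = ∑ k, f (u k • Pi.single k (1 : F)) := map_sum f _ _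
  rw [← pi_eq_sum_univ' u] at hf
  exact hf.trans (Finset.sum_congr rfl fun k _ => h k)

variable (hF : Fintype.card F = 2 ^ (2 * m + 1))
include hF

omit hF in
theorem part2_equiv (r s : ℕ) (B : (Fin 4 → F) →+ (Fin 4 → F) →+ (Fin 4 → F))
    (hB : ∀ g u v, B (natHom F m g u) (natHom F m g v) = natHom F m g (B u v)) (g : Cfsg.Sz F m)
    (u v : Fin 4 → F) :
    part2 r s B (natHom F m g u) (natHom F m g v) = natHom F m g (part2 r s B u v) := by
  let L : (Fin 4 → F) →ₗ[F] (Fin 4 → F) := Matrix.mulVecLin (natM g)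
  have h1 : ∀ u w, part (F := F) r (B.flip (natHom F m g w)) (natHom F m g u) =
      natHom F m g (part (F := F) r (B.flip w) u) := fun u w => by
    have e : (B.flip (natHom F m g w)).comp L.toAddMonoidHom =
        L.toAddMonoidHom.comp (B.flip w) := AddMonoidHom.ext fun x => hB g x w
    have e' := congrArg (part (F := F) r) e
    rw [part_comp_left, part_comp_right] at e'
    exact DFunLike.congr_fun e' u
  let H : (Fin 4 → F) → ((Fin 4 → F) →+ (Fin 4 → F)) := fun u =>
    AddMonoidHom.mk' (fun w => part (F := F) r (B.flip w) u) fun w w' => by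
      rw [map_add, part_add]; rfl
  have e : (H (natHom F m g u)).comp L.toAddMonoidHom = L.toAddMonoidHom.comp (H u) :=
    AddMonoidHom.ext fun w => h1 u w
  have e' := congrArg (part (F := F) s) e
  rw [part_comp_left, part_comp_right] at e'
  exact DFunLike.congr_fun e' v

theorem part2_ne (r s : Fin (2 * m + 1)) (hrs : r ≠ s)
    (B : (Fin 4 → F) →+ (Fin 4 → F) →+ (Fin 4 → F))
    (hB : ∀ g u v, B (natHom F m g u) (natHom F m g v) = natHom F m g (B u v))
    (k l : Fin 4) : part2 r s B (Pi.single k 1) (Pi.single l 1) = 0 := by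
  classical
  let e : Fin 2 → Fin (2 * m + 1) := ![r, s]
  have he : Function.Injective e := fun a b h => by
    fin_cases a <;> fin_cases b <;> simp_all [e, Ne.symm hrs]
  let Φ : ((Fin 2 → Fin 4) → F) →ₗ[F] (Fin 4 → F) :=
    (Pi.basisFun F (Fin 2 → Fin 4)).constr F fun t =>
      part2 r s B (Pi.single (t 0) 1) (Pi.single (t 1) 1)
  have hΦ : ∀ t, Φ (Pi.single t 1) = part2 r s B (Pi.single (t 0) 1) (Pi.single (t 1) 1) := fun t => by
    rw [← Pi.basisFun_apply]
    exact Module.Basis.constr_basis _ _ _ _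
  have heq : ∀ g, Φ.comp (tHom hF (fun x => (e x : ℕ)) g) = (Matrix.mulVecLin (natM g)).comp Φ := by
    intro g
    refine (Pi.basisFun F (Fin 2 → Fin 4)).ext fun t => ?_
    rw [LinearMap.comp_apply, LinearMap.comp_apply, Pi.basisFun_apply, hΦ,
      pi_eq_sum_univ' (tHom hF (fun x => (e x : ℕ)) g (Pi.single t 1)), map_sum]
    show _ = natHom F m g _
    rw [← part2_equiv r s B hB, part2_eq_sum, ← Fintype.sum_prod_type']
    refine Fintype.sum_equiv (finTwoArrowEquiv (Fin 4)) _ _ fun t' => ?_
    rw [map_smul, hΦ, tHom_single, tMat_apply, Fin.prod_univ_two]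
    simp [e, Matrix.mulVec_single]
  rcases tHom_irred hF e he Φ.ker (fun g w hw => by
    rw [LinearMap.mem_ker] at hw ⊢
    have h := LinearMap.congr_fun (heq g) w
    rw [LinearMap.comp_apply, LinearMap.comp_apply, hw, map_zero] at h
    exact h) with h | h
  · have h1 := LinearMap.finrank_le_finrank_of_injective (LinearMap.ker_eq_bot.1 h)
    simp at h1
  · have h1 : Φ (Pi.single ![k, l] 1) = 0 := LinearMap.mem_ker.1 (h ▸ Submodule.mem_top)
    simpa [hΦ] using h1

theorem part2_eq (hm : 1 ≤ m) (r : ℕ) (B : (Fin 4 → F) →+ (Fin 4 → F) →+ (Fin 4 → F))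
    (hB : ∀ g u v, B (natHom F m g u) (natHom F m g v) = natHom F m g (B u v))
    (k l : Fin 4) : part2 r r B (Pi.single k 1) (Pi.single l 1) = 0 := by
  classical
  set C := part2 r r B with hC
  have hCg : ∀ g u v, C (natHom F m g u) (natHom F m g v) = natHom F m g (C u v) :=
    part2_equiv r r B hB
  have h03 : C (Pi.single 0 1) (Pi.single 3 1) = 0 := by
    obtain ⟨z, hz, hwt⟩ := wt_ne_one hF hm
    let k' : Fˣ := Units.mk0 z hz
    have hT : ∀ i, natHom F m (T hF k') (Pi.single i 1) = wt m i z • Pi.single i (1 : F) := fun i => by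
      rw [natHom_apply, natM_T]
      funext j
      rcases eq_or_ne j i with rfl | hji
      · simp [Matrix.mulVec_diagonal, wt, k']
      · simp [Matrix.mulVec_diagonal, hji]
    have h := hCg (T hF k') (Pi.single 0 1) (Pi.single 3 1)
    rw [hT, hT, hC, part2_smul, part2_smul_right, smul_smul, ← mul_pow] at h
    have hw : wt m 0 z * wt m 3 z = 1 := by
      simp only [wt, Matrix.cons_val]
      exact mul_inv_cancel₀ (mul_ne_zero (rho_ne_zero hz) hz)
    rw [hw, one_pow, one_smul, natHom_apply, natM_T] at h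
    funext i
    have hi := congrFun h i
    rw [Matrix.mulVec_diagonal] at hi
    rw [Pi.zero_apply, hC]
    by_contra hne
    exact hwt i ((mul_eq_right₀ hne).1 hi.symm)
  have hcol : ∀ p : F × F, natHom F m (U hF p.1 p.2) (Pi.single 3 1) = col m p := fun p => by
    rw [natHom_apply, natM_U, col_eq_mulVec]
  have h0 : ∀ j, C (Pi.single 0 1) (Pi.single j 1) = 0 := by
    intro j
    funext i
    refine congrFun (col_indep hF r (fun j => C (Pi.single 0 1) (Pi.single j 1) i) fun p => ?_) j
    have h := hCg (U hF p.1 p.2) (Pi.single 0 1) (Pi.single 3 1)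
    rw [h03, map_zero, hcol, show natHom F m (U hF p.1 p.2) (Pi.single 0 1) = Pi.single 0 (1 : F) by
      rw [natHom_apply, natM_U]
      funext j; fin_cases j <;> simp [umat, Matrix.mulVec_single], hC, part2_right] at h
    have hi := congrFun h i
    rw [Finset.sum_apply] at hi
    rw [hC]
    simpa [mul_comm] using hi
  have h0v : ∀ v, C (Pi.single 0 1) v = 0 := fun v => by
    rw [hC] at h0 ⊢
    rw [part2_eq_sum]
    refine Finset.sum_eq_zero fun a _ => Finset.sum_eq_zero fun b _ => ?_
    rcases eq_or_ne a 0 with rfl | ha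
    · rw [h0 b, smul_zero]
    · rw [Pi.single_eq_of_ne ha, zero_pow (by positivity), zero_mul, zero_smul]
  have h3v : ∀ v, C (Pi.single 3 1) v = 0 := fun v => by
    have h := hCg (W hF) (Pi.single 0 1) (natHom F m (W hF) v)
    rw [h0v, map_zero, show natHom F m (W hF) (natHom F m (W hF) v) = v by
      rw [natHom_apply, natHom_apply, Matrix.mulVec_mulVec, ← natM_mul, W_mul_W, natM_one,
        Matrix.one_mulVec],
      show natHom F m (W hF) (Pi.single 0 1) = Pi.single 3 (1 : F) by
        rw [natHom_apply, natM_W]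
        funext j; fin_cases j <;> simp [Matrix.mulVec_single]] at h
    exact h
  funext i
  refine congrFun (col_indep hF r (fun a => C (Pi.single a 1) (Pi.single l 1) i) fun p => ?_) k
  have h := hCg (U hF p.1 p.2) (Pi.single 3 1) (natHom F m (U hF p.1 p.2)⁻¹ (Pi.single l 1))
  rw [h3v, map_zero, hcol, show natHom F m (U hF p.1 p.2) (natHom F m (U hF p.1 p.2)⁻¹ (Pi.single l 1)) =
    (natHom F m (U hF p.1 p.2) * natHom F m (U hF p.1 p.2)⁻¹) (Pi.single l 1) from rfl, ← map_mul,
    mul_inv_cancel, map_one] at h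
  have hi := congrFun h i
  rw [hC] at hi ⊢
  have hexp : part2 r r B (col m p) ((1 : AddMonoid.End (Fin 4 → F)) (Pi.single l 1)) =
      ∑ a, col m p a ^ 2 ^ r • part2 r r B (Pi.single a 1) (Pi.single l 1) := by
    rw [part2_eq_sum]
    refine Finset.sum_congr rfl fun a _ => ?_
    rw [Finset.sum_eq_single l]
    · simp
    · intro b _ hb
      simp [Pi.single_eq_of_ne hb]
    · simp
  rw [hexp, Finset.sum_apply] at hi
  simpa [mul_comm] using hi

/-- An invariant biadditive map vanishes. -/
theorem biadd_zero (hm : 1 ≤ m) : BiaddProp F m := by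
  classical
  intro B hB
  refine AddMonoidHom.ext fun u => AddMonoidHom.ext fun v => ?_
  show B u v = 0
  have h1 : ∀ r ∈ Finset.range (2 * m + 1), part (F := F) r (B.flip v) u = 0 := by
    intro r hr
    let H : (Fin 4 → F) →+ (Fin 4 → F) :=
      AddMonoidHom.mk' (fun w => part (F := F) r (B.flip w) u) fun w w' => by
        rw [map_add, part_add]; rfl
    show H v = 0
    rw [← sum_part hF (by omega) H v]
    refine Finset.sum_eq_zero fun s hs => ?_
    show part2 r s B u v = 0
    rw [part2_eq_sum]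
    refine Finset.sum_eq_zero fun k _ => Finset.sum_eq_zero fun l _ => ?_
    rcases eq_or_ne r s with rfl | hrs
    · rw [part2_eq hF hm r B hB, smul_zero]
    · rw [part2_ne hF ⟨r, Finset.mem_range.1 hr⟩ ⟨s, Finset.mem_range.1 hs⟩
        (fun h => hrs (congrArg Fin.val h)) B hB, smul_zero]
  rw [← Finset.sum_eq_zero h1, sum_part hF (by omega) (B.flip v) u]
  rfl

end Cfsg.Agent.CNStruct80
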