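import Cfsg.Agent.CN7.MaxNil
import Cfsg.Agent.CharDeep.CC.Main
import Cfsg.Agent.Lib.Zassenhaus.KernelPrimePow
import Cfsg.Agent.Lib.Frobenius.Kernel
import Cfsg.Agent.PGraphCIT.Basic
import Cfsg.Agent.PF14.Compose

/-!
# A non-solvable CN-group is a CIT-group

A maximal nilpotent subgroup containing the centraliser of an involution which is not of prime
power order is neither normal nor self-normalising, so it would give a Zassenhaus group with kernel
of order not a prime power.
-/

set_option autoImplicit false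
set_option linter.style.haveILetI false

namespace Cfsg.Agent.CNStruct80

open Subgroup CN7
open scoped Pointwise

theorem isSolvable_of_normal {G : Type*} [Group G] [Finite G] (M : Subgroup G) [M.Normal]
    (hM : Group.IsSolvable M) (h : Odd M.index) : Group.IsSolvable G := by
  haveI := hM
  haveI : Group.IsSolvable (G ⧸ M) := PF14.feitThompson _ (by rwa [← index_eq_card])
  exact Group.isSolvable_of_ker_le_range M.subtype (QuotientGroup.mk' M)
    (by rw [range_subtype, QuotientGroup.ker_mk'])

theorem odd_index_of_sylow_le {G : Type*} [Group G] [Finite G] {M : Subgroup G} (S : Sylow 2 G)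
    [Fact (Nat.Prime 2)] (hS : (S : Subgroup G) ≤ M) : Odd M.index :=
  Nat.not_even_iff_odd.1 fun he =>
    S.not_dvd_index ((even_iff_two_dvd.1 he).trans (index_dvd_of_le hS))

theorem isCIT {G : Type*} [Group G] [Finite G] (hns : ¬ Group.IsSolvable G)
    (hCN : Cfsg.IsCNGroup G) : PGraphCIT.IsCIT G := by
  classical
  intro t ht
  haveI h2f : Fact (Nat.Prime 2) := ⟨Nat.prime_two⟩
  have ht1 : t ≠ 1 := fun e => by rw [e, orderOf_one] at ht; omega
  obtain ⟨M, hM, hCM⟩ := exists_isMaxNil (hCN t ht1)
  have htM : t ∈ M := hCM (mem_centralizer_singleton_iff.2 rfl)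
  by_cases hpp : IsPrimePow (Nat.card M)
  · obtain ⟨p, k, hp, hk, hpk⟩ := (isPrimePow_nat_iff _).1 hpp
    have h2 : 2 ∣ Nat.card M := ht ▸ orderOf_dvd_natCard M htM
    rw [← hpk] at h2
    obtain rfl : 2 = p :=
      (Nat.prime_dvd_prime_iff_eq Nat.prime_two hp).1 (Nat.prime_two.dvd_of_dvd_pow h2)
    exact (IsPGroup.of_card (n := k) hpk.symm).to_le hCM
  exfalso
  have h2M : 2 ∣ Nat.card M := ht ▸ orderOf_dvd_natCard M htM
  have hM1 : Nat.card M ≠ 1 := fun e => by rw [e] at h2M; omega
  have hMb : M ≠ ⊥ := fun e => hM1 (by rw [e]; exact card_bot)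
  have hTI := hM.isTI_of_not_isPrimePow hCN hpp hM1
  have hcl : ∀ x ∈ M, x ≠ 1 → centralizer ({x} : Set G) ≤ M := fun x hx hx1 =>
    hM.centralizer_le hCN hTI hx hx1
  obtain ⟨S, hS⟩ := hM.exists_sylow_le hCN (p := 2) h2M
  have hodd : Odd M.index := odd_index_of_sylow_le S hS
  have hMsol : Group.IsSolvable M := by
    haveI := hM.1
    infer_instance
  have hMn : ¬ M.Normal := fun _ => hns (isSolvable_of_normal M hMsol hodd)
  have hMtop : M ≠ ⊤ := fun e => hMn (by rw [e]; infer_instance)
  -- an involution in the centre of `M`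
  obtain ⟨z, hzS, hz1, hzc⟩ := exists_center_mem (K := (S : Subgroup G)) S.2.isNilpotent
    (IsMaxNil.sylow_ne_bot h2M S)
  obtain ⟨k, hk⟩ := exists_orderOf_prime_pow S.2 hzS
  obtain ⟨k', rfl⟩ : ∃ k', k = k' + 1 := Nat.exists_eq_succ_of_ne_zero fun e => hz1 (by
    rw [e, pow_zero] at hk; exact orderOf_eq_one_iff.1 hk)
  set s := z ^ 2 ^ k' with hs
  have hso : orderOf s = 2 := by
    rw [hs, orderOf_pow' z (pow_ne_zero k' two_ne_zero), hk, pow_succ,
      Nat.gcd_mul_right_left, Nat.mul_div_cancel_left _ (pow_pos two_pos k')]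
  have hsc : s ∈ centralizer (M : Set G) :=
    hM.mem_centralizer_of_sylow hS (pow_mem hzS _) (pow_mem hzc _)
  have hs1 : s ≠ 1 := fun e => by rw [e, orderOf_one] at hso; omega
  have hCs : CharDeep.CA.cent s = M := hM.eq_centralizer hCN hs1 hsc
  have hne : normalizer (M : Set G) ≠ M := by
    intro hN
    have hF : Cfsg.IsFrobeniusComplement M := by
      refine ⟨hMb, hMtop, fun g hg => hTI g fun he => hg ?_⟩
      rw [← hN, mem_normalizer_iff]
      intro y
      constructor
      · intro hy
        rw [← he]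
        exact ⟨y, hy, rfl⟩
      · intro hy
        rw [← he] at hy
        obtain ⟨w, hw, hwy⟩ := hy
        rwa [← mul_left_cancel (mul_right_cancel (show g * w * g⁻¹ = g * y * g⁻¹ from hwy))]
    obtain ⟨N, -, hNn, hNc⟩ := Frobenius.exists_frobeniusKernel_subgroup hF
    -- the kernel has odd order
    haveI := hNn
    have hNodd : Odd (Nat.card N) := by
      have h1 := hNc.card_mul_card
      rw [← M.card_mul_index, mul_comm] at h1
      rwa [Nat.eq_of_mul_eq_mul_left Nat.card_pos h1]
    haveI : Group.IsSolvable N := PF14.feitThompson N hNodd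
    haveI : Group.IsSolvable M := hMsol
    haveI : Group.IsSolvable (G ⧸ N) :=
      Group.isSolvable_of_surjective (f := (QuotientGroup.mk' N).comp M.subtype) fun q => by
        obtain ⟨g, rfl⟩ := QuotientGroup.mk'_surjective N q
        obtain ⟨⟨n, m⟩, hnm⟩ := hNc.2 g
        refine ⟨m, ?_⟩
        simp only at hnm
        show QuotientGroup.mk' N (m : G) = QuotientGroup.mk' N g
        rw [← hnm, map_mul, show QuotientGroup.mk' N (n : G) = 1 from
          (QuotientGroup.eq_one_iff _).2 n.2, one_mul]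
    exact hns (Group.isSolvable_of_ker_le_range N.subtype (QuotientGroup.mk' N)
      (by rw [range_subtype, QuotientGroup.ker_mk']))
  have D : CharDeep.CC.Data G s :=
    { sub := fun a ha ha1 => by
        rw [hCs] at ha ⊢
        exact hcl a ha ha1
      t_ne := hs1
      t_sq := by rw [← pow_two, ← hso, pow_orderOf_eq_one]
      sylow := ⟨S, hCs.symm ▸ hS⟩
      ne_top := fun e => hMn (normalizer_eq_top_iff.1 (by rw [hCs] at e; exact e))
      ne_cent := fun e => hne (by rw [hCs] at e; exact e) }
  obtain ⟨hsimp, hZ, -, hU, b, hab, hT⟩ := CharDeep.CC.zassenhaus D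
  haveI := hsimp
  haveI := Fintype.ofFinite G
  haveI := Fintype.ofFinite (G ⧸ CharDeep.CA.nrm s)
  have hodd : Odd (Nat.card ↥(CharDeep.Zass.two G
      (QuotientGroup.mk 1 : G ⧸ CharDeep.CA.nrm s) b)) := by
    rw [hT]
    refine Nat.not_even_iff_odd.1 fun he => ?_
    have h1 : (CharDeep.CA.cent s).relIndex (CharDeep.CA.nrm s) ∣ (S : Subgroup G).index :=
      (relIndex_dvd_index_of_le (CharDeep.CA.cent_le_nrm s)).trans
        (index_dvd_of_le (hCs.symm ▸ hS))
    exact S.not_dvd_index ((even_iff_two_dvd.1 he).trans h1)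
  have := ZassNormal.isPrimePow_kernel hZ hab hU hodd
  rw [hCs] at this
  exact hpp this

end Cfsg.Agent.CNStruct80
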