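import Cfsg.Agent.CNStruct80.Rank1
import Mathlib

/-!
# The natural module of a Suzuki group as an abelian group

It is irreducible, self-dual, and invariant under twisting of scalars.
-/

set_option autoImplicit false

namespace Cfsg.Agent.CNStruct80

open Matrix Cfsg.Agent.Suzuki

variable {F : Type*} [Field F] {m : ℕ}

/-- The matrix with every entry raised to a power. -/
def twM (r : ℕ) (g : Cfsg.Sz F m) : Matrix (Fin 4) (Fin 4) F :=
  (natM g).map fun z => z ^ 2 ^ r

variable [Fintype F] (hF : Fintype.card F = 2 ^ (2 * m + 1))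
include hF

theorem twist_mulVec (r : ℕ) (g : Cfsg.Sz F m) (v : Fin 4 → F) :
    (fun i => (natM g *ᵥ v) i ^ 2 ^ r) = twM r g *ᵥ fun i => v i ^ 2 ^ r := by
  have := charP_two hF
  funext i
  simp [twM, Matrix.mulVec, dotProduct, sum_pow_char_pow (p := 2), mul_pow]

theorem twM_mul (r : ℕ) (g h : Cfsg.Sz F m) : twM r (g * h) = twM r g * twM r h := by
  have := charP_two hF
  ext i j
  simp [twM, natM_mul, Matrix.mul_apply, sum_pow_char_pow (p := 2), mul_pow]

omit [Fintype F] hF in
theorem twM_one (r : ℕ) : twM r (1 : Cfsg.Sz F m) = 1 :=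
  Matrix.map_one _ (zero_pow (by positivity)) (one_pow _)

theorem pow_card_fix (r : ℕ) (z : F) : z ^ 2 ^ ((2 * m + 1) * r) = z := by
  rw [pow_mul, ← hF, FiniteField.pow_card_pow]

theorem twM_W (r : ℕ) : twM r (W hF) = natM (W hF) := by
  rw [twM, natM_W]
  ext i j
  fin_cases i <;> fin_cases j <;> simp

theorem transpose_inv (hm : 1 ≤ m) (g : Cfsg.Sz F m) :
    (natM g⁻¹)ᵀ = natM (W hF) * natM g * natM (W hF) := by
  have h2 := two_eq_zero hF
  have hmul : ∀ g h : Cfsg.Sz F m, (natM g⁻¹)ᵀ = natM (W hF) * natM g * natM (W hF) →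
      (natM h⁻¹)ᵀ = natM (W hF) * natM h * natM (W hF) →
      (natM (g * h)⁻¹)ᵀ = natM (W hF) * natM (g * h) * natM (W hF) := fun g h hg hh => by
    rw [_root_.mul_inv_rev, natM_mul, Matrix.transpose_mul, hg, hh, natM_mul]
    have hJ : natM (W hF) * natM (W hF) = 1 := by rw [← natM_mul, W_mul_W, natM_one]
    simp only [mul_assoc]
    rw [← mul_assoc (natM (W hF)) (natM (W hF)), hJ, one_mul]
  have hU : ∀ a b : F, (natM (U hF a b)⁻¹)ᵀ = natM (W hF) * natM (U hF a b) * natM (W hF) := by
    intro a b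
    rw [U_inv, natM_U, natM_U, natM_W]
    ext i j
    fin_cases i <;> fin_cases j <;>
      simp [umat, fz, Matrix.mul_apply, Fin.sum_univ_four, sig_add hF, sig_mul, sig_sig hF] <;>
      first
        | ring1
        | linear_combination (sig m a * a) * h2
        | linear_combination (-(sig m a * a)) * h2
        | linear_combination (a ^ 2 * sig m a) * h2
  have hT : ∀ k : Fˣ, (natM (T hF k)⁻¹)ᵀ = natM (W hF) * natM (T hF k) * natM (W hF) := by
    intro k
    rw [← T_inv, natM_T, natM_T, natM_W]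
    ext i j
    fin_cases i <;> fin_cases j <;>
      simp [Matrix.mul_apply, Fin.sum_univ_four, rho, mul_comm, Matrix.vecMul_diagonal]
  have hW : (natM (W hF)⁻¹)ᵀ = natM (W hF) * natM (W hF) * natM (W hF) := by
    rw [inv_eq_of_mul_eq_one_right (W_mul_W hF), natM_W]
    ext i j
    fin_cases i <;> fin_cases j <;> simp [Matrix.mul_apply, Fin.sum_univ_four]
  rcases bruhat hF hm g with ⟨p, k, rfl⟩ | ⟨p, r, k, rfl⟩
  · exact hmul _ _ (hU _ _) (hT k)
  · exact hmul _ _ (hmul _ _ (hmul _ _ (hU _ _) hW) (hU _ _)) (hT k)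

end Cfsg.Agent.CNStruct80
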