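import Cfsg.Agent.CNStruct80.Tensor
import Cfsg.Agent.CNStruct80.Twist
import Mathlib

/-!
# The fixed-point-free irreducible modules of a Suzuki group

There is only one, the natural module.
-/

set_option autoImplicit false

namespace Cfsg.Agent.CNStruct80

open Matrix Cfsg.Agent.Suzuki

variable {F : Type*} [Field F] [Fintype F] {m : ℕ} (hF : Fintype.card F = 2 ^ (2 * m + 1))
include hF

theorem weight_injective (_hm : 1 ≤ m) : Function.Injective fun k : Fˣ =>
    Units.mk0 (rho m (k : F) * k) (mul_ne_zero (rho_ne_zero k.ne_zero) k.ne_zero) := by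
  intro k l h
  have h0 : rho m (k : F) * k = rho m (l : F) * l := congrArg Units.val h
  have h1 : rho m ((k * l⁻¹ : Fˣ) : F) * ((k * l⁻¹ : Fˣ) : F) = 1 := by
    rw [Units.val_mul, rho_mul, mul_mul_mul_comm, h0, mul_mul_mul_comm, ← rho_mul, Units.mul_inv,
      rho_one, one_mul]
  have h2 : sig m ((k * l⁻¹ : Fˣ) : F) * ((k * l⁻¹ : Fˣ) : F) ^ 2 = 1 := by
    rw [← rho_sq, ← sq, ← mul_pow, h1, one_pow]
  have h3 := congrArg (sig m) h2
  rw [sig_mul, sig_sig hF, sig_pow, sig_one] at h3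
  have h4 : sig m ((k * l⁻¹ : Fˣ) : F) = (((k * l⁻¹ : Fˣ) : F) ^ 2)⁻¹ :=
    eq_inv_of_mul_eq_one_left h2
  rw [h4, ← inv_pow] at h3
  have h5 : ((k * l⁻¹ : Fˣ) : F) ^ 2 = 1 ^ 2 := by
    have hz : ((k * l⁻¹ : Fˣ) : F) ≠ 0 := Units.ne_zero _
    field_simp at h3
    rw [one_pow]
    exact h3.symm
  exact mul_inv_eq_one.1 (Units.ext (sq_inj hF h5))

theorem exists_twists (hm : 1 ≤ m) {j : ℕ} (hj : ∃ c : Fˣ, (c : F) ^ j ≠ 1) :
    ∃ (k : ℕ) (e : Fin k → Fin (2 * m + 1)), Function.Injective e ∧ 0 < k ∧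
      ∀ c : Fˣ, (rho m (c : F) * c) ^ (∑ x, 2 ^ (e x : ℕ)) = (c : F) ^ j := by
  classical
  obtain ⟨g, hg⟩ := IsCyclic.exists_generator (α := Fˣ)
  let w : Fˣ →* Fˣ := MonoidHom.mk'
    (fun k => Units.mk0 (rho m (k : F) * k) (mul_ne_zero (rho_ne_zero k.ne_zero) k.ne_zero))
    (fun a b => Units.ext (by simp [rho_mul]; ring))
  have hwo : orderOf (w g) = Fintype.card F - 1 := by
    rw [orderOf_injective w (weight_injective hF hm), orderOf_eq_card_of_forall_mem_zpowers hg,
      Nat.card_units, Nat.card_eq_fintype_card]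
  obtain ⟨g', hg'⟩ := Finite.injective_iff_surjective.1 (weight_injective hF hm) g
  have hmem : ∃ N, N < orderOf (w g) ∧ w g ^ N = g ^ j := by
    have h1 : g ∈ Subgroup.zpowers (w g) := by
      obtain ⟨i, hi⟩ := Subgroup.mem_zpowers_iff.1 (hg g')
      refine Subgroup.mem_zpowers_iff.2 ⟨i, ?_⟩
      rw [← map_zpow, hi]
      exact hg'
    obtain ⟨N, hN, hNe⟩ := (mem_zpowers_iff_mem_range_orderOf.1
      (Subgroup.pow_mem _ h1 j) |> Finset.mem_image.1)
    exact ⟨N, Finset.mem_range.1 hN, hNe⟩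
  obtain ⟨N, hN, hNe⟩ := hmem
  have hNc : ∀ c : Fˣ, w c ^ N = c ^ j := fun c => by
    obtain ⟨i, rfl⟩ := Subgroup.mem_zpowers_iff.1 (hg c)
    rw [map_zpow, ← zpow_natCast, ← _root_.zpow_mul, mul_comm, _root_.zpow_mul, zpow_natCast, hNe,
      ← zpow_natCast, ← _root_.zpow_mul, mul_comm, _root_.zpow_mul, zpow_natCast]
  have hN0 : N ≠ 0 := by
    rintro rfl
    obtain ⟨c, hc⟩ := hj
    exact hc (by rw [← Units.val_pow_eq_pow_val, ← hNc, pow_zero, Units.val_one])
  set S : Finset ℕ := N.bitIndices.toFinset with hS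
  have hSsum : ∑ x ∈ S, 2 ^ x = N := Finset.sum_toFinset_bitIndices_two_pow N
  have hlt : ∀ x ∈ S, x < 2 * m + 1 := fun x hx => by
    refine (Nat.pow_lt_pow_iff_right one_lt_two).1 ?_
    rw [← hF]
    have h1 := Finset.single_le_sum (f := fun x => 2 ^ x) (fun _ _ => Nat.zero_le _) hx
    rw [hSsum] at h1
    have h2 : Fintype.card F - 1 < Fintype.card F := Nat.sub_lt Fintype.card_pos one_pos
    exact lt_of_le_of_lt h1 ((hN.trans_eq hwo).trans h2)
  refine ⟨S.card, fun x => ⟨S.orderEmbOfFin rfl x, hlt _ (Finset.orderEmbOfFin_mem S rfl x)⟩,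
    fun x y h => (S.orderEmbOfFin rfl).injective (congrArg Fin.val h), Finset.card_pos.2 ?_,
    fun c => ?_⟩
  · rw [Finset.nonempty_iff_ne_empty]
    intro h
    rw [h, Finset.sum_empty] at hSsum
    exact hN0 hSsum.symm
  · have h1 : ∑ x : Fin S.card, 2 ^ (S.orderEmbOfFin rfl x : ℕ) = N := by
      conv_rhs => rw [← hSsum, ← Finset.map_orderEmbOfFin_univ S rfl, Finset.sum_map]
      rfl
    rw [h1]
    exact congrArg Units.val (hNc c)

/-- The natural module is irreducible as an abelian group. -/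
theorem nat_irred (hm : 1 ≤ m) (A : AddSubgroup (Fin 4 → F)) (hA : Inv (natHom F m) A) :
    A = ⊥ ∨ A = ⊤ := by
  classical
  have : Fact (Nat.Prime 2) := ⟨Nat.prime_two⟩
  rw [or_iff_not_imp_left]
  intro hbot
  let : MulAction (USub hF) A :=
    { smul := fun g v => ⟨natHom F m g.1 v.1, hA _ _ v.2⟩
      one_smul := fun v => Subtype.ext (by show natHom F m 1 v.1 = v.1; simp)
      mul_smul := fun g h v => Subtype.ext (by
        show natHom F m (g.1 * h.1) v.1 = natHom F m g.1 (natHom F m h.1 v.1)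
        rw [map_mul]; rfl) }
  have h2 : 2 ∣ Nat.card A := by
    have hd := AddSubgroup.card_addSubgroup_dvd_card A
    have hc : Nat.card (Fin 4 → F) = 2 ^ ((2 * m + 1) * 4) := by
      rw [Nat.card_fun, Nat.card_eq_fintype_card, hF, Nat.card_eq_fintype_card, Fintype.card_fin, ← pow_mul]
    rw [hc] at hd
    obtain ⟨i, -, hi⟩ := (Nat.dvd_prime_pow Nat.prime_two).1 hd
    rcases i with _ | i
    · exact absurd (AddSubgroup.card_eq_one.1 (by simpa using hi)) hbot
    · exact ⟨2 ^ i, by rw [hi, pow_succ']⟩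
  have h0 : (0 : A) ∈ MulAction.fixedPoints (USub hF) A := fun g =>
    Subtype.ext (by show natHom F m g.1 0 = 0; exact map_zero _)
  obtain ⟨b, hb, hb0⟩ :=
    (isPGroup_USub hF).exists_fixed_point_of_prime_dvd_card_of_fixed_point A h2 h0
  -- the fixed vector is a multiple of the first basis vector
  have hfix : ∀ p : F × F, umat m p.1 p.2 *ᵥ b.1 = b.1 := fun p =>
    congrArg Subtype.val (hb ⟨U hF p.1 p.2, U_mem_USub hF _ _⟩)
  have h3 : b.1 3 = 0 := by
    have h := congrFun (hfix (1, 0)) 2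
    simpa [umat, Matrix.mulVec, dotProduct, Fin.sum_univ_four] using h
  have h2' : b.1 2 = 0 := by
    have h := congrFun (hfix (1, 0)) 1
    simpa [umat, Matrix.mulVec, dotProduct, Fin.sum_univ_four, h3, sig_one] using h
  have h1' : b.1 1 = 0 := by
    have h := congrFun (hfix (1, 0)) 0
    simpa [umat, Matrix.mulVec, dotProduct, Fin.sum_univ_four, h3, h2', sig_one] using h
  have hb00 : b.1 0 ≠ 0 := fun h => hb0 (Subtype.ext (funext fun i => by
    fin_cases i <;> simp [h, h1', h2', h3]))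
  have hb1 : b.1 = Pi.single 0 (b.1 0) := funext fun i => by
    fin_cases i <;> simp [h1', h2', h3]
  have he0 : ∀ c : F, Pi.single (0 : Fin 4) c ∈ A := by
    intro c
    rcases eq_or_ne c 0 with rfl | hc
    · simp
    obtain ⟨k, hk⟩ := Finite.injective_iff_surjective.1 (weight_injective hF hm)
      (Units.mk0 (c / b.1 0) (div_ne_zero hc hb00))
    have hk' : rho m (k : F) * k = c / b.1 0 := congrArg Units.val hk
    have h := hA (T hF k) _ b.2
    rw [natHom_apply, hb1, natM_T] at h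
    convert h using 1
    funext i
    fin_cases i <;> simp [Matrix.mulVec_diagonal, hk', hb00]
  have hcol : ∀ (c : F) (p : F × F), c • col m p ∈ A := by
    intro c p
    have h := hA (U hF p.1 p.2 * W hF) _ (he0 c)
    convert h using 1
    rw [natHom_apply, natM_mul, natM_U, natM_W, col_eq_mulVec (m := m) p, ← Matrix.mulVec_smul,
      ← Matrix.mulVec_mulVec]
    congr 1
    funext i
    fin_cases i <;> simp [Matrix.mulVec_single]
  have hspan : Submodule.span F (Set.range (col (F := F) m)) = ⊤ := by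
    by_contra htop
    obtain ⟨φ, hφ0, hφA⟩ := Submodule.exists_le_ker_of_lt_top _ (lt_top_iff_ne_top.2 htop)
    refine hφ0 (LinearMap.pi_ext' fun t => LinearMap.ext_ring ?_)
    have h := col_indep hF 0 (fun l => φ (Pi.single l 1)) (fun p => by
      have h1 := LinearMap.mem_ker.1 (hφA (Submodule.subset_span ⟨p, rfl⟩))
      rw [pi_eq_sum_univ' (col m p), map_sum] at h1
      simpa [mul_comm] using h1)
    simpa using congrFun h t
  rw [eq_top_iff]
  intro w _
  have hw : w ∈ Submodule.span F (Set.range (col (F := F) m)) := by rw [hspan]; trivial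
  have key : ∀ c : F, c • w ∈ A :=
    Submodule.span_induction (p := fun x _ => ∀ c : F, c • x ∈ A)
      (fun x hx => by obtain ⟨p, rfl⟩ := hx; exact fun c => hcol c p)
      (fun c => by simp)
      (fun x y _ _ hx hy c => by rw [smul_add]; exact A.add_mem (hx c) (hy c))
      (fun a x _ hx c => by rw [smul_smul]; exact hx _) hw
  simpa using key 1

omit hF in
theorem Fpf.ne_fix {G W' : Type*} [Group G] [AddCommGroup W'] [Finite W'] {ρ : G →* AddMonoid.End W'}
    (h : Fpf ρ) {g : G} (hg : Odd (orderOf g)) (hg1 : g ≠ 1) {A : Type*} [AddCommGroup A] (φ : W' →+ A)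
    (hφ : ∀ w, φ (ρ g w) = φ w) : φ = 0 := by
  ext w
  have hinj : Function.Injective fun y => ρ g y - y := fun y y' e => by
    refine sub_eq_zero.1 (h g hg hg1 (y - y') ?_)
    simp only at e
    rw [map_sub]
    linear_combination (norm := abel) e
  obtain ⟨y, hy⟩ := Finite.injective_iff_surjective.1 hinj w
  rw [← hy]
  simp [hφ]

/-- Every fixed-point-free irreducible module in characteristic two is natural. -/
theorem classify (hm : 1 ≤ m) {W : Type*} [AddCommGroup W] [Finite W] (h2 : ∀ w : W, w + w = 0)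
    (ρ : Cfsg.Sz F m →* AddMonoid.End W) (hfpf : Fpf ρ) (hir : Irred ρ) :
    ∃ e : W ≃+ (Fin 4 → F), ∀ g w, e (ρ g w) = natHom F m g (e w) := by
  classical
  have := hir.1
  have := charP_two hF
  let : Module (ZMod 2) W := AddCommGroup.zmodModule fun w => by rw [two_nsmul]; exact h2 w
  have : Finite (W →+ F) := Finite.of_injective (fun f => (f : W → F)) DFunLike.coe_injective
  let σ : Cfsg.Sz F m →* Module.End F (W →+ F) :=
    { toFun := fun g =>
        { toFun := fun φ => φ.comp (ρ g⁻¹)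
          map_add' := fun φ ψ => rfl
          map_smul' := fun c φ => rfl }
      map_one' := by
        ext φ w
        show φ (ρ 1⁻¹ w) = φ w
        rw [inv_one, map_one]; rfl
      map_mul' := fun g h => by
        ext φ w
        show φ (ρ (g * h)⁻¹ w) = φ (ρ h⁻¹ (ρ g⁻¹ w))
        rw [_root_.mul_inv_rev, map_mul]; rfl }
  have hne : (⊤ : Submodule F (W →+ F)) ≠ ⊥ := by
    intro h
    obtain ⟨w, hw⟩ := exists_ne (0 : W)
    obtain ⟨f, hf⟩ : ∃ f : Module.Dual (ZMod 2) W, f w ≠ 0 := by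
      by_contra hall
      push Not at hall
      exact hw ((Module.forall_dual_apply_eq_zero_iff (ZMod 2) w).1 hall)
    have h1 : (ZMod.castHom dvd_rfl F).toAddMonoidHom.comp f.toAddMonoidHom ∈
        (⊤ : Submodule F (W →+ F)) := trivial
    rw [h, Submodule.mem_bot] at h1
    have h2' := DFunLike.congr_fun h1 w
    exact hf ((ZMod.castHom dvd_rfl F).injective (h2'.trans (map_zero _).symm))
  obtain ⟨L, ⟨hL0, hLinv⟩, hLmin⟩ := exists_minimal_of_wellFoundedLT
    (fun L : Submodule F (W →+ F) => L ≠ ⊥ ∧ ∀ g, ∀ φ ∈ L, σ g φ ∈ L) ⟨⊤, hne, fun _ _ _ => trivial⟩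
  let σL : Cfsg.Sz F m →* Module.End F L :=
    { toFun := fun g => (σ g).restrict (hLinv g)
      map_one' := LinearMap.ext fun φ => Subtype.ext (show σ 1 φ.1 = φ.1 by rw [map_one]; rfl)
      map_mul' := fun g h => LinearMap.ext fun φ => Subtype.ext
        (show σ (g * h) φ.1 = σ g (σ h φ.1) by rw [map_mul]; rfl) }
  have hLirr : ∀ A : Submodule F L, (∀ g, ∀ φ ∈ A, σL g φ ∈ A) → A = ⊥ ∨ A = ⊤ := by
    intro A hA
    rw [or_iff_not_imp_left]
    intro hA0
    have h1 : A.map L.subtype ≠ ⊥ := fun h => hA0 (by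
      exact Submodule.map_injective_of_injective L.subtype_injective (h.trans (Submodule.map_bot _).symm))
    have h3 := hLmin ⟨h1, by
      rintro g _ ⟨φ, hφ, rfl⟩
      exact ⟨σL g φ, hA g φ hφ, rfl⟩⟩ (Submodule.map_subtype_le L A)
    rw [eq_top_iff]
    intro φ _
    obtain ⟨ψ, hψ, e⟩ := h3 φ.2
    rwa [← Subtype.ext (e : ψ.1 = φ.1)]
  have hLne : (⊤ : Submodule F L) ≠ ⊥ := fun h => hL0 (by
    rw [← Submodule.map_subtype_top L, h, Submodule.map_bot])
  obtain ⟨φ, -, hφ0, hφU, j, hφT⟩ := exists_eigen hF (V := ↥L) σL ⊤ hLne (fun _ _ _ => trivial)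
  -- the weight is not trivial
  have hj : ∃ c : Fˣ, (c : F) ^ j ≠ 1 := by
    by_contra hall
    push Not at hall
    obtain ⟨a, ha0, ha1⟩ := exists_ne_zero_one hF hm
    let k : Fˣ := Units.mk0 a ha0
    have hk1 : T hF k ≠ 1 := fun h => ha1 (congrArg Units.val
      (T_inj hF (h.trans (T_one hF).symm)) : a = 1)
    have hodd : Odd (orderOf (T hF k)⁻¹) := by
      rw [orderOf_inv]
      refine Odd.of_dvd_nat ?_ ((orderOf_map_dvd (THom hF) k).trans (orderOf_dvd_natCard k))
      rw [Nat.card_units, Nat.card_eq_fintype_card, hF]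
      exact Nat.Even.sub_odd Nat.one_le_two_pow (by simp [Nat.even_pow]) odd_one
    have h := hfpf.ne_fix hodd (inv_ne_one.2 hk1) φ.1 (fun w => by
      have h1 := hφT k
      rw [hall k, one_smul] at h1
      exact DFunLike.congr_fun (congrArg Subtype.val h1) w)
    exact hφ0 (Subtype.ext h)
  obtain ⟨k, e, he, hk0, hweight⟩ := exists_twists hF hm hj
  let χ : Fˣ →* F := (powMonoidHom j).comp (Units.coeHom F)
  obtain ⟨E, hE⟩ := exists_equiv hF (tHom hF fun x => (e x : ℕ)) (Pi.single (fun _ => (0 : Fin 4)) 1)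
    χ hm σL φ (by simp) hφ0 (fun p => tHom_U hF _ p) (fun c => by
      rw [tHom_T, hweight]; rfl) hφU hφT hj (tHom_irred hF e he) hLirr
  obtain rfl : k = 1 := by
    by_contra hk
    obtain ⟨g, hg, hg1, v, hv, hgv⟩ := tHom_fixed hF (by omega : 2 ≤ k) (fun x => (e x : ℕ))
    have h := hfpf.ne_fix (g := g⁻¹) (by rwa [orderOf_inv]) (inv_ne_one.2 hg1) (E v).1 (fun w => by
      have h1 := hE g v
      rw [hgv] at h1
      exact (DFunLike.congr_fun (congrArg Subtype.val h1) w).symm)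
    exact hv (E.map_eq_zero_iff.1 (Subtype.ext h))
  -- the dual of the intertwiner
  set r : ℕ := (e 0 : ℕ) with hr
  let t : Fin 4 → Fin 1 → Fin 4 := fun c _ => c
  let θ : W →+ (Fin 4 → F) := AddMonoidHom.mk' (fun w c => (E (Pi.single (t c) 1)).1 w)
    (fun x y => funext fun c => map_add _ _ _)
  have hθ : ∀ g w, θ (ρ g w) = (twM r g⁻¹)ᵀ *ᵥ θ w := by
    intro g w
    funext c
    have h1 : (σL g⁻¹ (E (Pi.single (t c) 1))).1 w = (E (Pi.single (t c) 1)).1 (ρ g w) := by
      show (E (Pi.single (t c) 1)).1 (ρ g⁻¹⁻¹ w) = _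
      rw [inv_inv]
    show (E (Pi.single (t c) 1)).1 (ρ g w) = _
    rw [← h1, ← hE, pi_eq_sum_univ' (tHom hF (fun x => (e x : ℕ)) g⁻¹ (Pi.single (t c) 1)), map_sum,
      Submodule.coe_sum, AddMonoidHom.finsetSum_apply, Matrix.mulVec, dotProduct]
    refine Fintype.sum_equiv (Equiv.funUnique (Fin 1) (Fin 4)) _ _ fun s => ?_
    rw [map_smul, tHom_single, tMat_apply, Fin.prod_univ_one]
    have hs : t ((Equiv.funUnique (Fin 1) (Fin 4)) s) = s := funext fun x => by
      show s default = s x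
      rw [Subsingleton.elim default x]
    show natM g⁻¹ (s 0) c ^ 2 ^ r * (E (Pi.single s 1)).1 w =
      natM g⁻¹ (s default) c ^ 2 ^ r * (E (Pi.single (t ((Equiv.funUnique (Fin 1) (Fin 4)) s)) 1)).1 w
    rw [hs]
    rfl
  -- correct by the form and by the twist
  let β : (Fin 4 → F) →+ (Fin 4 → F) := AddMonoidHom.mk'
    (fun v i => (natM (Suzuki.W hF) *ᵥ v) i ^ 2 ^ ((2 * m + 1) * (r + 1) - r))
    (fun x y => funext fun i => by
      rw [Matrix.mulVec_add, Pi.add_apply, add_pow_char_pow (p := 2)]; rfl)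
  set f : W →+ (Fin 4 → F) := β.comp θ with hf
  have hβi : Function.Injective β := by
    intro x y h
    have h1 : natM (Suzuki.W hF) *ᵥ x = natM (Suzuki.W hF) *ᵥ y := funext fun i => by
      have hi : (natM (Suzuki.W hF) *ᵥ x) i ^ 2 ^ ((2 * m + 1) * (r + 1) - r) =
        (natM (Suzuki.W hF) *ᵥ y) i ^ 2 ^ ((2 * m + 1) * (r + 1) - r) := congrFun h i
      exact iterateFrobenius_inj F 2 _ hi
    have h3 := congrArg (fun v => natM (Suzuki.W hF) *ᵥ v) h1
    simpa [Matrix.mulVec_mulVec, ← natM_mul, W_mul_W, natM_one] using h3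
  have hJJ : natM (Suzuki.W hF) * natM (Suzuki.W hF) = 1 := by rw [← natM_mul, W_mul_W, natM_one]
  have hfq : ∀ g w, f (ρ g w) = natM g *ᵥ f w := by
    intro g w
    have h1 : (twM r g⁻¹)ᵀ = natM (Suzuki.W hF) * twM r g * natM (Suzuki.W hF) := by
      have h := transpose_inv hF hm g
      have hJ : twM r (Suzuki.W hF) = natM (Suzuki.W hF) := twM_W hF r
      calc (twM r g⁻¹)ᵀ = ((natM g⁻¹)ᵀ).map (fun z => z ^ 2 ^ r) := Matrix.transpose_map.symm
        _ = twM r (Suzuki.W hF * g * Suzuki.W hF) := by rw [h, twM, natM_mul, natM_mul]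
        _ = _ := by rw [twM_mul hF, twM_mul hF, hJ]
    funext i
    show (natM (Suzuki.W hF) *ᵥ θ (ρ g w)) i ^ 2 ^ ((2 * m + 1) * (r + 1) - r) = _
    rw [hθ, h1, Matrix.mulVec_mulVec, ← Matrix.mul_assoc, ← Matrix.mul_assoc, hJJ, Matrix.one_mul,
      ← Matrix.mulVec_mulVec]
    simp only [twM, hf, β, AddMonoidHom.comp_apply, AddMonoidHom.mk'_apply, Matrix.mulVec,
      dotProduct, Matrix.map_apply, sum_pow_char_pow (p := 2), mul_pow]
    refine Finset.sum_congr rfl fun l _ => ?_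
    rw [← pow_mul (natM g i l), ← pow_add,
      Nat.add_sub_cancel' (by nlinarith [Nat.zero_le r]), pow_card_fix hF]
  have hθ0 : θ ≠ 0 := by
    intro h
    have h1 : E (Pi.single (t 0) 1) = 0 := Subtype.ext (AddMonoidHom.ext fun w =>
      congrFun (DFunLike.congr_fun h w) 0)
    simpa using congrFun (E.map_eq_zero_iff.1 h1) (t 0)
  have hinj : Function.Injective f := by
    rw [injective_iff_map_eq_zero]
    intro w hw
    rcases hir.2 f.ker (fun g x hx => by
      rw [AddMonoidHom.mem_ker] at hx ⊢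
      rw [hfq, hx, Matrix.mulVec_zero]) with h | h
    · rwa [← AddMonoidHom.mem_ker, h, AddSubgroup.mem_bot] at hw
    · refine absurd (AddMonoidHom.ext fun x => hβi ?_) hθ0
      rw [AddMonoidHom.zero_apply, map_zero]
      exact AddMonoidHom.mem_ker.1 (h ▸ AddSubgroup.mem_top x : x ∈ f.ker)
  have hsurj : Function.Surjective f := by
    rcases nat_irred hF hm f.range (fun g x hx => by
      obtain ⟨w, rfl⟩ := hx
      exact ⟨ρ g w, hfq g w⟩) with h | h
    · obtain ⟨w, hw⟩ := exists_ne (0 : W)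
      exact absurd (hinj (by
        rw [map_zero]
        exact (AddSubgroup.mem_bot).1 (h ▸ ⟨w, rfl⟩ : f w ∈ (⊥ : AddSubgroup (Fin 4 → F))))) hw
    · exact AddMonoidHom.range_eq_top.1 h
  exact ⟨AddEquiv.ofBijective f ⟨hinj, hsurj⟩, fun g w => hfq g w⟩

end Cfsg.Agent.CNStruct80
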