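import Cfsg.Agent.CNStruct80.Shift
import Mathlib

/-!
# The last column of a cocycle on the unipotent radical

It is the last column of a coboundary.
-/

set_option autoImplicit false

namespace Cfsg.Agent.CNStruct80

open Cfsg.Agent.Suzuki
open SemilinearQuad (fr)

variable {F : Type*} [Field F] {m : ℕ}

/-- The weights of the natural module. -/
def wt (m : ℕ) (i : Fin 4) (k : F) : F := ![rho m k * k, rho m k, (rho m k)⁻¹, (rho m k * k)⁻¹] i

variable [Fintype F] (hF : Fintype.card F = 2 ^ (2 * m + 1))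
include hF

theorem sq_surjective : Function.Surjective fun x : F => x * x := by
  refine Finite.injective_iff_surjective.1 fun x y h => ?_
  exact sq_inj hF (by simpa [pow_two] using h)

/-- No extra term: coordinates and one Frobenius map of the first parameter. -/
theorem shift_plain (hm : 1 ≤ m) {r : ZMod (2 * m + 1)} {φ : F × F → F} {χ : F → F}
    (hS : Shift r φ fun _ _ => 0) (h0 : φ 0 = 0) (hH : Hom m χ φ)
    (hχ : ∃ k, k ≠ 0 ∧ χ k ≠ fr r (rho m k * k)) :
    ∃ d : Fin 4 → F, d 3 = 0 ∧ ∃ (c : F) (t : ZMod (2 * m + 1)),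
      (∀ a b, φ (a, b) = cb r d (a, b) + c * fr t a) ∧ (c ≠ 0 → ∀ k, k ≠ 0 → χ k = fr t k) := by
  obtain ⟨B, P, ℓ, g, hφ, hP0, hA, hPh, hℓh⟩ :=
    shape hF (η := fun _ => 0) (θ := fun _ => 0) (by simpa using hS) h0 rfl rfl hH
  obtain ⟨e, u, hℓ, heu⟩ := mono hF ℓ χ (fun k => k * sig m k) (fun y => by
    obtain ⟨x, hx⟩ := sigNorm_surjective hF y
    exact ⟨x, by rw [← hx]; exact mul_comm _ _⟩) (zero_mul _) hℓh
  have hA0 : ∀ a' a, P (a' + a) + ℓ (sig m a' * a) =
      P a + P a' + (0 : F) * fr (0 : ZMod (2 * m + 1)) a' * fr (0 : ZMod (2 * m + 1)) a +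
        g a' * fr r a := fun a' a => by
    simpa using hA a' a
  obtain ⟨hG, h5⟩ := sym_five hF hℓ hA0
  -- the central part is a coordinate
  have he : e = 0 ∨ u = r := by
    rcases e_cases hF hm h5 with h | h | h
    · exact Or.inl h
    · exact Or.inr h
    refine Or.inl (by_contra fun he => ?_)
    obtain ⟨k, hk, hne⟩ := hχ
    refine hne ?_
    rw [heu he k hk, SemilinearQuad.fr_mul, SemilinearQuad.fr_mul, sig_fr hF, h, rho_eq_fr,
      ← SemilinearQuad.fr_add_idx hF, mul_comm]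
    have hu : r + (m : ZMod (2 * m + 1)) = u := by
      linear_combination (cast_m_ne hm).2.2.2.2.2 - h
    rw [hu, mul_comm]
  have hℓ' : ∀ b, ℓ b = e * fr r b := fun b => by
    rcases he with rfl | rfl
    · rw [hℓ, zero_mul, zero_mul]
    · exact hℓ b
  -- the first part is additive
  have hPd : ∀ a' a, P (a' + a) = P a + P a' + (e + g 1) * fr r a' * fr r a := fun a' a => by
    have h := hA0 a' a
    rw [hℓ', SemilinearQuad.fr_mul, hG] at h
    rcases he with rfl | rfl
    · linear_combination h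
    · rw [sig_fr hF] at h
      linear_combination h
  have hg : e + g 1 = 0 := by
    have h := hPd 1 1
    rw [add_self hF, hP0, fr_one] at h
    linear_combination -h - P 1 * two_eq_zero hF
  let P' : F →+ F := AddMonoidHom.mk' P fun a b => by
    rw [hPd, hg]
    ring
  obtain ⟨c, t, hc, hct⟩ := mono hF P' χ id Function.surjective_id rfl hPh
  refine ⟨![B, e, 0, 0], rfl, c, t, fun a b => ?_, hct⟩
  rw [hφ, hℓ', cb_eq, show P a = c * fr t a from hc a]
  simp only [Matrix.cons_val]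
  ring

/-- An extra product term vanishes unless its exponents are related. -/
theorem ext_zero (hm : 1 ≤ m) {r i j : ZMod (2 * m + 1)} {φ : F × F → F} {χ : F → F} {c : F}
    (hS : Shift r φ fun p x => c * fr i p.1 * fr j x.1) (h0 : φ 0 = 0) (hH : Hom m χ φ)
    (hir : i ≠ r) (hjr : j ≠ r) (hji : j ≠ i + ((m : ZMod (2 * m + 1)) + 1))
    (hij : i ≠ j + ((m : ZMod (2 * m + 1)) + 1)) : c = 0 := by
  obtain ⟨B, P, ℓ, g, -, hP0, hA, -, hℓh⟩ :=
    shape hF (η := fun a => c * fr i a) (θ := fr j) hS h0 (by simp [fr_z]) (fr_z j) hH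
  obtain ⟨e, u, hℓ, -⟩ := mono hF ℓ χ (fun k => k * sig m k) (fun y => by
    obtain ⟨x, hx⟩ := sigNorm_surjective hF y
    exact ⟨x, by rw [← hx]; exact mul_comm _ _⟩) (zero_mul _) hℓh
  obtain ⟨hG, h5⟩ := sym_five hF hℓ hA
  have hne : ∀ w, w ≠ r → ∃ v : F, fr w v + fr r v ≠ 0 := fun w hw => by
    by_contra h
    push Not at h
    exact hw (SemilinearQuad.fr_injective_idx hF fun v => eq_of_add_eq_zero hF (h v))
  rcases eq_or_ne i j with rfl | hne'
  · -- equal exponents: look at the diagonal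
    have hu := e_cases hF hm h5
    have key : ∀ x, c * (fr i x + fr r x) * (fr i x + fr r x) = 0 := by
      intro x
      have hx := hA x x
      rw [add_self hF, hP0, hℓ, SemilinearQuad.fr_mul, sig_fr hF, hG] at hx
      have h1 := hA 1 1
      rw [add_self hF, hP0, hℓ, sig_one, one_mul] at h1
      simp only [fr_one] at h1
      rcases hu with rfl | rfl | hu
      · linear_combination -hx + fr r x * fr r x * h1 +
          (P 1 * fr r x * fr r x - P x + c * fr r x * fr r x) * two_eq_zero hF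
      · linear_combination -hx + fr u x * fr u x * h1 +
          (P 1 * fr u x * fr u x - P x + c * fr u x * fr u x - e * fr u x * fr u x) * two_eq_zero hF
      · rw [hu] at hx
        linear_combination -hx + fr r x * fr r x * h1 +
          (P 1 * fr r x * fr r x - P x + c * fr r x * fr r x - e * fr r x * fr r x) * two_eq_zero hF
    obtain ⟨v, hv⟩ := hne i hir
    simpa [hv] using key v
  · -- distinct exponents: one of them is new
    by_cases hiu : u + ((m : ZMod (2 * m + 1)) + 1) = i ∨ u = i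
    · have hju : u + ((m : ZMod (2 * m + 1)) + 1) ≠ j ∧ u ≠ j := by
        rcases hiu with hiu | hiu <;> constructor <;> intro h
        · exact hne' (hiu.symm.trans h)
        · exact hij (by rw [← h, hiu])
        · exact hji (by rw [← h, hiu])
        · exact hne' (hiu.symm.trans h)
      obtain ⟨v, hv⟩ := hne i hir
      have h1 := coeff_short hF _ _ (h5 v) j
      rw [Fin.sum_univ_five] at h1
      simp only [Matrix.cons_val, eq_false hju.1, eq_false hju.2, eq_false hne', eq_false (Ne.symm hjr),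
        if_true, if_false, zero_add, add_zero] at h1
      exact (mul_eq_zero.1 h1).resolve_right hv
    · push Not at hiu
      obtain ⟨v, hv⟩ := hne j hjr
      have h1 := coeff_short hF _ _ (h5 v) i
      rw [Fin.sum_univ_five] at h1
      simp only [Matrix.cons_val, eq_false hiu.1, eq_false hiu.2, eq_false (Ne.symm hne'),
        eq_false (Ne.symm hir), if_true, if_false, zero_add, add_zero] at h1
      exact (mul_eq_zero.1 h1).resolve_right hv

/-- The third row when the fourth is `c` times the square root of the Frobenius. -/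
theorem shift_linked (hm : 1 ≤ m) {φ : F × F → F} {χ : F → F} {c : F}
    (hS : Shift ((m : ZMod (2 * m + 1)) + 1) φ
      fun p x => c * fr (0 : ZMod (2 * m + 1)) p.1 * fr (m : ZMod (2 * m + 1)) x.1)
    (h0 : φ 0 = 0) (hH : Hom m χ φ)
    (hχu : ∀ k, k ≠ 0 → χ k = fr (m : ZMod (2 * m + 1)) (k * sig m k))
    (hχt : ∀ t : ZMod (2 * m + 1), ∃ k, k ≠ 0 ∧ χ k ≠ fr t k) :
    ∃ d : Fin 4 → F, d 3 = 0 ∧ ∀ a b,
      φ (a, b) = cb ((m : ZMod (2 * m + 1)) + 1) d (a, b) + c * fr (m : ZMod (2 * m + 1)) b := by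
  obtain ⟨B, P, ℓ, g, hφ, hP0, hA, hPh, hℓh⟩ :=
    shape hF (η := fun a => c * fr (0 : ZMod (2 * m + 1)) a) (θ := fr (m : ZMod (2 * m + 1))) hS h0
      (by simp [fr_z]) (fr_z _) hH
  have hsurj : Function.Surjective fun k : F => k * sig m k := fun y => by
    obtain ⟨x, hx⟩ := sigNorm_surjective hF y
    exact ⟨x, by rw [← hx]; exact mul_comm _ _⟩
  obtain ⟨e, u, hℓ, heu⟩ := mono hF ℓ χ _ hsurj (zero_mul _) hℓh
  obtain ⟨hm0, hm1, -, -, h10, hs⟩ := cast_m_ne (m := m) hm
  set s : ZMod (2 * m + 1) := (m : ZMod (2 * m + 1)) + 1 with hsdef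
  have hℓm : ∀ b, ℓ b = e * fr (m : ZMod (2 * m + 1)) b := fun b => by
    rcases eq_or_ne e 0 with rfl | he
    · rw [hℓ, zero_mul, zero_mul]
    have hu : u = m := SemilinearQuad.fr_injective_idx hF fun y => by
      obtain ⟨k, rfl⟩ := hsurj y
      rcases eq_or_ne k 0 with rfl | hk
      · simp [fr_z]
      exact (heu he k hk).symm.trans (hχu k hk)
    rw [hℓ, hu]
  obtain ⟨hG, h5⟩ := sym_five hF hℓm hA
  have hms : (m : ZMod (2 * m + 1)) + ((m : ZMod (2 * m + 1)) + 1) = 0 := by
    linear_combination hs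
  have hne : (m : ZMod (2 * m + 1)) ≠ s := fun h => h10 (by linear_combination -h)
  have hec : e + c = 0 := by
    obtain ⟨v, hv⟩ : ∃ v : F, fr (m : ZMod (2 * m + 1)) v + fr s v ≠ 0 := by
      by_contra h
      push Not at h
      exact hne (SemilinearQuad.fr_injective_idx hF fun v => eq_of_add_eq_zero hF (h v))
    have h1 := coeff_short hF _ _ (h5 v) 0
    rw [Fin.sum_univ_five] at h1
    simp only [Matrix.cons_val, eq_true hms, eq_false hm0, eq_false hm1, if_true, if_false,
      add_zero] at h1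
    refine (mul_eq_zero.1 ?_).resolve_right hv
    linear_combination h1
  have hPd : ∀ a' a, P (a' + a) = P a + P a' + g 1 * fr s a' * fr s a := fun a' a => by
    have h := hA a' a
    rw [hℓm, SemilinearQuad.fr_mul, sig_fr hF, hms, hG, hms] at h
    linear_combination h + (fr (0 : ZMod (2 * m + 1)) a' + fr (m : ZMod (2 * m + 1)) a') * fr s a * hec
      + (-e * fr (0 : ZMod (2 * m + 1)) a' * fr (m : ZMod (2 * m + 1)) a) * two_eq_zero hF
      + fr (0 : ZMod (2 * m + 1)) a' * fr (m : ZMod (2 * m + 1)) a * hec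
  have hg : g 1 = 0 := by
    have h := hPd 1 1
    rw [add_self hF, hP0, fr_one] at h
    linear_combination -h - P 1 * two_eq_zero hF
  let P' : F →+ F := AddMonoidHom.mk' P fun a b => by
    rw [hPd, hg]
    ring
  obtain ⟨d, t, hd, hdt⟩ := mono hF P' χ id Function.surjective_id rfl hPh
  have hd0 : d = 0 := by
    by_contra hd'
    obtain ⟨k, hk, hne'⟩ := hχt t
    exact hne' (hdt hd' k hk)
  refine ⟨![B, 0, 0, 0], rfl, fun a b => ?_⟩
  rw [hφ, show P a = d * fr t a from hd a, hd0, hℓm, cb_eq]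
  simp only [Matrix.cons_val]
  linear_combination fr (m : ZMod (2 * m + 1)) b * hec - c * fr (m : ZMod (2 * m + 1)) b * two_eq_zero hF

/-- The second row forces the linked part to vanish. -/
theorem linked_zero (hm : 1 ≤ m) {φ : F × F → F} {c : F}
    (hS : Shift ((m : ZMod (2 * m + 1)) + 1) φ fun p x =>
      c * (sig m p.1 * fr (m : ZMod (2 * m + 1)) x.2 + p.2 * fr (m : ZMod (2 * m + 1)) x.1))
    (h0 : φ 0 = 0) : c = 0 := by
  set s : ZMod (2 * m + 1) := (m : ZMod (2 * m + 1)) + 1 with hsdef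
  obtain ⟨hm0, hm1, -, -, h10, hs⟩ := cast_m_ne (m := m) hm
  obtain ⟨Λ, hΛ⟩ := zsplit hF hS h0 (fun b a => c * (b * fr (m : ZMod (2 * m + 1)) a))
    (fun b' x => by simp [sig_zero]) (fun a => by simp) (fun b => by simp [fr_z])
  have hpm : ∀ a' b : F, pmul m (a', 0) (0, b) = (a', b) := fun a' b => by simp [pmul]
  choose α hα using fun a' : F => hS (a', 0)
  have hB : ∀ a' b, c * (b * fr (m : ZMod (2 * m + 1)) a') + Λ b * fr s a' =
      c * (sig m a' * fr (m : ZMod (2 * m + 1)) b) + α a' 0 * fr (s + s) b + α a' 1 * fr s b := by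
    intro a' b
    have h1 := hα a' (0, b)
    have h2 := hα a' (0, 0)
    simp only [hpm, cb_eq, fz_at_zero, fr_z, sig_zero, mul_zero, add_zero, zero_add] at h1 h2
    rw [show φ (0, 0) = 0 from h0] at h2
    have h3 := hΛ a' 0 b
    rw [add_zero] at h3
    rw [sig_fr hF] at h1
    linear_combination h1 - h2 - h3
  obtain ⟨v, hv⟩ : ∃ v : F, fr (m : ZMod (2 * m + 1)) v + sig m v ≠ 0 := by
    by_contra h
    push Not at h
    exact h10 (by
      linear_combination -(SemilinearQuad.fr_injective_idx hF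
        (u := (m : ZMod (2 * m + 1))) (v := s) fun v => by
          rw [eq_of_add_eq_zero hF (h v), sig_eq_fr hF]))
  have key : ∀ b, ∑ l : Fin 3, (![c * (fr (m : ZMod (2 * m + 1)) v + sig m v),
      α v 0 + sig m v * α 1 0, α v 1 + sig m v * α 1 1] l) *
        fr (![(0 : ZMod (2 * m + 1)), s + s, s] l) b = 0 := by
    intro b
    have e1 := hB v b
    have e2 := hB 1 b
    simp only [fr_one, sig_one, mul_one, one_mul] at e2
    rw [← sig_eq_fr hF] at e1
    rw [Fin.sum_univ_three]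
    simp only [Matrix.cons_val, fr_zero]
    linear_combination e1 - sig m v * e2 +
      (α v 0 * fr (s + s) b + α v 1 * fr s b + c * b * sig m v) * two_eq_zero hF
  have h1 := coeff_short hF _ _ key 0
  have hss : s + s ≠ 0 := fun h => h10 (by linear_combination h - hs)
  rw [Fin.sum_univ_three] at h1
  simp only [Matrix.cons_val, eq_false hss, eq_false (show s ≠ 0 from hm1), if_true, if_false, add_zero] at h1
  exact (mul_eq_zero.1 h1).resolve_right hv

omit [Fintype F] hF in
theorem cb_smul (r : ZMod (2 * m + 1)) (k : F) (c : Fin 4 → F) (p : F × F) :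
    cb r (k • c) p = k * cb r c p := by
  simp [cb, Finset.mul_sum, mul_assoc]

omit [Fintype F] hF in
theorem cb_absorb (r : ZMod (2 * m + 1)) (c : F) (d : Fin 4 → F) (a b : F) :
    cb r (d + ![0, 0, c, 0]) (a, b) = cb r d (a, b) + c * fr r a := by
  rw [cb_add, cb_eq r ![0, 0, c, 0]]
  simp

theorem wt_ne_one (hm : 1 ≤ m) : ∃ k : F, k ≠ 0 ∧ ∀ i, wt m i k ≠ 1 := by
  obtain ⟨z, hz0, hz1⟩ := exists_ne_zero_one hF hm
  have h1 : rho m z ≠ 1 := fun h => hz1 (sig_injective hF (by rw [← rho_sq, h, sig_one, one_mul]))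
  have h2 : rho m z * z ≠ 1 := fun h => by
    refine hz1 (sig_injective hF ?_)
    have e : sig m z * z ^ 2 = 1 := by
      rw [← rho_sq]
      linear_combination (rho m z * z + 1) * h
    have e' := congrArg (sig m) e
    rw [sig_mul, sig_sig hF, sig_pow, sig_one] at e'
    rw [sig_one]
    linear_combination e' - sig m z * e
  refine ⟨z, hz0, fun i => ?_⟩
  fin_cases i <;> simp [wt, h1, h2, -_root_.mul_inv_rev]

/-- The last column of a cocycle is the last column of a coboundary. -/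
theorem column_coboundary (hm : 1 ≤ m) (r : ZMod (2 * m + 1)) (Φ : F × F → Fin 4 → F)
    (hN : ∀ p, ∃ A : Fin 4 → Fin 4 → F, ∀ x i,
      Φ (pmul m p x) i = (∑ l, umat m p.1 p.2 i l * Φ x l) + cb r (A i) x)
    (h0 : Φ 0 = 0)
    (hH : ∀ i, Hom m (fun k => wt m i k * fr r (rho m k * k)) fun p => Φ p i) :
    ∃ D : Matrix (Fin 4) (Fin 4) F, ∀ p i,
      Φ p i = (∑ l, umat m p.1 p.2 i l * D l 3) + cb r (D i) p := by
  choose A hA using hN
  obtain ⟨hm0, hm1, hmm, hmm1, h10, hs⟩ := cast_m_ne (m := m) hm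
  set φ : Fin 4 → F × F → F := fun i p => Φ p i with hφdef
  have hφ0 : ∀ i, φ i 0 = 0 := fun i => congrFun h0 i
  have hpsi : ∀ k : F, fr r (rho m k * k) = fr (r + (m : ZMod (2 * m + 1))) k * fr r k := fun k => by
    rw [SemilinearQuad.fr_mul, rho_eq_fr, ← SemilinearQuad.fr_add_idx hF]
  have hχ : ∀ i, ∃ k : F, k ≠ 0 ∧ wt m i k * fr r (rho m k * k) ≠ fr r (rho m k * k) := by
    intro i
    obtain ⟨k, hk, hne⟩ := wt_ne_one hF hm
    refine ⟨k, hk, fun h => hne i (mul_right_cancel₀ ?_ (h.trans (one_mul _).symm))⟩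
    exact fun h => mul_ne_zero (rho_ne_zero hk) hk (SemilinearQuad.fr_eq_zero.1 h)
  have hr3 : ∀ p x, φ 3 (pmul m p x) = φ 3 x + cb r (A p 3) x := fun p x => by
    simpa [umat, Fin.sum_univ_four] using hA p x 3
  have hr2 : ∀ p x, φ 2 (pmul m p x) = φ 2 x + p.1 * φ 3 x + cb r (A p 2) x := fun p x => by
    simpa [umat, Fin.sum_univ_four] using hA p x 2
  have hr1 : ∀ p x, φ 1 (pmul m p x) =
      φ 1 x + sig m p.1 * φ 2 x + p.2 * φ 3 x + cb r (A p 1) x := fun p x => by
    simpa [umat, Fin.sum_univ_four] using hA p x 1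
  have hr0 : ∀ p x, φ 0 (pmul m p x) = φ 0 x + p.1 * φ 1 x +
      (p.2 + p.1 * sig m p.1) * φ 2 x + fz m p.1 p.2 * φ 3 x + cb r (A p 0) x := fun p x => by
    simpa [umat, Fin.sum_univ_four] using hA p x 0
  -- the bottom row
  obtain ⟨d3, hd3, c3, t3, hφ3, hct3⟩ := shift_plain hF hm (r := r) (φ := φ 3)
    (fun p => ⟨A p 3, fun x => by rw [hr3]; ring⟩) (hφ0 3) (hH 3) (hχ 3)
  have hc3 : c3 = 0 := by
    by_contra hc
    obtain ⟨rfl, rfl⟩ := weight_three hF hm (r := r) (t := t3) fun k hk => by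
      have h := hct3 hc k hk
      rw [hpsi] at h
      simp only [wt, Matrix.cons_val] at h
      rw [inv_mul_eq_iff_eq_mul₀ (mul_ne_zero (rho_ne_zero hk) hk)] at h
      rw [h, rho_eq_fr, mul_comm]
    have hsm : (m : ZMod (2 * m + 1)) + 1 + (m : ZMod (2 * m + 1)) = 0 := by linear_combination hs
    obtain ⟨d2, -, hφ2⟩ := shift_linked hF hm (φ := φ 2) (c := c3)
      (fun p => ⟨A p 2 + p.1 • d3, fun x => by
        rw [hr2, cb_add, cb_smul, hφ3]
        simp only [fr_zero]
        ring⟩) (hφ0 2) (hH 2)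
      (fun k hk => by
        rw [hpsi, hsm, fr_zero, ← sig_eq_fr hF, SemilinearQuad.fr_mul, sig_fr hF,
          show (m : ZMod (2 * m + 1)) + ((m : ZMod (2 * m + 1)) + 1) = 0 by linear_combination hs,
          fr_zero, ← rho_eq_fr]
        simp only [wt, Matrix.cons_val]
        rw [inv_mul_eq_iff_eq_mul₀ (rho_ne_zero hk), ← rho_sq]
        ring)
      (fun t => by
        by_contra h
        push Not at h
        rcases weight_two hF hm (r := (m : ZMod (2 * m + 1)) + 1) (t := t) fun k hk => by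
          have h' := h k hk
          rw [hpsi] at h'
          simp only [wt, Matrix.cons_val] at h'
          rw [inv_mul_eq_iff_eq_mul₀ (rho_ne_zero hk)] at h'
          rw [h', rho_eq_fr, mul_comm] with h' | h'
        · exact hm1 h'.1
        · exact h10 (by linear_combination h'.1))
    exact hc (linked_zero hF hm (φ := φ 1) (c := c3)
      (fun p => ⟨A p 1 + sig m p.1 • d2 + p.2 • d3, fun x => by
        rw [hr1, cb_add, cb_add, cb_smul, cb_smul, hφ2, hφ3]
        ring⟩) (hφ0 1))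
  replace hφ3 : ∀ x, φ 3 x = cb r d3 x := fun x => by rw [hφ3 x.1 x.2, hc3]; simp
  -- the third row
  obtain ⟨d2, hd2, c2, t2, hφ2, hct2⟩ := shift_plain hF hm (r := r) (φ := φ 2)
    (fun p => ⟨A p 2 + p.1 • d3, fun x => by rw [hr2, cb_add, cb_smul, hφ3]; ring⟩)
    (hφ0 2) (hH 2) (hχ 2)
  obtain ⟨e2, he2, hφ2'⟩ : ∃ e2 : Fin 4 → F, e2 3 = 0 ∧ ∀ x, φ 2 x = cb r e2 x := by
    by_cases htr : t2 = r
    · exact ⟨d2 + ![0, 0, c2, 0], by simp [hd2], fun x => by
        have h := hφ2 x.1 x.2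
        rw [htr] at h
        rw [cb_absorb]
        exact h⟩
    have hc2 : c2 = 0 := by
      by_contra hc
      rcases weight_two hF hm (r := r) (t := t2) fun k hk => by
        have h := hct2 hc k hk
        rw [hpsi] at h
        simp only [wt, Matrix.cons_val] at h
        rw [inv_mul_eq_iff_eq_mul₀ (rho_ne_zero hk)] at h
        rw [h, rho_eq_fr, mul_comm] with ⟨rfl, rfl⟩ | ⟨rfl, rfl⟩
      · exact htr rfl
      exact hc (ext_zero hF hm (r := (m : ZMod (2 * m + 1)))
        (i := (m : ZMod (2 * m + 1)) + 1) (j := (m : ZMod (2 * m + 1)) + m) (φ := φ 1)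
        (fun p => ⟨A p 1 + sig m p.1 • d2 + p.2 • d3, fun x => by
          rw [hr1, cb_add, cb_add, cb_smul, cb_smul, hφ3, hφ2 x.1 x.2, sig_eq_fr hF]
          ring⟩) (hφ0 1) (hH 1)
        (fun h => h10 (by linear_combination h)) (fun h => hm0 (by linear_combination h))
        (fun h => hmm1 (by linear_combination h + hs))
        (fun h => hmm (by linear_combination -h)))
    exact ⟨d2, hd2, fun x => by rw [hφ2 x.1 x.2, hc2]; simp⟩
  -- the second row
  obtain ⟨d1, hd1, c1, t1, hφ1, hct1⟩ := shift_plain hF hm (r := r) (φ := φ 1)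
    (fun p => ⟨A p 1 + sig m p.1 • e2 + p.2 • d3, fun x => by
      rw [hr1, cb_add, cb_add, cb_smul, cb_smul, hφ2', hφ3]; ring⟩) (hφ0 1) (hH 1) (hχ 1)
  have hc1 : c1 = 0 := by
    by_contra hc
    obtain ⟨hm', rfl, rfl⟩ := weight_one hF hm (r := r) (t := t1) fun k hk => by
      have h := hct1 hc k hk
      rw [hpsi] at h
      simp only [wt, Matrix.cons_val] at h
      rw [← rho_eq_fr]
      exact h
    exact hc (ext_zero hF hm (r := (1 : ZMod (2 * m + 1))) (i := 0) (j := 0) (φ := φ 0)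
      (fun p => ⟨A p 0 + p.1 • d1 + (p.2 + p.1 * sig m p.1) • e2 + fz m p.1 p.2 • d3, fun x => by
        rw [hr0, cb_add, cb_add, cb_add, cb_smul, cb_smul, cb_smul, hφ2', hφ3, hφ1 x.1 x.2]
        simp only [fr_zero]
        ring⟩) (hφ0 0) (hH 0) (Ne.symm h10) (Ne.symm h10) (by simpa using Ne.symm hm1)
        (by simpa using Ne.symm hm1))
  replace hφ1 : ∀ x, φ 1 x = cb r d1 x := fun x => by rw [hφ1 x.1 x.2, hc1]; simp
  -- the top row
  obtain ⟨d0, hd0, c0, t0, hφ0', hct0⟩ := shift_plain hF hm (r := r) (φ := φ 0)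
    (fun p => ⟨A p 0 + p.1 • d1 + (p.2 + p.1 * sig m p.1) • e2 + fz m p.1 p.2 • d3, fun x => by
      rw [hr0, cb_add, cb_add, cb_add, cb_smul, cb_smul, cb_smul, hφ2', hφ3, hφ1]; ring⟩)
    (hφ0 0) (hH 0) (hχ 0)
  obtain ⟨e0, he0, c, hφ00⟩ : ∃ e0 : Fin 4 → F, e0 3 = 0 ∧ ∃ c : F,
      ∀ x, φ 0 x = cb r e0 x + c * x.1 := by
    by_cases hc : c0 = 0
    · exact ⟨d0, hd0, 0, fun x => by rw [hφ0' x.1 x.2, hc]; simp⟩
    rcases weight_zero hF hm (r := r) (t := t0) fun k hk => by
      have h := hct0 hc k hk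
      rw [hpsi] at h
      simp only [wt, Matrix.cons_val] at h
      rw [← rho_eq_fr]
      exact h with h | ⟨h, -⟩
    · exact ⟨d0 + ![0, 0, c0, 0], by simp [hd0], 0, fun x => by
        have h' := hφ0' x.1 x.2
        rw [h] at h'
        rw [cb_absorb, zero_mul, add_zero]
        exact h'⟩
    · exact ⟨d0, hd0, c0, fun x => by rw [hφ0' x.1 x.2, h, fr_zero]⟩
  refine ⟨Matrix.of ![e0, ![d1 0, d1 1, d1 2, c], e2, d3], fun ⟨a, b⟩ i => ?_⟩
  show φ i (a, b) = _
  fin_cases i <;>
    simp [hφ00, hφ1, hφ2', hφ3, umat, Fin.sum_univ_four, he0, hd1, he2, hd3, cb_eq] <;>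
    first
      | ring1
      | linear_combination (c) * two_eq_zero hF
      | linear_combination (-c) * two_eq_zero hF

end Cfsg.Agent.CNStruct80
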