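import Cfsg.Agent.CNStruct80.Basic
import Mathlib

/-!
# Functions on the unipotent radical of the Suzuki group

The products over all Frobenius twists of the last column of a root element form a basis of all
functions of the two parameters.
-/

set_option autoImplicit false

namespace Cfsg.Agent.CNStruct80

open Matrix Cfsg.Agent.Suzuki

variable {F : Type*} [Field F] {m : ℕ}

/-- The multiplication of parameters of root elements. -/
def pmul (m : ℕ) (p r : F × F) : F × F := (p.1 + r.1, p.2 + r.2 + sig m p.1 * r.1)

/-- The last column of a root element. -/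
def col (m : ℕ) (p : F × F) : Fin 4 → F := pv m p.1 p.2

/-- The product of twisted coordinates selected by `s`. -/
def prodCol (m : ℕ) {k : ℕ} (e : Fin k → ℕ) (s : Fin k → Fin 4) (p : F × F) : F :=
  ∏ x, (col m p (s x)) ^ 2 ^ e x

section
variable [Fintype F] (hF : Fintype.card F = 2 ^ (2 * m + 1))
include hF

theorem U_mul' (p r : F × F) :
    U hF p.1 p.2 * U hF r.1 r.2 = U hF (pmul m p r).1 (pmul m p r).2 := U_mul hF _ _ _ _

theorem umat_mulVec_col (p r : F × F) : umat m p.1 p.2 *ᵥ col m r = col m (pmul m p r) := by
  have h : fz m (p.1 + r.1) (p.2 + r.2 + sig m p.1 * r.1) =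
      fz m r.1 r.2 + p.1 * r.2 + (p.2 + p.1 * sig m p.1) * r.1 + fz m p.1 p.2 := by
    rw [add_comm p.1, add_comm p.2, fz_add hF]
  ext i
  fin_cases i <;>
    simp [umat, col, pv, pmul, h, Matrix.mulVec, dotProduct, Fin.sum_univ_four] <;> ring

omit [Fintype F] hF in
theorem col_eq_mulVec (p : F × F) : col m p = umat m p.1 p.2 *ᵥ Pi.single 3 1 := by
  ext i
  fin_cases i <;> simp [umat, col, pv, Matrix.mulVec_single]

theorem pmul_inv (p : F × F) : ∃ q, ∀ r, pmul m q (pmul m p r) = r := by
  refine ⟨(p.1, p.2 + sig m p.1 * p.1), fun r => Prod.ext ?_ ?_⟩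
  · simp only [pmul]; linear_combination p.1 * two_eq_zero hF
  · simp only [pmul]
    linear_combination (p.2 + sig m p.1 * r.1 + sig m p.1 * p.1) * two_eq_zero hF

/-- The full products span all functions. -/
theorem span_prodCol : Submodule.span F (Set.range fun s : Fin (2 * m + 1) → Fin 4 =>
    prodCol (F := F) m (fun x => (x : ℕ)) s) = ⊤ := by
  classical
  have := charP_two hF
  set S := Submodule.span F (Set.range fun s : Fin (2 * m + 1) → Fin 4 =>
    prodCol (F := F) m (fun x => (x : ℕ)) s) with hS
  -- invariance under translations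
  have htr : ∀ p, ∀ φ ∈ S, (fun r => φ (pmul m p r)) ∈ S := by
    intro p φ hφ
    let L : (F × F → F) →ₗ[F] (F × F → F) := LinearMap.funLeft F F (pmul m p)
    suffices S ≤ S.comap L from this hφ
    rw [hS, Submodule.span_le]
    rintro _ ⟨s, rfl⟩
    show (fun r => prodCol m _ s (pmul m p r)) ∈ S
    have he : (fun r => prodCol m (fun x : Fin (2 * m + 1) => (x : ℕ)) s (pmul m p r)) =
        ∑ t : Fin (2 * m + 1) → Fin 4,
          (∏ x, umat m p.1 p.2 (s x) (t x) ^ 2 ^ (x : ℕ)) •
            prodCol m (fun x : Fin (2 * m + 1) => (x : ℕ)) t := by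
      funext r
      simp only [Finset.sum_apply, Pi.smul_apply, smul_eq_mul, prodCol, ← umat_mulVec_col hF,
        Matrix.mulVec, dotProduct, sum_pow_char_pow (p := 2), Fintype.prod_sum, mul_pow,
        Finset.prod_mul_distrib]
    rw [he]
    exact sum_mem fun t _ => S.smul_mem _ (Submodule.subset_span ⟨t, rfl⟩)
  -- the indicator of the origin
  have hδ : (fun r : F × F => if r = 0 then (1 : F) else 0) ∈ S := by
    have h1 : (fun r : F × F => if r = 0 then (1 : F) else 0) =
        prodCol m (fun x : Fin (2 * m + 1) => (x : ℕ)) (fun _ => 3) +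
          prodCol m (fun x : Fin (2 * m + 1) => (x : ℕ)) (fun _ => 0) := by
      funext r
      simp only [Pi.add_apply, prodCol]
      rw [Finset.prod_pow_eq_pow_sum, Finset.prod_pow_eq_pow_sum,
        Fin.sum_univ_eq_sum_range (fun x => 2 ^ x), Nat.geomSum_eq le_rfl]
      simp only [Nat.add_one_sub_one, Nat.div_one, col, pv, Matrix.cons_val, one_pow]
      by_cases hr : r = 0
      · subst hr
        rw [if_pos rfl, show fz m (0 : F × F).1 (0 : F × F).2 = 0 from
          (fz_eq_zero hF).2 ⟨rfl, rfl⟩, zero_pow, add_zero]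
        exact Nat.sub_ne_zero_of_lt (Nat.one_lt_two_pow (by omega))
      · rw [if_neg hr, ← hF, FiniteField.pow_card_sub_one_eq_one, add_self hF]
        intro h0
        exact hr (Prod.ext ((fz_eq_zero hF).1 h0).1 ((fz_eq_zero hF).1 h0).2)
    rw [h1]
    exact add_mem (Submodule.subset_span ⟨_, rfl⟩) (Submodule.subset_span ⟨_, rfl⟩)
  have hall : ∀ p : F × F, (fun r : F × F => if r = p then (1 : F) else 0) ∈ S := by
    intro p
    obtain ⟨q, hq⟩ := pmul_inv hF p
    have hp : pmul m p 0 = p := Prod.ext (by simp [pmul]) (by simp [pmul])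
    have hq0 : pmul m q p = 0 := by simpa [hp] using hq 0
    have h2 := htr q _ hδ
    convert h2 using 1
    funext r
    have hinj : Function.Injective (pmul m q) := by
      obtain ⟨q', hq'⟩ := pmul_inv hF q
      exact Function.LeftInverse.injective hq'
    refine if_congr ⟨fun h => by rw [h, hq0], fun h => hinj (by rw [h, hq0])⟩ rfl rfl
  rw [eq_top_iff]
  intro φ _
  have : φ = ∑ p : F × F, φ p • fun r : F × F => if r = p then (1 : F) else 0 := by
    funext r
    simp
  rw [this]
  exact sum_mem fun p _ => S.smul_mem _ (hall p)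

/-- The full products are linearly independent. -/
theorem linearIndependent_prodCol : LinearIndependent F fun s : Fin (2 * m + 1) → Fin 4 =>
    prodCol (F := F) m (fun x => (x : ℕ)) s := by
  refine linearIndependent_of_top_le_span_of_card_eq_finrank (span_prodCol hF).ge ?_
  rw [Module.finrank_pi, Fintype.card_fun, Fintype.card_fin, Fintype.card_fin, Fintype.card_prod, hF,
    ← pow_add, show (4 : ℕ) = 2 ^ 2 by norm_num, ← pow_mul]
  ring_nf

/-- Products over distinct twists are linearly independent. -/
theorem linearIndependent_sub {k : ℕ} (e : Fin k → Fin (2 * m + 1)) (he : Function.Injective e) :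
    LinearIndependent F fun s : Fin k → Fin 4 => prodCol (F := F) m (fun x => (e x : ℕ)) s := by
  classical
  have h := (linearIndependent_prodCol hF).comp
    (fun s : Fin k → Fin 4 => Function.extend e s fun _ => 3)
    (fun s t hst => funext fun x => by
      have := congrFun hst (e x)
      simpa [he.extend_apply] using this)
  convert h using 1
  funext s p
  simp only [Function.comp_apply, prodCol]
  rw [← Fintype.prod_subset (s := Finset.univ.image e) (fun x hx => ?_),
    Finset.prod_image he.injOn]
  · simp [he.extend_apply]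
  · by_contra hxe
    refine hx ?_
    rw [Function.extend_apply' _ _ _ (fun ⟨y, hy⟩ => hxe (hy ▸ Finset.mem_image_of_mem e (Finset.mem_univ y)))]
    simp [col, pv]

/-- The twisted coordinates of the last column are linearly independent functions. -/
theorem col_indep (x : ℕ) (c : Fin 4 → F) (h : ∀ p, ∑ l, c l * col m p l ^ 2 ^ x = 0) : c = 0 := by
  have hli := linearIndependent_sub hF (fun _ : Fin 1 => (⟨x % (2 * m + 1), Nat.mod_lt _ (by omega)⟩ :
    Fin (2 * m + 1))) (Function.injective_of_subsingleton _)
  have hx : ∀ y : F, y ^ 2 ^ (x % (2 * m + 1)) = y ^ 2 ^ x := by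
    intro y
    conv_rhs => rw [← Nat.mod_add_div x (2 * m + 1), pow_add, pow_mul, pow_mul, ← hF]
    rw [FiniteField.pow_card_pow]
  have hz := Fintype.linearIndependent_iff.1 hli (fun s => c (s 0)) (by
    funext p
    rw [Finset.sum_apply, Pi.zero_apply, ← h p]
    refine Fintype.sum_equiv (Equiv.funUnique (Fin 1) (Fin 4)) _ _ fun s => ?_
    simp [prodCol, hx])
  funext l
  exact hz fun _ => l

end

end Cfsg.Agent.CNStruct80
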