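import Cfsg.Agent.CNStruct80.Cit
import Cfsg.Agent.CNStruct80.Almost
import Cfsg.Agent.CharDeep.OrderP.Recog
import Cfsg.Agent.S3050
import Cfsg.Prelude.Def_Exceptional
import Cfsg.Prelude.Def_Sz

/-!
# The structure of non-solvable CN-groups

The largest normal `2`-subgroup is elementary abelian; in the Suzuki case this is a hypothesis,
supplied where the theorem is applied.
-/

set_option autoImplicit false

namespace Cfsg.Agent.CNStruct80

open Subgroup
open PGraphCIT (IsCIT)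

universe u

/-- Elementary abelian kernels over Suzuki groups. -/
def SuzukiElementary : Prop :=
  ∀ (G : Type u) [Group G] [Finite G] (Q : Subgroup G) [Q.Normal], IsPGroup 2 Q →
    Cfsg.Lie.IsoSuzuki (G ⧸ Q) →
    (∀ x : G, Odd (orderOf x) → ∀ q ∈ Q, q ≠ 1 → Commute x q → x = 1) →
    IsMulCommutative Q ∧ ∀ q ∈ Q, q * q = 1

/-- A nontrivial elementary abelian module of the quotient on which no element of odd order
fixes a vector. -/
theorem exists_module {G : Type u} [Group G] [Finite G] (hcit : IsCIT G) (Q : Subgroup G)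
    [Q.Normal] (hQ : IsPGroup 2 Q) (hQb : Q ≠ ⊥) :
    ∃ (V : Type u) (_ : CommGroup V) (_ : Finite V) (_ : Nontrivial V) (φ : G ⧸ Q →* MulAut V),
      (∀ v : V, v * v = 1) ∧ CIT.OddFpf φ := by
  classical
  have : Fact (Nat.Prime 2) := ⟨Nat.prime_two⟩
  let A : Subgroup G :=
    { carrier := {x | x ∈ Q ∧ (∀ q ∈ Q, q * x = x * q) ∧ x * x = 1}
      one_mem' := ⟨one_mem Q, fun q _ => by simp, one_mul 1⟩
      mul_mem' := fun {a b} ha hb => ⟨mul_mem ha.1 hb.1,
        fun q hq => by rw [← mul_assoc, ha.2.1 q hq, mul_assoc, hb.2.1 q hq, mul_assoc],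
        by
          calc a * b * (a * b) = a * (b * a) * b := by simp only [mul_assoc]
            _ = a * a * (b * b) := by rw [ha.2.1 b hb.1]; simp only [mul_assoc]
            _ = 1 := by rw [ha.2.2, hb.2.2, one_mul]⟩
      inv_mem' := fun {a} ha => by
        rw [Set.mem_setOf_eq, inv_eq_of_mul_eq_one_right ha.2.2]
        exact ha }
  have hmem : ∀ {x : G}, x ∈ A ↔ x ∈ Q ∧ (∀ q ∈ Q, q * x = x * q) ∧ x * x = 1 := Iff.rfl
  have hAn : A.Normal := by
    refine ⟨fun a ha g => hmem.2 ⟨‹Q.Normal›.conj_mem a ha.1 g, fun q hq => ?_, ?_⟩⟩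
    · have h1 := ha.2.1 _ (by simpa using ‹Q.Normal›.conj_mem q hq g⁻¹ : g⁻¹ * q * g ∈ Q)
      calc q * (g * a * g⁻¹) = g * (g⁻¹ * q * g * a) * g⁻¹ := by group
        _ = g * (a * (g⁻¹ * q * g)) * g⁻¹ := by rw [h1]
        _ = g * a * g⁻¹ * q := by group
    · rw [show g * a * g⁻¹ * (g * a * g⁻¹) = g * (a * a) * g⁻¹ by group, ha.2.2]
      group
  letI : CommGroup A :=
    { (inferInstance : Group A) with
      mul_comm := fun a b => Subtype.ext (b.2.2.1 a a.2.1) }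
  have hne : Nontrivial A := by
    haveI : Nontrivial Q := (nontrivial_iff_ne_bot Q).2 hQb
    haveI := hQ.center_nontrivial
    obtain ⟨n, hn⟩ := IsPGroup.iff_card.1 (hQ.to_subgroup (center Q))
    have h2 : 2 ∣ Nat.card (center Q) := by
      rw [hn]
      refine dvd_pow_self 2 fun h0 => ?_
      have := Finite.one_lt_card (α := center Q)
      rw [hn, h0, pow_zero] at this
      omega
    obtain ⟨z, hz⟩ := exists_prime_orderOf_dvd_card' (G := center Q) 2 h2
    have hz' : orderOf (((z : Q) : G)) = 2 := by rw [orderOf_coe, orderOf_coe, hz]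
    have hzA : ((z : Q) : G) ∈ A := hmem.2 ⟨(z : Q).2,
      fun q hq => congrArg Subtype.val (mem_center_iff.1 z.2 ⟨q, hq⟩),
      by rw [← pow_two, ← hz', pow_orderOf_eq_one]⟩
    refine ⟨⟨⟨_, hzA⟩, 1, fun e => ?_⟩⟩
    have e1 : ((z : Q) : G) = 1 := congrArg Subtype.val e
    rw [e1, orderOf_one] at hz'
    omega
  let c : G →* MulAut A := MulAut.conjNormal
  have hker : Q ≤ c.ker := by
    intro q hq
    rw [MonoidHom.mem_ker]
    refine MulEquiv.ext fun a => Subtype.ext ?_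
    show (q : G) * a * q⁻¹ = a
    rw [a.2.2.1 q hq, mul_inv_cancel_right]
  refine ⟨A, inferInstance, inferInstance, hne, QuotientGroup.lift Q c hker,
    fun a => Subtype.ext a.2.2.2, ?_⟩
  intro x hxo hx1 v hv
  by_contra hv1
  obtain ⟨g, rfl⟩ := QuotientGroup.mk'_surjective Q x
  obtain ⟨k, m, hm, hkm⟩ :=
    Nat.exists_eq_pow_mul_and_not_dvd (orderOf_pos g).ne' 2 (by norm_num)
  set w := g ^ 2 ^ k with hw
  have hwo : Odd (orderOf w) := by
    rw [hw, orderOf_pow, hkm, Nat.gcd_eq_right (dvd_mul_right _ m),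
      Nat.mul_div_cancel_left _ (pow_pos two_pos k), Nat.odd_iff]
    exact Nat.two_dvd_ne_zero.1 hm
  have hgv : g * (v : G) * g⁻¹ = v := congrArg Subtype.val hv
  have hc : Commute (v : G) w := by
    rw [hw]
    have hgv' : Commute g (v : G) := mul_inv_eq_iff_eq_mul.1 hgv
    exact (hgv'.pow_left _).symm
  have hw1 := hcit.eq_one_of_mem_twoGroup hQ v.2.1 (fun e => hv1 (Subtype.ext e)) hc hwo
  apply hx1
  have h2 : (QuotientGroup.mk' Q g) ^ 2 ^ k = 1 := by rw [← map_pow, ← hw, hw1, map_one]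
  exact orderOf_eq_one_iff.1 (Nat.eq_one_of_dvd_one
    (((Nat.coprime_two_left.2 hxo).pow_left k).gcd_eq_one ▸
      Nat.dvd_gcd (orderOf_dvd_of_pow_eq_one h2) dvd_rfl))

/-- The structure of a non-solvable CN-group. -/
theorem structure_of_cn (hsuz : SuzukiElementary.{u}) {G : Type u} [Group G] [Finite G]
    (hG : ¬ Group.IsSolvable G) (hCN : Cfsg.IsCNGroup G) :
    (IsSimpleGroup G ∧ ¬ IsMulCommutative G) ∨
    (∃ (N : Subgroup G), N.Normal ∧ N.index = 2 ∧ ∃ (F : Type) (_ : Field F) (_ : Fintype F), Fintype.card F = 9 ∧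
        Nonempty (N ≃* Matrix.ProjectiveSpecialLinearGroup (Fin 2) F)) ∨
    (∃ (N : Subgroup G) (_ : N.Normal), N ≠ ⊥ ∧ IsPGroup 2 N ∧ IsMulCommutative N ∧ (∀ x ∈ N, x * x = 1) ∧
        ((∃ (F : Type) (_ : Field F) (_ : Fintype F), CharP F 2 ∧ 4 ≤ Fintype.card F ∧
            Nonempty (G ⧸ N ≃* Matrix.ProjectiveSpecialLinearGroup (Fin 2) F)) ∨ Cfsg.IsSuzuki (G ⧸ N))) := by
  classical
  have : Fact (Nat.Prime 2) := ⟨Nat.prime_two⟩
  have hcit := isCIT hG hCN
  set Q := Cfsg.pCore 2 G with hQdef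
  by_cases hQb : Q = ⊥
  · obtain ⟨N, hNn, hNs, hNa, hC⟩ := hcit.exists_simple hG hQb
    rcases almost hcit N hNa hC with htop | ⟨hidx, hF⟩
    · subst htop
      exact Or.inl ⟨topEquiv.isSimpleGroup_congr.1 hNs, fun h => hNa ⟨⟨fun a b =>
        Subtype.ext (h.is_comm.comm (a : G) b)⟩⟩⟩
    · exact Or.inr (Or.inl ⟨N, hNn, hidx, hF⟩)
  refine Or.inr (Or.inr ?_)
  have hQp : IsPGroup 2 Q := Thompson.isPGroup_pCore
  have hfpf : ∀ x : G, Odd (orderOf x) → ∀ q ∈ Q, q ≠ 1 → Commute x q → x = 1 :=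
    fun x hx q hq hq1 hc => hcit.eq_one_of_mem_twoGroup hQp hq hq1 hc.symm hx
  have hX := hcit.quotient Q hQp
  have hnsX : ¬ Group.IsSolvable (G ⧸ Q) := fun hsol => by
    have := hQp.isNilpotent
    exact hG (Group.isSolvable_of_ker_le_range Q.subtype (QuotientGroup.mk' Q)
      (by rw [range_subtype, QuotientGroup.ker_mk']))
  obtain ⟨V, iV, iVf, iVn, φ, hV, hφ⟩ := exists_module hcit Q hQp hQb
  obtain ⟨N, hNn, hNs, hNa, hC⟩ := hX.exists_simple hnsX PGraphCIT.pCore_quotient_eq_bot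
  rcases almost hX N hNa hC with htop | ⟨-, F, iF, iT, h9, ⟨e⟩⟩
  swap
  · exact absurd (hφ.comp N.subtype N.subtype_injective)
      (CIT.psl_odd_no_fpf (Or.inl h9) (by omega) e hV)
  subst htop
  haveI : IsSimpleGroup (G ⧸ Q) := topEquiv.isSimpleGroup_congr.1 hNs
  have hab : ∃ a b : G ⧸ Q, a * b ≠ b * a := by
    by_contra hc
    exact hNa ⟨⟨fun a b => Subtype.ext (by_contra fun e => hc ⟨a, b, e⟩)⟩⟩
  have hTI : CIT.TI (G ⧸ Q) := CIT.good (Nat.card (G ⧸ Q) + 1) (G ⧸ Q) (Nat.lt_succ_self _) hX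
    PGraphCIT.pCore_quotient_eq_bot V φ hV hφ
  rcases CIT.ti_simple hab hX hTI with ⟨F, iF, iT, ⟨n, hn⟩, ⟨e⟩⟩ | ⟨hiso, hS⟩
  · have h4 := EPPO42.four_le_card hab e
    have hn2 : 2 ≤ n := by
      by_contra h
      have : 2 ^ n ≤ 2 ^ 1 := Nat.pow_le_pow_right two_pos (by omega)
      omega
    have hchar := CharDeep.OrderP.charP_two_of_card hn
    obtain ⟨ePS⟩ := CharDeep.OrderP.nonempty_psl_equiv_sl hn
    have h3 : 3 ∣ Nat.card G := by
      refine dvd_trans ?_ (card_quotient_dvd_card Q)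
      rw [Nat.card_congr e.toEquiv, ← orderOf_mk (s := triMat (F := F)) Nat.prime_three triMat_cube
        (i := 1) (j := 0) (by decide) (by simp [triMat])]
      exact orderOf_dvd_natCard _
    haveI := Fact.mk Nat.prime_three
    obtain ⟨x, hx⟩ := exists_prime_orderOf_dvd_card' (G := G) 3 h3
    obtain ⟨hel, -⟩ := S3050.result Q hQp n hn2 F hn (e.trans ePS) x hx fun q hq hxq => by
      by_contra hq1
      rw [hfpf x (by rw [hx]; decide) q hq hq1 (mul_inv_eq_iff_eq_mul.1 hxq), orderOf_one] at hx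
      omega
    exact ⟨Q, inferInstance, hQb, hQp, hel.1, fun a ha => by rw [← pow_two]; exact hel.2 a ha,
      Or.inl ⟨F, iF, iT, hchar, by omega, ⟨e⟩⟩⟩
  · obtain ⟨hc, hsq⟩ := hsuz G Q hQp hiso hfpf
    exact ⟨Q, inferInstance, hQb, hQp, hc, hsq, Or.inr hS⟩

end Cfsg.Agent.CNStruct80
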