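import Cfsg.Agent.CNStruct80.Basic
import Mathlib

/-!
# The natural module of a Suzuki group does not lift to `ℤ / 4`

Only the elementary abelian subgroup of the elements `U 0 b` is used.
-/

set_option autoImplicit false

namespace Cfsg.Agent.CNStruct80

open Matrix Cfsg.Agent.Suzuki

variable {F : Type*} [Field F] {m : ℕ}

/-- Embedding of pairs as the upper two coordinates. -/
def upV (u : F × F) : Fin 4 → F := ![u.1, u.2, 0, 0]

/-- Embedding of pairs as the lower two coordinates. -/
def dnV (u : F × F) : Fin 4 → F := ![0, 0, u.1, u.2]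

/-- The lower two coordinates. -/
def loV (v : Fin 4 → F) : F × F := (v 2, v 3)

/-- The map induced by a central root element. -/
def mMap (m : ℕ) (b : F) (z : F × F) : F × F := (b * z.1 + sig m b * z.2, b * z.2)

theorem upV_add (u u' : F × F) : upV (u + u') = upV u + upV u' := by
  ext i; fin_cases i <;> simp [upV]

theorem loV_upV (u : F × F) : loV (upV u) = 0 := by
  simp [upV, loV, Prod.ext_iff]

theorem mMap_add (b : F) (z z' : F × F) : mMap m b (z + z') = mMap m b z + mMap m b z' := by
  simp only [mMap, Prod.ext_iff, Prod.fst_add, Prod.snd_add]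
  constructor <;> ring

variable [Fintype F] (hF : Fintype.card F = 2 ^ (2 * m + 1))
include hF

/-- Doubling-inverse lifts of the natural module do not exist. -/
theorem no_lift (hm : 1 ≤ m) {R : Type*} [AddCommGroup R] (ρ : Cfsg.Sz F m →* AddMonoid.End R)
    (ι : (Fin 4 → F) →+ R) (π : R →+ (Fin 4 → F)) (hι : Function.Injective ι)
    (hπ : Function.Surjective π) (hker : ∀ x, π x = 0 → ∃ v, ι v = x)
    (hdbl : ∀ x, ι (π x) = x + x)
    (hιq : ∀ g v, ι (natHom F m g v) = ρ g (ι v))
    (hπq : ∀ g x, π (ρ g x) = natHom F m g (π x)) : False := by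
  classical
  have := charP_two hF
  have hVV : ∀ v : Fin 4 → F, v + v = 0 := fun v => funext fun i => add_self hF (v i)
  have hFF : ∀ u : F × F, u + u = 0 := fun u => Prod.ext (add_self hF u.1) (add_self hF u.2)
  -- the operators
  let N : F → R →+ R := fun b =>
    AddMonoidHom.mk' (fun x => ρ (U hF 0 b) x - x) (fun x y => by simp only [map_add]; abel)
  have hN : ∀ b x, N b x = ρ (U hF 0 b) x - x := fun b x => rfl
  have hUU : ∀ b c : F, U hF 0 b * U hF 0 c = U hF 0 (b + c) := fun b c => by
    rw [U_mul, add_zero, mul_zero, add_zero]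
  have hρ : ∀ b c x, ρ (U hF 0 b) (ρ (U hF 0 c) x) = ρ (U hF 0 (b + c)) x := fun b c x => by
    rw [← hUU, map_mul]; rfl
  have hNN : ∀ b c x, N b (N c x) = N (b + c) x - N b x - N c x := fun b c x => by
    simp only [hN, map_sub, hρ]; abel
  have hMv : ∀ (b : F) (v : Fin 4 → F),
      natHom F m (U hF 0 b) v - v = upV (mMap m b (loV v)) := by
    intro b v
    rw [natHom_apply, natM_U]
    ext i
    fin_cases i <;>
      simp [umat, upV, mMap, loV, fz, sig_zero, Matrix.mulVec, dotProduct, Fin.sum_univ_four] <;> ring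
  have hπN : ∀ b x, π (N b x) = upV (mMap m b (loV (π x))) := fun b x => by
    rw [hN, map_sub, hπq, hMv]
  have hιN : ∀ b v, N b (ι v) = ι (upV (mMap m b (loV v))) := fun b v => by
    rw [hN, ← hιq, ← map_sub, hMv]
  -- sections
  choose L0 hL0 using fun z : F × F => hπ (dnV z)
  have hM1 : ∀ z : F × F, mMap m 1 (mMap m 1 z) = z := fun z => by
    simp only [mMap, sig_one, one_mul, add_assoc, add_self hF, add_zero]
  let L1 : F × F → R := fun u => N 1 (L0 (mMap m 1 u))
  have hdn : ∀ z : F × F, loV (dnV z) = z := fun z => by simp [loV, dnV]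
  have hL1 : ∀ u, π (L1 u) = upV u := fun u => by
    rw [hπN, hL0, hdn, hM1]
  have hπι : ∀ v, π (ι v) = 0 := fun v => hι (by rw [hdbl, ← map_add, hVV, map_zero])
  -- the correction
  have hex : ∀ b z, ∃ ξ, N b (L0 z) - L1 (mMap m b z) = ι ξ := fun b z => by
    obtain ⟨v, hv⟩ := hker (N b (L0 z) - L1 (mMap m b z))
      (by rw [map_sub, hπN, hL0, hdn, hL1, sub_self])
    exact ⟨v, hv.symm⟩
  choose ξ hξ using hex
  let p : F → F × F → F × F := fun b z => loV (ξ b z)
  have hξ' : ∀ b z, N b (L0 z) = L1 (mMap m b z) + ι (ξ b z) := fun b z => by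
    rw [← hξ b z]; abel
  -- defects of the sections
  have hd0 : ∀ z z', ∃ y, L0 (z + z') = L0 z + L0 z' + ι y := fun z z' => by
    obtain ⟨v, hv⟩ := hker (L0 (z + z') - (L0 z + L0 z')) (by
      rw [map_sub, map_add, hL0, hL0, hL0]
      ext i; fin_cases i <;> simp [dnV])
    exact ⟨v, by rw [hv]; abel⟩
  have hd1 : ∀ u u', ∃ y, L1 (u + u') = L1 u + L1 u' + ι (upV y) := fun u u' => by
    obtain ⟨y, hy⟩ := hd0 (mMap m 1 u) (mMap m 1 u')
    refine ⟨mMap m 1 (loV y), ?_⟩
    show N 1 (L0 (mMap m 1 (u + u'))) = _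
    rw [mMap_add, hy, map_add, map_add, hιN]
  -- the second iterate
  have hsq : ∀ b x, N b (N b x) = ι (upV (mMap m b (loV (π x)))) := fun b x => by
    rw [← hπN, hdbl, hNN, add_self hF, show N 0 x = 0 by
      rw [hN, U_zero, map_one]; exact sub_self x]
    have h2 : ι (π (N b x)) + ι (π (N b x)) = 0 := by rw [← map_add, hVV, map_zero]
    rw [hdbl] at h2
    have key : (0 : R) - N b x - N b x = N b x + N b x + -(N b x + N b x + (N b x + N b x)) := by abel
    rw [key, h2, neg_zero, add_zero]
  have hkey : ∀ b z, N b (L1 (mMap m 1 z)) = ι (upV (mMap m b z + mMap m 1 (p b z))) := by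
    intro b z
    show N b (N 1 (L0 (mMap m 1 (mMap m 1 z)))) = _
    rw [hM1, show N b (N 1 (L0 z)) = N 1 (N b (L0 z)) by rw [hNN, hNN, add_comm b 1]; abel, hξ',
      map_add, hιN]
    have : N 1 (L1 (mMap m b z)) = ι (upV (mMap m b z)) := by
      show N 1 (N 1 _) = _
      rw [hsq, hL0, hdn, hM1]
    rw [this, upV_add, map_add]
  -- additivity of the correction
  have hp_uniq : ∀ b z v, N b (L0 z) = L1 (mMap m b z) + ι v → p b z = loV v := fun b z v hv => by
    rw [hξ', add_left_cancel_iff] at hv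
    show loV (ξ b z) = loV v
    rw [hι hv]
  have hp_z : ∀ b z z', p b (z + z') = p b z + p b z' := by
    intro b z z'
    obtain ⟨y, hy⟩ := hd0 z z'
    obtain ⟨y', hy'⟩ := hd1 (mMap m b z) (mMap m b z')
    rw [hp_uniq b (z + z') (ξ b z + ξ b z' + (upV (mMap m b (loV y)) - upV y')) (by
      rw [hy, map_add, map_add, hιN, hξ', hξ', mMap_add, hy', map_add, map_add, map_sub]; abel)]
    simp [p, loV, upV]
  have hp_b : ∀ b c z, p (b + c) z = p b z + p c z := by
    intro b c z
    obtain ⟨y', hy'⟩ := hd1 (mMap m b z) (mMap m c z)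
    have hNbc : N (b + c) (L0 z) = N b (L0 z) + N c (L0 z) + N b (N c (L0 z)) := by
      rw [hNN]; abel
    obtain ⟨w, hw⟩ : ∃ w, N b (N c (L0 z)) = ι (upV w) := ⟨_, by
      rw [hξ', map_add, hιN, ← hM1 (mMap m c z), hkey, ← map_add, ← upV_add]⟩
    have hmm : mMap m (b + c) z = mMap m b z + mMap m c z := by
      simp only [mMap, sig_add hF, Prod.ext_iff, Prod.fst_add, Prod.snd_add]
      constructor <;> ring
    rw [hp_uniq (b + c) z (ξ b z + ξ c z + (upV w - upV y')) (by
      rw [hNbc, hw, hξ', hξ', hmm, hy', map_add, map_add, map_sub]; abel)]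
    simp [p, loV, upV]
  -- the main equation
  have heq : ∀ b z, mMap m b (mMap m 1 (mMap m b z)) + mMap m 1 (p b (mMap m 1 (mMap m b z)))
      + mMap m b (p b z) = mMap m b z := by
    intro b z
    have h1 := hsq b (L0 z)
    rw [hL0, hdn, hξ', map_add, hιN, ← hM1 (mMap m b z), hkey, hM1, ← map_add, ← upV_add] at h1
    have h2 := congrArg (fun v : Fin 4 → F => (v 0, v 1)) (hι h1)
    simpa [upV, p, Prod.ext_iff] using h2
  let x : F → F := fun b => ∑ l : F, l⁻¹ * (p b (l, 0)).1
  let y : F → F := fun b => ∑ l : F, l⁻¹ * (p b (0, l)).1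
  let w : F → F := fun b => ∑ l : F, l⁻¹ * (p b (0, l)).2
  have hrow : ∀ b : F, (b + sig m b) * (x b + w b) = b + sig m b := by
    intro b
    rcases eq_or_ne b 0 with rfl | hb
    · simp [sig_zero]
    rcases eq_or_ne (b + sig m b) 0 with hg | hg
    · simp [hg]
    have hl : ∀ l : F, (p b ((b + sig m b) * l, 0)).1 + (p b (0, b * l)).1 + b * (p b (0, l)).1
        + (b + sig m b) * (p b (0, l)).2 = (b + sig m b) * l := by
      intro l
      have h := congrArg (mMap m 1) (heq b (0, l))
      rw [mMap_add, mMap_add, hM1] at h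
      have e : mMap m 1 (mMap m b (0, l)) = ((b + sig m b) * l, 0) + (0, b * l) := by
        simp only [mMap, sig_one, Prod.mk_add_mk, Prod.ext_iff]
        constructor <;> ring
      rw [e, hp_z] at h
      have h' := congrArg Prod.fst h
      simp only [mMap, sig_one, Prod.fst_add, Prod.snd_add, Prod.mk_add_mk, one_mul, mul_zero,
        zero_mul, zero_add, add_zero] at h'
      linear_combination h' - (b * (b + sig m b) * l) * two_eq_zero hF
    have hs := Finset.sum_congr rfl (fun l (_ : l ∈ (Finset.univ : Finset F)) =>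
      congrArg (fun t => l⁻¹ * t) (hl l))
    have r1 : ∀ c : F, c ≠ 0 → ∀ f : F → F, ∑ l : F, l⁻¹ * f (c * l) = c * ∑ l : F, l⁻¹ * f l :=
      fun c hc f => by
        rw [Finset.mul_sum]
        refine Fintype.sum_equiv (Equiv.mulLeft₀ c hc) _ _ fun l => ?_
        simp only [Equiv.mulLeft₀_apply, _root_.mul_inv_rev]
        field_simp
    have r2 : ∑ l : F, l⁻¹ * l = (1 : F) := by
      rw [Fintype.sum_eq_add_sum_compl 0, mul_zero, zero_add,
        Finset.sum_congr rfl (g := fun _ => (1 : F))
          (fun l hl => inv_mul_cancel₀ (show l ≠ 0 by simpa using hl)),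
        Finset.sum_const, Finset.card_compl, hF, Finset.card_singleton, nsmul_one,
        Nat.cast_sub Nat.one_le_two_pow, Nat.cast_pow, Nat.cast_one,
        show ((2 : ℕ) : F) = 0 from CharTwo.two_eq_zero, zero_pow (by omega), zero_sub,
        CharTwo.neg_eq]
    simp only [mul_add, Finset.sum_add_distrib] at hs
    rw [r1 _ hg fun t => (p b (t, 0)).1, r1 _ hb fun t => (p b (0, t)).1] at hs
    simp only [mul_left_comm _⁻¹, ← Finset.mul_sum, r2, mul_one] at hs
    linear_combination hs - (b * y b) * two_eq_zero hF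
  have hone : ∀ b : F, b ≠ 0 → b ≠ 1 → x b + w b = 1 := fun b h0 h1 =>
    mul_left_cancel₀ (fun e => (eq_zero_or_one_of_sig_eq hF
      (eq_of_add_eq_zero hF e).symm).elim h0 h1) (by rw [hrow, mul_one])
  have hadd : ∀ b c : F, x (b + c) + w (b + c) = (x b + w b) + (x c + w c) := fun b c => by
    simp only [x, w, hp_b, Prod.fst_add, Prod.snd_add, mul_add, Finset.sum_add_distrib]
    ring
  obtain ⟨b, hb0, hb1⟩ := exists_ne_zero_one hF hm
  obtain ⟨c, hc⟩ : ∃ c : F, c ∉ ({0, 1, b, b + 1} : Finset F) := by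
    by_contra h
    push Not at h
    have h1 := (Finset.card_le_card (s := Finset.univ) (t := ({0, 1, b, b + 1} : Finset F))
      fun c _ => h c).trans Finset.card_le_four
    have h2 : 2 ^ 3 ≤ 2 ^ (2 * m + 1) := Nat.pow_le_pow_right two_pos (by omega)
    rw [Finset.card_univ, hF] at h1
    norm_num at h2
    omega
  simp only [Finset.mem_insert, Finset.mem_singleton, not_or] at hc
  obtain ⟨hc0, hc1, hcb, hcb1⟩ := hc
  have h := hadd b c
  rw [hone b hb0 hb1, hone c hc0 hc1, hone (b + c) (fun e => hcb (eq_of_add_eq_zero hF e).symm)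
    (fun e => hcb1 (by linear_combination e + (-b) * two_eq_zero hF)), add_self hF] at h
  exact one_ne_zero h

end Cfsg.Agent.CNStruct80
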