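import Cfsg.Agent.CNStruct80.Func
import Mathlib

/-!
# Representations of the Suzuki group with a fixed line of non-trivial weight

An irreducible representation over the natural field is determined by the weight of a fixed
vector of the unipotent radical, if that weight is not trivial.
-/

set_option autoImplicit false

namespace Cfsg.Agent.CNStruct80

open Matrix Cfsg.Agent.Suzuki

variable {F : Type*} [Field F] [Fintype F] {m : ℕ} (hF : Fintype.card F = 2 ^ (2 * m + 1))
include hF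

/-- The Bruhat decomposition. -/
theorem bruhat (hm : 1 ≤ m) (g : Cfsg.Sz F m) :
    (∃ (p : F × F) (k : Fˣ), g = U hF p.1 p.2 * T hF k) ∨
      ∃ (p r : F × F) (k : Fˣ), g = U hF p.1 p.2 * W hF * U hF r.1 r.2 * T hF k := by
  rcases mem_ovoid.1 (smul_mem_ovoid g (inf_mem_ovoid (F := F) (m := m))) with h | ⟨a, b, h⟩
  · obtain ⟨a, b, k, hk⟩ := eq_U_T_of_fix hF hm g h
    exact Or.inl ⟨(a, b), k, hk⟩
  · obtain ⟨c, d, k, hk⟩ := eq_U_T_of_fix hF hm (W hF * ((U hF a b)⁻¹ * g)) (by
      rw [mul_smul, mul_smul, h, ← U_smul_zero hF a b, inv_smul_smul, W_smul_zero])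
    refine Or.inr ⟨(a, b), (c, d), k, ?_⟩
    rw [mul_assoc (U hF a b * W hF), ← hk, mul_assoc (U hF a b), ← mul_assoc (W hF), W_mul_W,
      one_mul, mul_inv_cancel_left]

/-- The inner relation of the rank one structure. -/
theorem exists_rel (hm : 1 ≤ m) : ∃ (μ ν : F × F → F × F) (κ : F × F → Fˣ), ∀ p : F × F, p ≠ 0 →
    W hF * U hF p.1 p.2 * W hF =
      U hF (μ p).1 (μ p).2 * W hF * U hF (ν p).1 (ν p).2 * T hF (κ p) := by
  classical
  have h : ∀ p : F × F, ∃ (x y : F × F) (k : Fˣ), p ≠ 0 →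
      W hF * U hF p.1 p.2 * W hF = U hF x.1 x.2 * W hF * U hF y.1 y.2 * T hF k := by
    intro p
    rcases bruhat hF hm (W hF * U hF p.1 p.2 * W hF) with ⟨x, k, hk⟩ | ⟨x, y, k, hk⟩
    · refine ⟨0, 0, 1, fun hp => absurd ?_ hp⟩
      have h2 : (W hF * U hF p.1 p.2 * W hF) • Cfsg.suzukiPointInfinity F =
          Cfsg.suzukiPointInfinity F := by
        rw [hk, mul_smul, T_smul_inf, U_smul_inf]
      rw [mul_smul, mul_smul, W_smul_inf, U_smul_zero, ← W_smul_zero hF] at h2
      obtain ⟨h3, h4⟩ := pt_inj (MulAction.injective _ h2)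
      exact Prod.ext h3 h4
    · exact ⟨x, y, k, fun _ => hk⟩
  choose μ ν κ h using h
  exact ⟨μ, ν, κ, h⟩

variable {V : Type*} [AddCommGroup V] [Module F V]

/-- A `2`-group acting on a non-zero invariant subspace of a finite space fixes a non-zero vector. -/
theorem exists_fixed [Finite V] (ρ : Cfsg.Sz F m →* Module.End F V) (A : Submodule F V)
    (hA : A ≠ ⊥) (hinv : ∀ p : F × F, ∀ v ∈ A, ρ (U hF p.1 p.2) v ∈ A) :
    ∃ v ∈ A, v ≠ 0 ∧ ∀ p : F × F, ρ (U hF p.1 p.2) v = v := by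
  have : Fact (Nat.Prime 2) := ⟨Nat.prime_two⟩
  let : MulAction (USub hF) A :=
    { smul := fun g v => ⟨ρ g.1 v.1, by
        obtain ⟨a, b, e⟩ := g.2
        simpa [e] using hinv (a, b) v.1 v.2⟩
      one_smul := fun v => Subtype.ext (by show ρ 1 v.1 = v.1; simp)
      mul_smul := fun g h v => Subtype.ext (by show ρ (g.1 * h.1) v.1 = ρ g.1 (ρ h.1 v.1); simp) }
  have h2 : 2 ∣ Nat.card A := by
    rw [Module.natCard_eq_pow_finrank (K := F) (V := A), Nat.card_eq_fintype_card, hF]
    refine dvd_pow (dvd_pow_self 2 (by omega)) ?_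
    exact fun h => hA (Submodule.finrank_eq_zero.1 h)
  have h0 : (0 : A) ∈ MulAction.fixedPoints (USub hF) A := fun g =>
    Subtype.ext (by show ρ g.1 0 = 0; exact map_zero _)
  obtain ⟨b, hb, hb0⟩ :=
    (isPGroup_USub hF).exists_fixed_point_of_prime_dvd_card_of_fixed_point A h2 h0
  exact ⟨b.1, b.2, fun e => hb0 (Subtype.ext e.symm),
    fun p => congrArg Subtype.val (hb ⟨U hF p.1 p.2, U_mem_USub hF _ _⟩)⟩

/-- An invariant subspace contains a fixed weight vector. -/
theorem exists_eigen [Finite V] (ρ : Cfsg.Sz F m →* Module.End F V) (A : Submodule F V)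
    (hA : A ≠ ⊥) (hinv : ∀ g, ∀ v ∈ A, ρ g v ∈ A) :
    ∃ v ∈ A, v ≠ 0 ∧ (∀ p : F × F, ρ (U hF p.1 p.2) v = v) ∧
      ∃ j : ℕ, ∀ k : Fˣ, ρ (T hF k) v = (k : F) ^ j • v := by
  classical
  obtain ⟨v, hvA, hv0, hvU⟩ := exists_fixed hF ρ A hA fun p v hv => hinv _ v hv
  let P : ℕ → V := fun j => ∑ k : Fˣ, ((k⁻¹ : Fˣ) : F) ^ j • ρ (T hF k) v
  have hsum : ∑ j ∈ Finset.range (Fintype.card F - 1), P j = v := by
    rw [Finset.sum_comm, Finset.sum_eq_single (1 : Fˣ)]
    · simp only [inv_one, Units.val_one, one_pow, T_one, map_one, Module.End.one_apply, one_smul,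
        Finset.sum_const, Finset.card_range, ← Nat.cast_smul_eq_nsmul F]
      rw [hF, Nat.cast_sub Nat.one_le_two_pow, Nat.cast_pow, Nat.cast_one,
        show ((2 : ℕ) : F) = 0 from two_eq_zero hF, zero_pow (by omega), zero_sub,
        neg_eq_iff_add_eq_zero.2 (add_self hF 1), one_smul]
    · intro k _ hk
      rw [← Finset.sum_smul, geom_sum_eq (fun e => hk (by
        rw [← inv_eq_one]; exact Units.ext e)), FiniteField.pow_card_sub_one_eq_one _ (Units.ne_zero _),
        sub_self, zero_div, zero_smul]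
    · exact fun h => absurd (Finset.mem_univ _) h
  obtain ⟨j, -, hj⟩ : ∃ j ∈ Finset.range (Fintype.card F - 1), P j ≠ 0 :=
    Finset.exists_ne_zero_of_sum_ne_zero (hsum.symm ▸ hv0)
  refine ⟨P j, A.sum_mem fun k _ => A.smul_mem _ (hinv _ _ hvA), hj, fun p => ?_, j, fun l => ?_⟩
  · simp only [P, map_sum, map_smul]
    refine Finset.sum_congr rfl fun k _ => ?_
    obtain ⟨a, b, e⟩ : ∃ a b, U hF p.1 p.2 * T hF k = T hF k * U hF a b :=
      ⟨((k⁻¹ : Fˣ) : F) * p.1, ((k⁻¹ : Fˣ) : F) * sig m ((k⁻¹ : Fˣ) : F) * p.2, by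
        rw [T_mul_U]
        congr 2
        · rw [← mul_assoc, Units.mul_inv, one_mul]
        · rw [show (k : F) * sig m (k : F) * (((k⁻¹ : Fˣ) : F) * sig m ((k⁻¹ : Fˣ) : F) * p.2) =
            ((k : F) * ((k⁻¹ : Fˣ) : F)) * sig m ((k : F) * ((k⁻¹ : Fˣ) : F)) * p.2 by
              rw [sig_mul]; ring, Units.mul_inv, sig_one, one_mul, one_mul]⟩
    rw [← Module.End.mul_apply, ← map_mul, e, map_mul, Module.End.mul_apply, hvU (a, b)]
  · simp only [P, map_sum, map_smul, Finset.smul_sum, smul_smul]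
    refine Fintype.sum_equiv (Equiv.mulLeft l) _ _ fun k => ?_
    rw [Equiv.coe_mulLeft, T_mul, map_mul, Module.End.mul_apply]
    congr 1
    rw [← mul_pow, ← Units.val_mul, _root_.mul_inv_rev, mul_comm k⁻¹, mul_inv_cancel_left]

variable (ρ : Cfsg.Sz F m →* Module.End F V) (v : V) (χ : Fˣ →* F)
  (hU : ∀ p : F × F, ρ (U hF p.1 p.2) v = v) (hT : ∀ k : Fˣ, ρ (T hF k) v = χ k • v)
include hU hT

/-- The translates of a fixed weight vector lie in the span of `v` and of the translates of its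
image under `W`. -/
theorem orbit_mem (hm : 1 ≤ m) (g : Cfsg.Sz F m) : ρ g v ∈ Submodule.span F
    (insert v (Set.range fun p : F × F => ρ (U hF p.1 p.2) (ρ (W hF) v))) := by
  rcases bruhat hF hm g with ⟨p, k, rfl⟩ | ⟨p, r, k, rfl⟩
  · rw [map_mul, Module.End.mul_apply, hT, map_smul, hU]
    exact Submodule.smul_mem _ _ (Submodule.subset_span (Set.mem_insert _ _))
  · simp only [map_mul, Module.End.mul_apply, hT, map_smul, hU]
    exact Submodule.smul_mem _ _ (Submodule.subset_span (Set.mem_insert_of_mem _ ⟨p, rfl⟩))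

/-- The span of the translates is invariant. -/
theorem span_invariant (hm : 1 ≤ m) (g : Cfsg.Sz F m) : ∀ w ∈ Submodule.span F
    (insert v (Set.range fun p : F × F => ρ (U hF p.1 p.2) (ρ (W hF) v))),
    ρ g w ∈ Submodule.span F
      (insert v (Set.range fun p : F × F => ρ (U hF p.1 p.2) (ρ (W hF) v))) := by
  intro w hw
  refine (Submodule.span_le (p := (Submodule.span F
    (insert v (Set.range fun p : F × F => ρ (U hF p.1 p.2) (ρ (W hF) v)))).comap (ρ g))).2 ?_ hw
  rintro w' (hw' | ⟨p, rfl⟩)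
  · rw [hw']
    exact orbit_mem hF ρ v χ hU hT hm g
  · rw [SetLike.mem_coe, Submodule.mem_comap, ← Module.End.mul_apply, ← map_mul, ← Module.End.mul_apply, ← map_mul]
    exact orbit_mem hF ρ v χ hU hT hm _

/-- The uniform relation. -/
theorem key_relation (hm : 1 ≤ m) [Finite V] (hv : v ≠ 0) (hχ : ∃ k, χ k ≠ 1)
    (hir : ∀ A : Submodule F V, (∀ g, ∀ w ∈ A, ρ g w ∈ A) → A = ⊥ ∨ A = ⊤)
    {μ ν : F × F → F × F} {κ : F × F → Fˣ} (hrel : ∀ p : F × F, p ≠ 0 →
      W hF * U hF p.1 p.2 * W hF =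
        U hF (μ p).1 (μ p).2 * W hF * U hF (ν p).1 (ν p).2 * T hF (κ p))
    [DecidableEq F] :
    v + ∑ p ∈ Finset.univ.erase (0 : F × F),
      χ (κ p) • ρ (U hF (μ p).1 (μ p).2) (ρ (W hF) v) = 0 := by
  have hU0 : U hF (0 : F × F).1 (0 : F × F).2 = 1 := U_zero hF
  have hWW : ∀ x, ρ (W hF) (ρ (W hF) x) = x := fun x => by
    rw [← Module.End.mul_apply, ← map_mul, W_mul_W, map_one, Module.End.one_apply]
  set z : V := ∑ p : F × F, ρ (U hF p.1 p.2) (ρ (W hF) v) with hz
  set c : F := ∑ p ∈ Finset.univ.erase (0 : F × F), χ (κ p) with hc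
  have hWz : ρ (W hF) z = v + ∑ p ∈ Finset.univ.erase (0 : F × F),
      χ (κ p) • ρ (U hF (μ p).1 (μ p).2) (ρ (W hF) v) := by
    rw [hz, map_sum, ← Finset.add_sum_erase _ _ (Finset.mem_univ (0 : F × F)), hU0, map_one,
      Module.End.one_apply, hWW]
    congr 1
    refine Finset.sum_congr rfl fun p hp => ?_
    rw [← Module.End.mul_apply, ← map_mul, ← Module.End.mul_apply, ← map_mul,
      hrel p (Finset.ne_of_mem_erase hp)]
    simp only [map_mul, Module.End.mul_apply, hT, map_smul, hU]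
  suffices hz0 : z = 0 by rw [← hWz, hz0, map_zero]
  -- the sum of all translates of `W x` is fixed
  have htrans : ∀ (x : V) (r : F × F), ρ (U hF r.1 r.2) (∑ p : F × F, ρ (U hF p.1 p.2) x) =
      ∑ p : F × F, ρ (U hF p.1 p.2) x := by
    intro x r
    rw [map_sum]
    simp only [← Module.End.mul_apply, ← map_mul, U_mul' hF]
    obtain ⟨q, hq⟩ := pmul_inv hF r
    exact Fintype.sum_equiv (Equiv.ofBijective _ (Finite.injective_iff_bijective.1
      (Function.LeftInverse.injective hq))) _ _ fun p => rfl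
  -- and has the inverse weight
  have hweight : ∀ (x : V) (k : Fˣ) (a : F), ρ (T hF k⁻¹) x = a • x →
      ρ (T hF k) (∑ p : F × F, ρ (U hF p.1 p.2) (ρ (W hF) x)) =
        a • ∑ p : F × F, ρ (U hF p.1 p.2) (ρ (W hF) x) := by
    intro x k a hx
    rw [map_sum, Finset.smul_sum]
    have hk : (k : F) * sig m (k : F) ≠ 0 := mul_ne_zero k.ne_zero (sig_ne_zero k.ne_zero)
    refine Fintype.sum_equiv
      (Equiv.prodCongr (Equiv.mulLeft₀ (k : F) k.ne_zero) (Equiv.mulLeft₀ _ hk)) _ _ fun p => ?_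
    simp only [Equiv.prodCongr_apply, Prod.map_fst, Prod.map_snd, Equiv.mulLeft₀_apply]
    rw [← Module.End.mul_apply, ← map_mul, T_mul_U, map_mul, Module.End.mul_apply,
      ← Module.End.mul_apply (ρ (T hF k)), ← map_mul, show T hF k * W hF = W hF * T hF k⁻¹ by
        rw [W_mul_T, inv_inv], map_mul, Module.End.mul_apply, hx, map_smul, map_smul]
  have hq0 : ((Fintype.card (F × F) : ℕ) : F) = 0 := by
    rw [Fintype.card_prod, Nat.cast_mul, Nat.cast_card_eq_zero, mul_zero]
  by_contra hz0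
  have hτ : ∑ r : F × F, ρ (U hF r.1 r.2) (ρ (W hF) (ρ (W hF) (ρ (W hF) z))) = c • z := by
    rw [hWW, hWz]
    simp only [map_add, map_sum, map_smul, hU, Finset.sum_add_distrib, Finset.sum_const,
      Finset.card_univ, ← Nat.cast_smul_eq_nsmul F, hq0, zero_smul, zero_add]
    rw [Finset.sum_comm, hc, Finset.sum_smul]
    refine Finset.sum_congr rfl fun p _ => ?_
    rw [← Finset.smul_sum]
    congr 1
    rw [hz]
    refine Fintype.sum_equiv (Equiv.ofBijective (fun r => pmul m r (μ p))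
      (Finite.injective_iff_bijective.1 fun r r' e => ?_)) _ _ fun r => by
        rw [Equiv.ofBijective_apply, ← Module.End.mul_apply, ← map_mul, U_mul' hF]
    have e' := Prod.mk.inj e
    have h1 : r.1 = r'.1 := add_right_cancel e'.1
    refine Prod.ext h1 ?_
    have h2 := e'.2
    rw [h1] at h2
    exact add_right_cancel (add_right_cancel h2)
  rw [hWW] at hτ
  have hzT : ∀ k : Fˣ, ρ (T hF k) z = χ k⁻¹ • z := fun k => hweight v k _ (hT _)
  have hc0 : c = 0 := by
    by_contra hc0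
    obtain ⟨k, hk⟩ := hχ
    have h1 : ρ (T hF k) (c • z) = χ k • (c • z) := by
      rw [← hτ, hweight z k _ (by rw [hzT, inv_inv])]
    rw [map_smul, hzT, smul_smul, smul_smul, mul_comm c] at h1
    have h2 : χ k⁻¹ = χ k := mul_right_cancel₀ hc0 (smul_left_injective F hz0 h1)
    have h3 : (χ k) * (χ k) = 1 := by
      conv_lhs => arg 1; rw [← h2]
      rw [← map_mul, inv_mul_cancel, map_one]
    exact hk (sq_inj hF (by rw [one_pow, sq, h3]))
  -- a fixed functional vanishing at `v`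
  have hne : Submodule.span F {v} ≠ ⊤ := by
    intro htop
    obtain ⟨k, hk⟩ := hχ
    obtain ⟨a, ha⟩ := Submodule.mem_span_singleton.1 (htop ▸ Submodule.mem_top (x := ρ (W hF) v))
    have h1 : ρ (T hF k) (ρ (W hF) v) = χ k⁻¹ • ρ (W hF) v := by
      rw [← Module.End.mul_apply, ← map_mul, show T hF k * W hF = W hF * T hF k⁻¹ by
        rw [W_mul_T, inv_inv], map_mul, Module.End.mul_apply, hT, map_smul]
    rw [← ha, map_smul, hT, smul_smul, smul_smul, mul_comm a] at h1
    have ha0 : a ≠ 0 := by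
      rintro rfl
      rw [zero_smul] at ha
      exact hv (by rw [← hWW v, ← ha, map_zero])
    have h2 : χ k = χ k⁻¹ := mul_right_cancel₀ ha0 (smul_left_injective F hv h1)
    have h3 : (χ k) * (χ k) = 1 := by
      conv_lhs => arg 1; rw [h2]
      rw [← map_mul, inv_mul_cancel, map_one]
    exact hk (sq_inj hF (by rw [one_pow, sq, h3]))
  have : Finite (Module.Dual F V) := Finite.of_injective (fun f => (f : V → F)) DFunLike.coe_injective
  let ρd : Cfsg.Sz F m →* Module.End F (Module.Dual F V) :=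
    { toFun := fun g => (ρ g⁻¹).dualMap
      map_one' := by ext f x; simp
      map_mul' := fun g h => by ext f x; simp }
  obtain ⟨φ, hφv, hφ0, hφU⟩ := exists_fixed hF ρd (Submodule.span F {v}).dualAnnihilator
    (fun e => hne (by rwa [Submodule.dualAnnihilator_eq_bot_iff] at e)) (fun p f hf => by
      rw [Submodule.mem_dualAnnihilator] at hf ⊢
      intro w hw
      obtain ⟨a, rfl⟩ := Submodule.mem_span_singleton.1 hw
      show f (ρ (U hF p.1 p.2)⁻¹ (a • v)) = 0
      rw [U_inv, map_smul, hU (p.1, p.2 + sig m p.1 * p.1)]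
      exact hf _ hw)
  have hφv' : φ v = 0 := (Submodule.mem_dualAnnihilator _).1 hφv v (Submodule.mem_span_singleton_self v)
  have hφ : ∀ (p : F × F) (x : V), φ (ρ (U hF p.1 p.2) x) = φ x := fun p x => by
    have h1 : φ (ρ (U hF p.1 p.2)⁻¹ (ρ (U hF p.1 p.2) x)) = φ (ρ (U hF p.1 p.2) x) :=
      LinearMap.congr_fun (hφU p) (ρ (U hF p.1 p.2) x)
    rwa [← Module.End.mul_apply, ← map_mul, inv_mul_cancel, map_one, Module.End.one_apply, eq_comm] at h1
  have hφz : φ z = 0 := by
    rw [hz, map_sum]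
    simp only [hφ, Finset.sum_const, Finset.card_univ, ← Nat.cast_smul_eq_nsmul F, hq0, zero_smul]
  have hφWz : φ (ρ (W hF) z) = 0 := by
    simp only [hWz, map_add, map_sum, map_smul, hφ, hφv', zero_add, smul_eq_mul, ← Finset.sum_mul,
      ← hc, hc0, zero_mul]
  rcases hir (Submodule.span F (insert z
      (Set.range fun p : F × F => ρ (U hF p.1 p.2) (ρ (W hF) z))))
    (fun g => span_invariant hF ρ z (χ.comp (invMonoidHom (α := Fˣ))) (htrans _) hzT hm g) with h | h
  · exact hz0 ((Submodule.span_eq_bot.1 h) z (Set.mem_insert _ _))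
  · refine hφ0 (LinearMap.ker_eq_top.1 (eq_top_iff.2 (h ▸ Submodule.span_le.2 ?_)))
    rintro _ (rfl | ⟨p, rfl⟩)
    · exact hφz
    · exact (hφ p _).trans hφWz

omit hU hT in
/-- Irreducible representations with the same non-trivial weight are isomorphic. -/
theorem exists_equiv (hm : 1 ≤ m) [Finite V] {V' : Type*} [AddCommGroup V'] [Module F V'] [Finite V']
    (σ : Cfsg.Sz F m →* Module.End F V') (v' : V') (hv : v ≠ 0) (hv' : v' ≠ 0)
    (hU : ∀ p : F × F, ρ (U hF p.1 p.2) v = v) (hT : ∀ k : Fˣ, ρ (T hF k) v = χ k • v)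
    (hU' : ∀ p : F × F, σ (U hF p.1 p.2) v' = v') (hT' : ∀ k : Fˣ, σ (T hF k) v' = χ k • v')
    (hχ : ∃ k, χ k ≠ 1)
    (hir : ∀ A : Submodule F V, (∀ g, ∀ w ∈ A, ρ g w ∈ A) → A = ⊥ ∨ A = ⊤)
    (hir' : ∀ A : Submodule F V', (∀ g, ∀ w ∈ A, σ g w ∈ A) → A = ⊥ ∨ A = ⊤) :
    ∃ e : V ≃ₗ[F] V', ∀ g w, e (ρ g w) = σ g (e w) := by
  classical
  obtain ⟨μ, ν, κ, hrel⟩ := exists_rel hF hm
  have k1 := key_relation hF ρ v χ hU hT hm hv hχ hir hrel
  have k2 := key_relation hF σ v' χ hU' hT' hm hv' hχ hir' hrel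
  let τ : Cfsg.Sz F m →* Module.End F (V × V') :=
    { toFun := fun g => (ρ g).prodMap (σ g)
      map_one' := by ext x <;> simp
      map_mul' := fun g h => by ext x <;> simp }
  have hτU : ∀ p : F × F, τ (U hF p.1 p.2) (v, v') = (v, v') := fun p => Prod.ext (hU p) (hU' p)
  have hτT : ∀ k : Fˣ, τ (T hF k) (v, v') = χ k • (v, v') := fun k => Prod.ext (hT k) (hT' k)
  set M : Submodule F (V × V') := Submodule.span F (insert (v, v')
    (Set.range fun p : F × F => τ (U hF p.1 p.2) (τ (W hF) (v, v')))) with hM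
  have hMinv : ∀ g, ∀ w ∈ M, τ g w ∈ M := fun g => span_invariant hF τ _ χ hτU hτT hm g
  have hvv : (v, v') ∈ M := Submodule.subset_span (Set.mem_insert _ _)
  have htop1 : M.map (LinearMap.fst F V V') = ⊤ := by
    refine (hir _ ?_).resolve_left fun h => hv ?_
    · rintro g _ ⟨x, hx, rfl⟩
      exact ⟨τ g x, hMinv g x hx, rfl⟩
    · have := Submodule.mem_map_of_mem (f := LinearMap.fst F V V') hvv
      rwa [h, Submodule.mem_bot] at this
  have htop2 : M.map (LinearMap.snd F V V') = ⊤ := by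
    refine (hir' _ ?_).resolve_left fun h => hv' ?_
    · rintro g _ ⟨x, hx, rfl⟩
      exact ⟨τ g x, hMinv g x hx, rfl⟩
    · have := Submodule.mem_map_of_mem (f := LinearMap.snd F V V') hvv
      rwa [h, Submodule.mem_bot] at this
  have hnetop : M ≠ ⊤ := by
    intro htop
    let ρd : Cfsg.Sz F m →* Module.End F (Module.Dual F V) :=
      { toFun := fun g => (ρ g⁻¹).dualMap
        map_one' := by ext f x; simp
        map_mul' := fun g h => by ext f x; simp }
    let σd : Cfsg.Sz F m →* Module.End F (Module.Dual F V') :=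
      { toFun := fun g => (σ g⁻¹).dualMap
        map_one' := by ext f x; simp
        map_mul' := fun g h => by ext f x; simp }
    have : Finite (Module.Dual F V) := Finite.of_injective (fun f => (f : V → F)) DFunLike.coe_injective
    have : Finite (Module.Dual F V') := Finite.of_injective (fun f => (f : V' → F)) DFunLike.coe_injective
    have hVne : (⊤ : Submodule F (Module.Dual F V)) ≠ ⊥ := fun h => hv
      ((Module.forall_dual_apply_eq_zero_iff F v).1 fun f => by
        have h' : f ∈ (⊤ : Submodule F (Module.Dual F V)) := trivial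
        rw [h, Submodule.mem_bot] at h'
        rw [h', LinearMap.zero_apply])
    have hVne' : (⊤ : Submodule F (Module.Dual F V')) ≠ ⊥ := fun h => hv'
      ((Module.forall_dual_apply_eq_zero_iff F v').1 fun f => by
        have h' : f ∈ (⊤ : Submodule F (Module.Dual F V')) := trivial
        rw [h, Submodule.mem_bot] at h'
        rw [h', LinearMap.zero_apply])
    obtain ⟨f, -, hf0, hfU⟩ := exists_fixed hF ρd ⊤ hVne (fun _ _ _ => trivial)
    obtain ⟨f', -, hf0', hfU'⟩ := exists_fixed hF σd ⊤ hVne' (fun _ _ _ => trivial)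
    have hf : ∀ (p : F × F) (x : V), f (ρ (U hF p.1 p.2) x) = f x := fun p x => by
      have h1 : f (ρ (U hF p.1 p.2)⁻¹ (ρ (U hF p.1 p.2) x)) = f (ρ (U hF p.1 p.2) x) :=
        LinearMap.congr_fun (hfU p) (ρ (U hF p.1 p.2) x)
      rwa [← Module.End.mul_apply, ← map_mul, inv_mul_cancel, map_one, Module.End.one_apply, eq_comm] at h1
    have hf' : ∀ (p : F × F) (x : V'), f' (σ (U hF p.1 p.2) x) = f' x := fun p x => by
      have h1 : f' (σ (U hF p.1 p.2)⁻¹ (σ (U hF p.1 p.2) x)) = f' (σ (U hF p.1 p.2) x) :=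
        LinearMap.congr_fun (hfU' p) (σ (U hF p.1 p.2) x)
      rwa [← Module.End.mul_apply, ← map_mul, inv_mul_cancel, map_one, Module.End.one_apply, eq_comm] at h1
    obtain ⟨a, b, hab, hzero⟩ : ∃ a b : F, (a ≠ 0 ∨ b ≠ 0) ∧
        a * f (ρ (W hF) v) + b * f' (σ (W hF) v') = 0 := by
      by_cases h : f (ρ (W hF) v) = 0
      · exact ⟨1, 0, Or.inl one_ne_zero, by simp [h]⟩
      · exact ⟨-f' (σ (W hF) v'), f (ρ (W hF) v), Or.inr h, by ring⟩
    let Φ : V × V' →ₗ[F] F := a • f.comp (LinearMap.fst F V V') + b • f'.comp (LinearMap.snd F V V')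
    have hΦU : ∀ (p : F × F) (x : V × V'), Φ (τ (U hF p.1 p.2) x) = Φ x := fun p x => by
      simp [Φ, τ, hf, hf']
    have hΦW : Φ (τ (W hF) (v, v')) = 0 := by simpa [Φ, τ] using hzero
    have hΦv : Φ (v, v') = 0 := by
      have e : (v, v') + ∑ p ∈ Finset.univ.erase (0 : F × F),
          χ (κ p) • τ (U hF (μ p).1 (μ p).2) (τ (W hF) (v, v')) = 0 := by
        refine Prod.ext ?_ ?_
        · simpa [τ, Prod.fst_sum] using k1
        · simpa [τ, Prod.snd_sum] using k2
      have h2 := congrArg Φ e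
      simpa [map_sum, hΦU, hΦW] using h2
    have hΦ : Φ = 0 := LinearMap.ker_eq_top.1 (eq_top_iff.2 (htop ▸ Submodule.span_le.2 (by
      rintro _ (rfl | ⟨p, rfl⟩)
      · exact hΦv
      · exact (hΦU p _).trans hΦW)))
    rcases hab with ha | hb
    · refine hf0 (LinearMap.ext fun x => ?_)
      have h2 := LinearMap.congr_fun hΦ (x, 0)
      simpa [Φ, ha] using h2
    · refine hf0' (LinearMap.ext fun x => ?_)
      have h2 := LinearMap.congr_fun hΦ (0, x)
      simpa [Φ, hb] using h2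
  have hinj1 : ∀ x ∈ M, x.1 = 0 → x = 0 := by
    intro x hx hx1
    by_contra hx0
    refine hnetop (eq_top_iff.2 fun w _ => ?_)
    have hA : M.comap (LinearMap.inr F V V') = ⊤ := by
      refine (hir' _ fun g w hw => ?_).resolve_left fun h => hx0 ?_
      · have h3 := hMinv g _ hw
        simpa [τ, Submodule.mem_comap] using h3
      · have h3 : x.2 ∈ M.comap (LinearMap.inr F V V') := by
          show ((0 : V), x.2) ∈ M
          rw [← hx1]; exact hx
        rw [h, Submodule.mem_bot] at h3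
        exact Prod.ext hx1 h3
    obtain ⟨y, hy, hyw⟩ := (htop1 ▸ Submodule.mem_top : w.1 ∈ M.map (LinearMap.fst F V V'))
    have h3 : w.2 - y.2 ∈ M.comap (LinearMap.inr F V V') := hA ▸ Submodule.mem_top
    have h4 := M.add_mem hy h3
    convert h4 using 1
    simp only [LinearMap.fst_apply] at hyw
    exact Prod.ext (by simp [hyw]) (by simp)
  have hinj2 : ∀ x ∈ M, x.2 = 0 → x = 0 := by
    intro x hx hx1
    by_contra hx0
    refine hnetop (eq_top_iff.2 fun w _ => ?_)
    have hA : M.comap (LinearMap.inl F V V') = ⊤ := by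
      refine (hir _ fun g w hw => ?_).resolve_left fun h => hx0 ?_
      · have h3 := hMinv g _ hw
        simpa [τ, Submodule.mem_comap] using h3
      · have h3 : x.1 ∈ M.comap (LinearMap.inl F V V') := by
          show (x.1, (0 : V')) ∈ M
          rw [← hx1]; exact hx
        rw [h, Submodule.mem_bot] at h3
        exact Prod.ext h3 hx1
    obtain ⟨y, hy, hyw⟩ := (htop2 ▸ Submodule.mem_top : w.2 ∈ M.map (LinearMap.snd F V V'))
    have h3 : w.1 - y.1 ∈ M.comap (LinearMap.inl F V V') := hA ▸ Submodule.mem_top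
    have h4 := M.add_mem hy h3
    convert h4 using 1
    simp only [LinearMap.snd_apply] at hyw
    exact Prod.ext (by simp) (by simp [hyw])
  let p1 : M →ₗ[F] V := (LinearMap.fst F V V').comp M.subtype
  let p2 : M →ₗ[F] V' := (LinearMap.snd F V V').comp M.subtype
  have hp1 : Function.Bijective p1 := by
    refine ⟨(injective_iff_map_eq_zero p1).2 fun x hx => Subtype.ext (hinj1 x.1 x.2 hx), fun w => ?_⟩
    obtain ⟨y, hy, hyw⟩ := (htop1 ▸ Submodule.mem_top : w ∈ M.map (LinearMap.fst F V V'))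
    exact ⟨⟨y, hy⟩, hyw⟩
  have hp2 : Function.Bijective p2 := by
    refine ⟨(injective_iff_map_eq_zero p2).2 fun x hx => Subtype.ext (hinj2 x.1 x.2 hx), fun w => ?_⟩
    obtain ⟨y, hy, hyw⟩ := (htop2 ▸ Submodule.mem_top : w ∈ M.map (LinearMap.snd F V V'))
    exact ⟨⟨y, hy⟩, hyw⟩
  refine ⟨(LinearEquiv.ofBijective p1 hp1).symm.trans (LinearEquiv.ofBijective p2 hp2), fun g w => ?_⟩
  obtain ⟨x, rfl⟩ := hp1.2 w
  have e : ρ g (p1 x) = p1 ⟨τ g x.1, hMinv g x.1 x.2⟩ := rfl
  rw [e]
  simp only [LinearEquiv.trans_apply, LinearEquiv.ofBijective_symm_apply_apply]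
  rfl

end Cfsg.Agent.CNStruct80
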