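import Cfsg.Agent.CNStruct80.Weights
import Cfsg.Agent.CNStruct80.Classify
import Mathlib

/-!
# Functions on the unipotent radical which change by twisted coordinates under translation
-/

set_option autoImplicit false

namespace Cfsg.Agent.CNStruct80

open Cfsg.Agent.Suzuki
open SemilinearQuad (fr)

variable {F : Type*} [Field F] {m : ℕ}

/-- A combination of twisted coordinates of the last column. -/
def cb (r : ZMod (2 * m + 1)) (c : Fin 4 → F) (p : F × F) : F := ∑ l, c l * fr r (col m p l)

/-- Translations change the function by `E` and twisted coordinates. -/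
def Shift (r : ZMod (2 * m + 1)) (φ : F × F → F) (E : F × F → F × F → F) : Prop :=
  ∀ p, ∃ α : Fin 4 → F, ∀ x, φ (pmul m p x) = φ x + E p x + cb r α x

/-- The function is homogeneous of weight `χ`. -/
def Hom (m : ℕ) (χ : F → F) (φ : F × F → F) : Prop :=
  ∀ k : F, k ≠ 0 → ∀ a b, φ (k * a, k * sig m k * b) = χ k * φ (a, b)

theorem cb_add (r : ZMod (2 * m + 1)) (c d : Fin 4 → F) (p : F × F) :
    cb r (c + d) p = cb r c p + cb r d p := by
  simp [cb, add_mul, Finset.sum_add_distrib]

theorem cb_eq (r : ZMod (2 * m + 1)) (c : Fin 4 → F) (a b : F) :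
    cb r c (a, b) = c 0 * fr r (fz m a b) + c 1 * fr r b + c 2 * fr r a + c 3 := by
  simp [cb, col, pv, Fin.sum_univ_four, SemilinearQuad.fr]

variable [Fintype F] (hF : Fintype.card F = 2 ^ (2 * m + 1))
include hF

omit hF in
theorem fr_z (r : ZMod (2 * m + 1)) : fr r (0 : F) = 0 := SemilinearQuad.fr_eq_zero.2 rfl

omit [Fintype F] hF in
theorem fr_one (r : ZMod (2 * m + 1)) : fr r (1 : F) = 1 := one_pow _

theorem sig_fr (u : ZMod (2 * m + 1)) (x : F) :
    fr u (sig m x) = fr (u + ((m : ZMod (2 * m + 1)) + 1)) x := by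
  rw [sig_eq_fr hF, ← SemilinearQuad.fr_add_idx hF]

omit [Fintype F] hF in
theorem fz_at_zero (b : F) : fz m (0 : F) b = sig m b := by simp [fz, sig_zero]

omit [Fintype F] hF in
theorem fz_split (a b : F) : fz m a b = a * b + fz m a 0 + sig m b := by
  simp [fz, sig_zero]

/-- A homogeneous additive map is a multiple of a Frobenius map. -/
theorem mono (f : F →+ F) (χ ν : F → F) (hν : Function.Surjective ν) (hν0 : ν 0 = 0)
    (h : ∀ k, k ≠ 0 → ∀ x, f (ν k * x) = χ k * f x) :
    ∃ (e : F) (u : ZMod (2 * m + 1)),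
      (∀ x, f x = e * fr u x) ∧ (e ≠ 0 → ∀ k, k ≠ 0 → χ k = fr u (ν k)) := by
  classical
  obtain ⟨a, ha⟩ := SemilinearQuad.exists_coeff hF f
  by_cases h0 : a = 0
  · exact ⟨0, 0, fun x => by simp [ha, h0], fun e => absurd rfl e⟩
  obtain ⟨u, hu⟩ := Function.ne_iff.1 h0
  have key : ∀ v, a v ≠ 0 → ∀ k, k ≠ 0 → χ k = fr v (ν k) := by
    intro v hv k hk
    have h1 := congrFun (SemilinearQuad.coeff_eq_zero hF (a := fun w => a w * (fr w (ν k) - χ k))
      fun x => by
        have h2 := h k hk x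
        rw [ha, ha, Finset.mul_sum, ← sub_eq_zero, ← Finset.sum_sub_distrib] at h2
        rw [← h2]
        exact Finset.sum_congr rfl fun w _ => by rw [SemilinearQuad.fr_mul]; ring) v
    exact (by simpa [hv, sub_eq_zero] using h1 : fr v (ν k) = χ k).symm
  refine ⟨a u, u, fun x => ?_, fun _ => key u hu⟩
  rw [ha, Finset.sum_eq_single u ?_ (by simp)]
  intro v _ hvu
  by_contra hne
  refine hvu (SemilinearQuad.fr_injective_idx hF fun y => ?_)
  obtain ⟨k, rfl⟩ := hν y
  rcases eq_or_ne k 0 with rfl | hk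
  · rw [hν0, fr_z, fr_z]
  · rw [← key u hu k hk, ← key v (fun e => hne (by rw [e, zero_mul])) k hk]

/-- Coefficients of a short sum of Frobenius maps. -/
theorem coeff_short {ι : Type*} [Fintype ι] (t : ι → ZMod (2 * m + 1)) (a : ι → F)
    (h : ∀ x, ∑ i, a i * fr (t i) x = 0) (w : ZMod (2 * m + 1)) :
    ∑ i, (if t i = w then a i else 0) = 0 := by
  classical
  refine congrFun (SemilinearQuad.coeff_eq_zero hF (a := fun w => ∑ i, if t i = w then a i else 0)
    fun x => ?_) w
  simp only [Finset.sum_mul]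
  rw [Finset.sum_comm]
  refine (Finset.sum_congr rfl fun i _ => ?_).trans (h x)
  simp [ite_mul]

theorem indep_two (hm : 1 ≤ m) {r : ZMod (2 * m + 1)} {x y : F}
    (h : ∀ b, x * fr r (sig m b) + y * fr r b = 0) : x = 0 ∧ y = 0 := by
  have h1 := h 1
  rw [sig_one, fr_one, mul_one, mul_one] at h1
  obtain ⟨z, hz0, hz1⟩ := exists_ne_zero_one hF hm
  have hx : x * fr r (sig m z - z) = 0 := by
    have h2 := SemilinearQuad.fr_add hF r (sig m z - z) z
    rw [sub_add_cancel] at h2
    linear_combination h z - fr r z * h1 - x * h2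
  rw [mul_eq_zero, SemilinearQuad.fr_eq_zero, sub_eq_zero] at hx
  rcases hx with hx | hx
  · exact ⟨hx, by linear_combination h1 - hx⟩
  · exact ((eq_zero_or_one_of_sig_eq hF hx).elim hz0 hz1).elim

/-- Splitting off the central parameter. -/
theorem zsplit {r : ZMod (2 * m + 1)} {φ : F × F → F} {E : F × F → F × F → F}
    (hS : Shift r φ E) (h0 : φ 0 = 0) (ε : F → F → F) (hε : ∀ b' x, E (0, b') x = ε b' x.1)
    (ε0 : ∀ a, ε 0 a = 0) (ε1 : ∀ b', ε b' 0 = 0) :
    ∃ Λ : F → F, ∀ a b b', φ (a, b' + b) = φ (a, b) + ε b' a + Λ b' * fr r a + φ (0, b') := by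
  choose α hα using fun b' : F => hS (0, b')
  have hp : ∀ b' a b : F, pmul m (0, b') (a, b) = (a, b' + b) := fun b' a b => by
    simp [pmul, sig_zero]
  have hstep : ∀ b' a b, φ (a, b' + b) = φ (a, b) + ε b' a + cb r (α b') (a, b) := fun b' a b => by
    rw [← hε b' (a, b), ← hp]
    exact hα b' (a, b)
  have h01 : ∀ b', α b' 0 = 0 ∧ α b' 1 = 0 := by
    intro b'
    rcases eq_or_ne b' 0 with rfl | hb
    · have h1 := col_indep hF r.val (α 0) (fun p => by
        have h2 := hstep 0 p.1 p.2
        rw [zero_add, ε0, add_zero, left_eq_add] at h2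
        exact h2)
      simp [h1]
    have htwo : ∀ a, α b' 0 * (fr r (a * b') + fr r (sig m b')) + α b' 1 * fr r b' = 0 := by
      intro a
      have h1 := hstep b' a 0
      have h2 := hstep b' a b'
      rw [add_self hF] at h2
      rw [add_zero] at h1
      rw [cb_eq] at h1 h2
      have hf : fr r (fz m a b') = fr r (a * b') + fr r (fz m a 0) + fr r (sig m b') := by
        rw [fz_split a b', SemilinearQuad.fr_add hF, SemilinearQuad.fr_add hF]
      rw [hf] at h2
      rw [fr_z] at h1
      linear_combination -h1 - h2 - (α b' 0 * fr r (fz m a 0) + α b' 2 * fr r a + α b' 3 + ε b' a) *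
        two_eq_zero hF
    have e0 := htwo 0
    have e1 := htwo 1
    rw [zero_mul, fr_z, zero_add] at e0
    rw [one_mul] at e1
    have hα0 : α b' 0 = 0 := by
      have h3 : α b' 0 * fr r b' = 0 := by linear_combination e1 - e0
      exact (mul_eq_zero.1 h3).resolve_right fun h => hb (SemilinearQuad.fr_eq_zero.1 h)
    refine ⟨hα0, ?_⟩
    rw [hα0, zero_mul, zero_add] at e0
    exact (mul_eq_zero.1 e0).resolve_right fun h => hb (SemilinearQuad.fr_eq_zero.1 h)
  have h3 : ∀ b', φ (0, b') = α b' 3 := by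
    intro b'
    have h := hstep b' 0 0
    rw [add_zero, cb_eq, (h01 b').1, (h01 b').2, fr_z, ε1, show φ (0, 0) = 0 from h0] at h
    linear_combination h
  refine ⟨fun b' => α b' 2, fun a b b' => ?_⟩
  rw [hstep, cb_eq, (h01 b').1, (h01 b').2, h3]
  ring

/-- The shape of a homogeneous function changing by a product of functions of the first parameter. -/
theorem shape {r : ZMod (2 * m + 1)} {φ : F × F → F} {η θ χ : F → F}
    (hS : Shift r φ fun p x => η p.1 * θ x.1) (h0 : φ 0 = 0) (η0 : η 0 = 0) (θ0 : θ 0 = 0)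
    (hH : Hom m χ φ) :
    ∃ (B : F) (P : F → F) (ℓ : F →+ F) (g : F → F),
      (∀ a b, φ (a, b) = B * fr r (fz m a b) + P a + ℓ b) ∧ P 0 = 0 ∧
      (∀ a' a, P (a' + a) + ℓ (sig m a' * a) = P a + P a' + η a' * θ a + g a' * fr r a) ∧
      (∀ k, k ≠ 0 → ∀ a, P (k * a) = χ k * P a) ∧
      (∀ k, k ≠ 0 → ∀ b, ℓ (k * sig m k * b) = χ k * ℓ b) := by
  obtain ⟨Λ, hΛ⟩ := zsplit hF hS h0 (fun _ _ => 0) (fun b' x => by simp [η0])
    (fun _ => rfl) fun _ => rfl
  have h00 : φ (0, 0) = 0 := h0
  have hφ : ∀ a b, φ (a, b) = φ (a, 0) + Λ b * fr r a + φ (0, b) := fun a b => by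
    have h := hΛ a 0 b
    rwa [add_zero, add_zero] at h
  have hℓadd : ∀ b c : F, φ (0, b + c) = φ (0, b) + φ (0, c) := fun b c => by
    have h := hΛ 0 c b
    rw [fr_z] at h
    linear_combination h
  have hΛadd : ∀ b c : F, Λ (b + c) = Λ b + Λ c := fun b c => by
    have h1 := hΛ 1 c b
    rw [hφ 1 (b + c), hφ 1 c, fr_one, hℓadd] at h1
    linear_combination h1
  choose α hα using fun a' : F => hS (a', 0)
  have hp : ∀ a' a b : F, pmul m (a', 0) (a, b) = (a' + a, b + sig m a' * a) := fun a' a b => by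
    simp [pmul]
  have hα3 : ∀ a', φ (a', 0) = α a' 3 := fun a' => by
    have h := hα a' (0, 0)
    simp only [] at h
    rw [hp, cb_eq, mul_zero, add_zero, add_zero, h00, θ0, fr_z, show fz m (0 : F) 0 = 0 by
      simp [fz, sig_zero], fr_z] at h
    linear_combination h
  have hB : ∀ a' b, Λ b * fr r a' = α a' 0 * fr r (sig m b) + α a' 1 * fr r b := fun a' b => by
    have h := hα a' (0, b)
    simp only [] at h
    rw [hp, cb_eq] at h
    simp only [mul_zero, add_zero] at h
    rw [θ0, fz_at_zero, fr_z, ← hα3, hφ a' b] at h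
    linear_combination h
  have hα0 : ∀ a', α a' 0 = 0 := by
    intro a'
    have h1 := hα a' (1, 1)
    have h2 := hα a' (1, 0)
    rw [hp, cb_eq, hφ, hφ 1 1, hℓadd, hΛadd] at h1
    rw [hp, cb_eq, hφ, zero_add] at h2
    rw [fz_split, SemilinearQuad.fr_add hF, SemilinearQuad.fr_add hF, one_mul] at h1
    have h3 := hB a' 1
    rw [SemilinearQuad.fr_add hF] at h1 h2
    rw [fr_one] at h1 h2 h3
    rw [fr_z] at h2
    linear_combination h3 - h1 + h2
  set B : F := α 1 1 with hBdef
  have hΛB : ∀ b, Λ b = B * fr r b := fun b => by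
    have h := hB 1 b
    rw [fr_one, hα0] at h
    linear_combination h
  set P : F → F := fun a => φ (a, 0) + B * fr r (fz m a 0) with hP
  let ℓ : F →+ F := AddMonoidHom.mk' (fun b => φ (0, b) + B * fr r (sig m b)) fun b c => by
    rw [hℓadd, sig_add hF, SemilinearQuad.fr_add hF]
    ring
  have hrep : ∀ a b, φ (a, b) = B * fr r (fz m a b) + P a + ℓ b := fun a b => by
    show _ = _ + (φ (a, 0) + B * fr r (fz m a 0)) + (φ (0, b) + B * fr r (sig m b))
    rw [hφ a b, fz_split a b, SemilinearQuad.fr_add hF, SemilinearQuad.fr_add hF,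
      SemilinearQuad.fr_mul, hΛB]
    linear_combination -(B * fr r (fz m a 0) + B * fr r (sig m b)) * two_eq_zero hF
  refine ⟨B, P, ℓ, fun a' => α a' 2 + B * fr r (a' * sig m a'), hrep, ?_, fun a' a => ?_,
    fun k hk a => ?_, fun k hk b => ?_⟩
  · simp [hP, h00, fz, sig_zero, fr_z]
  · have h := hα a' (a, 0)
    rw [hp, cb_eq, zero_add, hrep, hα0, fr_z, ← hα3] at h
    have hf : fz m (a' + a) (sig m a' * a) = fz m a 0 + a' * 0 + (0 + a' * sig m a') * a +
        fz m a' 0 := by
      rw [← fz_add hF, add_comm a' a, zero_add, zero_add]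
    rw [hf, SemilinearQuad.fr_add hF, SemilinearQuad.fr_add hF, SemilinearQuad.fr_add hF, mul_zero,
      zero_add, fr_z, SemilinearQuad.fr_mul] at h
    simp only [hP] at h ⊢
    linear_combination h - (B * fr r (fz m a 0) + B * fr r (fz m a' 0) +
      B * fr r (a' * sig m a') * fr r a) * two_eq_zero hF
  all_goals
    have hB1 : B * fr r (k ^ 2 * sig m k) = χ k * B := by
      have e1 := hH k hk 1 1
      have e2 := hH k hk 1 0
      have e3 := hH k hk 0 1
      rw [mul_one, mul_one, hφ k, hφ 1 1, hΛB, hΛB, fr_one] at e1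
      rw [mul_one, mul_zero] at e2
      rw [mul_one, mul_zero] at e3
      rw [show k ^ 2 * sig m k = k * sig m k * k by ring, SemilinearQuad.fr_mul]
      linear_combination e1 - e2 - e3
  · have e := hH k hk a 0
    have hs : fz m (k * a) 0 = k ^ 2 * sig m k * fz m a 0 := by
      rw [← fz_scale hF, mul_zero]
    rw [mul_zero] at e
    simp only [hP, hs, SemilinearQuad.fr_mul] at hB1 ⊢
    linear_combination e + fr r (fz m a 0) * hB1
  · have e := hH k hk 0 b
    rw [mul_zero] at e
    have hs : sig m (k * sig m k * b) = k ^ 2 * sig m k * sig m b := by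
      rw [sig_mul, sig_mul, sig_sig hF]
      ring
    show φ (0, k * sig m k * b) + B * fr r (sig m (k * sig m k * b)) =
      χ k * (φ (0, b) + B * fr r (sig m b))
    rw [hs, SemilinearQuad.fr_mul r (k ^ 2 * sig m k)]
    linear_combination e + fr r (sig m b) * hB1

/-- The symmetrised functional equation. -/
theorem sym_five {r u i j : ZMod (2 * m + 1)} {P g : F → F} {e c : F} {ℓ : F → F}
    (hℓ : ∀ b, ℓ b = e * fr u b)
    (hA : ∀ a' a, P (a' + a) + ℓ (sig m a' * a) = P a + P a' + c * fr i a' * fr j a + g a' * fr r a) :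
    (∀ x, g x = e * (fr (u + ((m : ZMod (2 * m + 1)) + 1)) x + fr u x) + c * (fr i x + fr j x) +
        g 1 * fr r x) ∧
    ∀ v x, ∑ l : Fin 5, (![e * (fr u v + fr r v),
        e * (fr (u + ((m : ZMod (2 * m + 1)) + 1)) v + fr r v), c * (fr j v + fr r v),
        c * (fr i v + fr r v),
        e * (fr (u + ((m : ZMod (2 * m + 1)) + 1)) v + fr u v) + c * (fr i v + fr j v)] l) *
      fr (![u + ((m : ZMod (2 * m + 1)) + 1), u, i, j, r] l) x = 0 := by
  have h2 := two_eq_zero hF
  set X := fun x : F => fr (u + ((m : ZMod (2 * m + 1)) + 1)) x with hX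
  have hH : ∀ x v, e * (X x * fr u v + X v * fr u x) =
      c * (fr i x * fr j v + fr i v * fr j x) + g x * fr r v + g v * fr r x := by
    intro x v
    have h1 := hA x v
    have h3 := hA v x
    rw [hℓ, SemilinearQuad.fr_mul, sig_fr hF] at h1 h3
    rw [add_comm v x] at h3
    linear_combination h1 + h3 + (P x + P v - P (x + v)) * h2
  have hG : ∀ x, g x = e * (X x + fr u x) + c * (fr i x + fr j x) + g 1 * fr r x := by
    intro x
    have h := hH x 1
    simp only [hX, fr_one] at h ⊢
    linear_combination -h - (c * (fr i x + fr j x) + g 1 * fr r x) * h2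
  refine ⟨hG, fun v x => ?_⟩
  rw [Fin.sum_univ_five]
  simp only [Matrix.cons_val]
  linear_combination hH x v - fr r v * hG x - fr r x * hG v +
    (c * (fr i x * fr j v + fr i v * fr j x) + g x * fr r v + g v * fr r x -
      g 1 * fr r x * fr r v) * h2

/-- The exponent of the central part. -/
theorem e_cases (hm : 1 ≤ m) {r u i : ZMod (2 * m + 1)} {e c : F}
    (h : ∀ v x, ∑ l : Fin 5, (![e * (fr u v + fr r v),
        e * (fr (u + ((m : ZMod (2 * m + 1)) + 1)) v + fr r v), c * (fr i v + fr r v),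
        c * (fr i v + fr r v),
        e * (fr (u + ((m : ZMod (2 * m + 1)) + 1)) v + fr u v) + c * (fr i v + fr i v)] l) *
      fr (![u + ((m : ZMod (2 * m + 1)) + 1), u, i, i, r] l) x = 0) :
    e = 0 ∨ u = r ∨ u + ((m : ZMod (2 * m + 1)) + 1) = r := by
  by_contra hc
  push Not at hc
  obtain ⟨he, hur, husr⟩ := hc
  refine husr (SemilinearQuad.fr_injective_idx hF fun v => ?_)
  have h1 := coeff_short hF _ _ (h v) u
  have hs : u + ((m : ZMod (2 * m + 1)) + 1) ≠ u := fun e' =>
    (cast_m_ne hm).2.1 (by linear_combination e')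
  rw [Fin.sum_univ_five] at h1
  simp only [Matrix.cons_val, eq_false hs, eq_false (Ne.symm hur), if_true, if_false, zero_add, add_zero] at h1
  refine eq_of_add_eq_zero hF ((mul_eq_zero.1 ?_).resolve_left he)
  by_cases hi : i = u
  · simp only [eq_true hi, if_true] at h1
    linear_combination h1 - c * (fr i v + fr r v) * two_eq_zero hF
  · simp only [eq_false hi, if_false] at h1
    linear_combination h1

end Cfsg.Agent.CNStruct80
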