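import Cfsg.Agent.CNStruct80.Column
import Cfsg.Agent.CNStruct80.Semi
import Cfsg.Agent.CNStruct80.Suzuki
import Mathlib

/-!
# Self-extensions of the natural module of a Suzuki group split
-/

set_option autoImplicit false

namespace Cfsg.Agent.CNStruct80

open Matrix Cfsg.Agent.Suzuki
open SemilinearQuad (fr)

theorem odd_nsmul_eq {A : Type*} [AddCommMonoid A] {n : ℕ} (hn : Odd n) {a : A} (ha : a + a = 0) :
    n • a = a := by
  obtain ⟨j, rfl⟩ := hn
  rw [add_nsmul, mul_comm, mul_nsmul', two_nsmul, ha, nsmul_zero, one_nsmul, zero_add]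

universe u

variable {F : Type} [Field F] [Fintype F] {m : ℕ} (hF : Fintype.card F = 2 ^ (2 * m + 1))
include hF

omit [Fintype F] hF in
/-- An additive section. -/
theorem exists_addSection {W : Type u} [AddCommGroup W] {V : Type*} [AddCommGroup V]
    (h2 : ∀ w : W, w + w = 0) (h2' : ∀ v : V, v + v = 0) (π : W →+ V)
    (hπ : Function.Surjective π) : ∃ s : V →+ W, ∀ v, π (s v) = v := by
  let : Module (ZMod 2) W := AddCommGroup.zmodModule fun w => by rw [two_nsmul]; exact h2 w
  let : Module (ZMod 2) V := AddCommGroup.zmodModule fun v => by rw [two_nsmul]; exact h2' v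
  obtain ⟨g, hg⟩ := LinearMap.exists_rightInverse_of_surjective (π.toZModLinearMap 2)
    (LinearMap.range_eq_top.2 hπ)
  exact ⟨g.toAddMonoidHom, fun v => LinearMap.congr_fun hg v⟩

/-- A section may be chosen equivariant for the torus. -/
theorem exists_torusSection {W : Type u} [AddCommGroup W] (h2 : ∀ w : W, w + w = 0)
    (ρ : Cfsg.Sz F m →* AddMonoid.End W) (π : W →+ (Fin 4 → F)) (hπ : Function.Surjective π)
    (hπq : ∀ g w, π (ρ g w) = natHom F m g (π w)) :
    ∃ s : (Fin 4 → F) →+ W, (∀ v, π (s v) = v) ∧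
      ∀ (k : Fˣ) v, ρ (T hF k) (s v) = s (natHom F m (T hF k) v) := by
  classical
  have hVV : ∀ v : Fin 4 → F, v + v = 0 := fun v => funext fun l => add_self hF (v l)
  obtain ⟨s₀, hs₀⟩ := exists_addSection h2 hVV π hπ
  let t : Fˣ → ((Fin 4 → F) →+ W) := fun k =>
    (ρ (T hF k) : W →+ W).comp (s₀.comp (natHom F m (T hF k⁻¹) : (Fin 4 → F) →+ (Fin 4 → F)))
  refine ⟨∑ k, t k, fun v => ?_, fun l v => ?_⟩
  · rw [AddMonoidHom.finsetSum_apply, map_sum]
    have h1 : ∀ k, π (t k v) = v := fun k => by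
      show π (ρ (T hF k) (s₀ (natHom F m (T hF k⁻¹) v))) = v
      rw [hπq, hs₀, ← Function.comp_apply (f := natHom F m (T hF k)), ← AddMonoid.End.coe_mul,
        ← map_mul, ← T_mul, mul_inv_cancel, T_one, map_one]
      rfl
    simp only [h1, Finset.sum_const, Finset.card_univ]
    refine odd_nsmul_eq ?_ (hVV v)
    rw [Fintype.card_units, hF]
    exact Nat.Even.sub_odd Nat.one_le_two_pow (by simp [Nat.even_pow]) odd_one
  · rw [AddMonoidHom.finsetSum_apply, AddMonoidHom.finsetSum_apply, map_sum]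
    refine Fintype.sum_equiv (Equiv.mulLeft l) _ _ fun k => ?_
    show ρ (T hF l) (ρ (T hF k) (s₀ (natHom F m (T hF k⁻¹) v))) =
      ρ (T hF (l * k)) (s₀ (natHom F m (T hF (l * k)⁻¹) (natHom F m (T hF l) v)))
    rw [show natHom F m (T hF (l * k)⁻¹) (natHom F m (T hF l) v) =
      (natHom F m (T hF (l * k)⁻¹) * natHom F m (T hF l)) v from rfl, ← map_mul (natHom F m), ← T_mul,
      _root_.mul_inv_rev, inv_mul_cancel_right, T_mul, map_mul ρ]
    rfl

/-- The semilinear parts of a torus-equivariant cocycle are coboundaries on the radical. -/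
theorem part_coboundary (hm : 1 ≤ m) (κ : Cfsg.Sz F m → ((Fin 4 → F) →+ (Fin 4 → F)))
    (hκ : ∀ g h v, κ (g * h) v = natHom F m g (κ h v) + κ g (natHom F m h v))
    (hκT : ∀ k, κ (T hF k) = 0) :
    ∃ Δ : (Fin 4 → F) →+ (Fin 4 → F), ∀ (a b : F) v,
      κ (U hF a b) v = natHom F m (U hF a b) (Δ v) + Δ (natHom F m (U hF a b) v) := by
  classical
  have := charP_two hF
  let K : ℕ → Cfsg.Sz F m → Matrix (Fin 4) (Fin 4) F := fun r g =>
    Matrix.of fun i l => part (F := F) r (κ g) (Pi.single l 1) i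
  let pw : ℕ → (Fin 4 → F) →+ (Fin 4 → F) := fun r =>
    AddMonoidHom.mk' (fun v i => v i ^ 2 ^ r)
      fun u v => funext fun i => add_pow_char_pow (p := 2) ..
  have hK : ∀ r g v, part (F := F) r (κ g) v = K r g *ᵥ pw r v := fun r g v => by
    rw [part_eq_sum r (κ g) v]
    funext i
    simp [K, pw, Matrix.mulVec, dotProduct, mul_comm]
  have hpart : ∀ r g h v, part (F := F) r (κ (g * h)) v =
      natHom F m g (part (F := F) r (κ h) v) + part (F := F) r (κ g) (natHom F m h v) := by
    intro r g h v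
    have e : κ (g * h) = (Matrix.mulVecLin (natM g)).toAddMonoidHom.comp (κ h) +
        (κ g).comp (Matrix.mulVecLin (natM h)).toAddMonoidHom := AddMonoidHom.ext fun w => hκ g h w
    rw [e, part_add, part_comp_left, part_comp_right]
    rfl
  have hD : ∀ r < 2 * m + 1, ∃ D : Matrix (Fin 4) (Fin 4) F, ∀ a b : F,
      K r (U hF a b) = natM (U hF a b) * D + D * twM r (U hF a b) := by
    intro r hr
    set r' : ZMod (2 * m + 1) := (r : ZMod (2 * m + 1)) with hr'
    have hfr : ∀ x : F, fr r' x = x ^ 2 ^ r := fun x => by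
      rw [SemilinearQuad.fr, hr', ZMod.val_natCast, Nat.mod_eq_of_lt hr]
    have hcol : ∀ g (x : F × F), K r g *ᵥ pw r (col m x) = fun i => cb r' (K r g i) x := fun g x => by
      funext i
      simp [cb, hfr, pw, Matrix.mulVec, dotProduct]
    set Φ : F × F → Fin 4 → F := fun p => part (F := F) r (κ (U hF p.1 p.2)) (Pi.single 3 1) with hΦ
    have hcoc : ∀ p x : F × F, Φ (pmul m p x) =
        natM (U hF p.1 p.2) *ᵥ Φ x + K r (U hF p.1 p.2) *ᵥ pw r (col m x) := fun p x => by
      simp only [hΦ]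
      rw [← U_mul' hF, hpart, ← hK, col_eq_mulVec (m := m) x]
      rfl
    obtain ⟨D, hD⟩ := column_coboundary hF hm r' Φ
      (fun p => ⟨K r (U hF p.1 p.2), fun x i => by
        rw [hcoc, hcol, Pi.add_apply]
        rfl⟩) (by
        simp only [hΦ]
        funext i
        have h := hpart r (1 : Cfsg.Sz F m) 1 (Pi.single 3 1)
        rw [mul_one, map_one] at h
        rw [Prod.fst_zero, Prod.snd_zero, U_zero, Pi.zero_apply]
        exact congrFun (left_eq_add.1 h) i) fun i k hk a b => by
        have h := hpart r (T hF (Units.mk0 k hk) * U hF a b) (T hF (Units.mk0 k hk))⁻¹ (Pi.single 3 1)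
        rw [T_conj_U, hpart, ← T_inv, hκT, hκT] at h
        simp only [part_apply, AddMonoidHom.zero_apply, smul_zero, Finset.sum_const_zero, map_zero,
          zero_add, add_zero] at h
        simp only [← part_apply, Units.val_mk0, natHom_apply, natM_T] at h
        rw [show Matrix.diagonal _ *ᵥ Pi.single (3 : Fin 4) (1 : F) =
            (rho m k * k) • Pi.single (3 : Fin 4) (1 : F) by
          funext j
          fin_cases j <;> simp [rho, inv_pow, mul_comm]] at h
        rw [part_smul, Matrix.mulVec_smul] at h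
        show part (F := F) r (κ (U hF (k * a) (k * sig m k * b))) (Pi.single 3 1) i = _
        rw [h, Pi.smul_apply, Matrix.mulVec_diagonal, smul_eq_mul]
        simp only [hfr]
        fin_cases i <;> simp [wt, hΦ] <;> ring
    refine ⟨D, fun a b => Matrix.ext fun i l => ?_⟩
    refine sub_eq_zero.1 (congrFun (col_indep hF r (fun l => K r (U hF a b) i l -
      (natM (U hF a b) * D + D * twM r (U hF a b)) i l) fun x => ?_) l)
    have hfull : ∀ p, Φ p = natM (U hF p.1 p.2) *ᵥ (fun l => D l 3) + D *ᵥ pw r (col m p) := fun p => by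
      funext j
      rw [hD p j]
      simp [Matrix.mulVec, dotProduct, cb, hfr, pw, natM_U]
    have hx : K r (U hF a b) *ᵥ pw r (col m x) =
        (natM (U hF a b) * D + D * twM r (U hF a b)) *ᵥ pw r (col m x) := by
      have h := hcoc (a, b) x
      rw [hfull, hfull x, ← U_mul' hF, natM_mul, ← Matrix.mulVec_mulVec, Matrix.mulVec_add] at h
      have hpc : pw r (col m (pmul m (a, b) x)) = twM r (U hF a b) *ᵥ pw r (col m x) := by
        have ht := twist_mulVec hF r (U hF a b) (col m x)
        rw [natM_U, umat_mulVec_col hF (a, b) x] at ht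
        exact ht
      rw [hpc] at h
      simp only [Matrix.mulVec_mulVec] at h
      rw [Matrix.add_mulVec]
      funext j
      have hj := congrFun h j
      simp only [Pi.add_apply] at hj ⊢
      linear_combination -hj - ((natM (U hF a b) * D) *ᵥ pw r (col m x)) j * two_eq_zero hF
    have hxi := congrFun hx i
    simp only [Matrix.mulVec, dotProduct] at hxi
    simp only [sub_mul, Finset.sum_sub_distrib]
    rw [sub_eq_zero]
    exact hxi
  choose D hD using hD
  let Δ : (Fin 4 → F) →+ (Fin 4 → F) := ∑ r ∈ (Finset.range (2 * m + 1)).attach,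
    (Matrix.mulVecLin (D r.1 (Finset.mem_range.1 r.2))).toAddMonoidHom.comp (pw r.1)
  refine ⟨Δ, fun a b v => ?_⟩
  rw [← sum_part hF (by omega) (κ (U hF a b)) v, ← Finset.sum_attach]
  simp only [Δ, AddMonoidHom.finsetSum_apply, map_sum, ← Finset.sum_add_distrib]
  refine Finset.sum_congr rfl fun r _ => ?_
  rw [hK, hD _ (Finset.mem_range.1 r.2) a b, Matrix.add_mulVec, ← Matrix.mulVec_mulVec,
    ← Matrix.mulVec_mulVec]
  show _ = natM (U hF a b) *ᵥ (D r.1 _ *ᵥ pw r.1 v) + D r.1 _ *ᵥ pw r.1 (natM (U hF a b) *ᵥ v)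
  rw [show pw r.1 (natM (U hF a b) *ᵥ v) = twM r.1 (U hF a b) *ᵥ pw r.1 v from
    twist_mulVec hF r.1 _ v]

/-- An extension of the natural module by itself splits. -/
theorem exists_section (hm : 1 ≤ m) : SectionProp.{u} F m := by
  classical
  intro W _ _ h2 ρ i π hi hπ hex hiq hπq
  have hVV : ∀ v : Fin 4 → F, v + v = 0 := fun v => funext fun l => add_self hF (v l)
  obtain ⟨s, hs, hsT⟩ := exists_torusSection hF h2 ρ π hπ hπq
  have hdef : ∀ g v, ∃ x, i x = ρ g (s v) + s (natHom F m g v) := fun g v => (hex _).1 (by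
    rw [map_add, hπq, hs, hs, hVV])
  choose k hk using hdef
  let κ : Cfsg.Sz F m → ((Fin 4 → F) →+ (Fin 4 → F)) := fun g =>
    AddMonoidHom.mk' (k g) fun u v => hi (by
      rw [map_add, hk, hk, hk, map_add, map_add, map_add, map_add]; abel)
  have hκ : ∀ g h v, κ (g * h) v = natHom F m g (κ h v) + κ g (natHom F m h v) := fun g h v => hi (by
    show i (k (g * h) v) = i (natHom F m g (k h v) + k g (natHom F m h v))
    rw [map_add, hiq, hk, hk, hk, map_add, add_assoc (ρ g (ρ h (s v))), ← add_assoc (ρ g (s _)),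
      h2, zero_add, map_mul, map_mul]
    rfl)
  have hκT : ∀ l, κ (T hF l) = 0 := fun l => AddMonoidHom.ext fun v => hi (by
    show i (k (T hF l) v) = i 0
    rw [hk, hsT, h2, map_zero])
  obtain ⟨Δ, hΔ⟩ := part_coboundary hF hm κ hκ hκT
  set s₁ : (Fin 4 → F) →+ W := s + i.comp Δ with hs₁
  let H : Subgroup (Cfsg.Sz F m) :=
    { carrier := {g | ∀ v, ρ g (s₁ v) = s₁ (natHom F m g v)}
      one_mem' := fun v => by rw [map_one, map_one]; rfl
      mul_mem' := fun {g h} hg hh v => by
        rw [map_mul, map_mul]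
        show ρ g (ρ h (s₁ v)) = s₁ (natHom F m g (natHom F m h v))
        rw [hh, hg]
      inv_mem' := fun {g} hg v => by
        have h := hg (natHom F m g⁻¹ v)
        rw [show natHom F m g (natHom F m g⁻¹ v) = (natHom F m g * natHom F m g⁻¹) v from rfl,
          ← map_mul, mul_inv_cancel, map_one] at h
        rw [show s₁ v = s₁ ((1 : AddMonoid.End (Fin 4 → F)) v) from rfl, ← h,
          show ρ g⁻¹ (ρ g (s₁ (natHom F m g⁻¹ v))) =
            (ρ g⁻¹ * ρ g) (s₁ (natHom F m g⁻¹ v)) from rfl,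
          ← map_mul, inv_mul_cancel, map_one]
        rfl }
  have hU : USub hF ≤ H := by
    rintro _ ⟨a, b, rfl⟩ v
    show ρ (U hF a b) (s v + i (Δ v)) = s (natHom F m (U hF a b) v) + i (Δ (natHom F m (U hF a b) v))
    have h := congrArg i (hΔ a b v)
    rw [show i (κ (U hF a b) v) = _ from hk (U hF a b) v, map_add, hiq] at h
    rw [map_add]
    have e := h2 (s (natHom F m (U hF a b) v))
    have e' := h2 (ρ (U hF a b) (i (Δ v)))
    linear_combination (norm := abel) h - e + e'
  have hodd : Odd H.index := Nat.not_even_iff_odd.1 fun h =>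
    index_USub_odd hF hm ((even_iff_two_dvd.1 h).trans (Subgroup.index_dvd_of_le hU))
  let t : Cfsg.Sz F m → ((Fin 4 → F) →+ W) := fun g =>
    (ρ g : W →+ W).comp (s₁.comp (natHom F m g⁻¹ : (Fin 4 → F) →+ (Fin 4 → F)))
  have ht : ∀ g, ∀ h ∈ H, t (g * h) = t g := fun g h hh => AddMonoidHom.ext fun v => by
    show ρ (g * h) (s₁ (natHom F m (g * h)⁻¹ v)) = ρ g (s₁ (natHom F m g⁻¹ v))
    rw [map_mul ρ]
    show ρ g (ρ h _) = _
    rw [hh, show natHom F m h (natHom F m (g * h)⁻¹ v) = (natHom F m h * natHom F m (g * h)⁻¹) v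
      from rfl, ← map_mul, _root_.mul_inv_rev, mul_inv_cancel_left]
  refine ⟨∑ q : Cfsg.Sz F m ⧸ H, t q.out, fun g v => ?_, fun v => ?_⟩
  · rw [AddMonoidHom.finsetSum_apply, AddMonoidHom.finsetSum_apply, map_sum]
    symm
    refine Fintype.sum_equiv (MulAction.toPerm g) _ _ fun q => ?_
    obtain ⟨h, hh, he⟩ : ∃ h ∈ H, (g • q).out = g * q.out * h := ⟨(g * q.out)⁻¹ * (g • q).out, by
      rw [← QuotientGroup.eq, QuotientGroup.out_eq']
      conv_rhs => rw [← QuotientGroup.out_eq' q]
      rfl, by group⟩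
    show ρ g (t q.out v) = t (g • q).out (natHom F m g v)
    rw [he, ht _ h hh]
    show ρ g (ρ q.out _) = ρ (g * q.out) (s₁ (natHom F m (g * q.out)⁻¹ (natHom F m g v)))
    rw [show natHom F m (g * q.out)⁻¹ (natHom F m g v) =
      (natHom F m (g * q.out)⁻¹ * natHom F m g) v from rfl, ← map_mul (natHom F m),
      _root_.mul_inv_rev, inv_mul_cancel_right, map_mul ρ]
    rfl
  · rw [AddMonoidHom.finsetSum_apply, map_sum]
    have h1 : ∀ g, π (t g v) = v := fun g => by
      show π (ρ g (s (natHom F m g⁻¹ v) + i (Δ _))) = v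
      rw [map_add, map_add, hπq, hs, ← hiq, (hex _).2 ⟨_, rfl⟩, add_zero,
        show natHom F m g (natHom F m g⁻¹ v) = (natHom F m g * natHom F m g⁻¹) v from rfl,
        ← map_mul, mul_inv_cancel, map_one]
      rfl
    simp only [h1, Finset.sum_const, Finset.card_univ]
    rw [← Nat.card_eq_fintype_card]
    exact odd_nsmul_eq hodd (hVV v)

end Cfsg.Agent.CNStruct80
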