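import Cfsg.Agent.CNStruct80.Rank1
import Mathlib

/-!
# Tensor products of twists of the natural module of a Suzuki group

They are irreducible; at least two factors give an element of order five a fixed vector.
-/

set_option autoImplicit false

namespace Cfsg.Agent.CNStruct80

open Matrix Cfsg.Agent.Suzuki

variable {F : Type*} [Field F] {m : ℕ} [Fintype F] (hF : Fintype.card F = 2 ^ (2 * m + 1))
include hF

/-- The product of twisted natural matrices. -/
def tMat {k : ℕ} (e : Fin k → ℕ) : Cfsg.Sz F m →* Matrix (Fin k → Fin 4) (Fin k → Fin 4) F where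
  toFun g := Matrix.of fun s t => ∏ x, natM g (s x) (t x) ^ 2 ^ e x
  map_one' := by
    ext s t
    rw [Matrix.of_apply, natM_one]
    by_cases h : s = t
    · subst h; simp
    · obtain ⟨x, hx⟩ := Function.ne_iff.1 h
      rw [Matrix.one_apply_ne h]
      exact Finset.prod_eq_zero (Finset.mem_univ x) (by rw [Matrix.one_apply_ne hx]; simp)
  map_mul' g h := by
    have := charP_two hF
    ext s t
    simp only [Matrix.of_apply, Matrix.mul_apply, natM_mul, sum_pow_char_pow (p := 2), Fintype.prod_sum,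
      mul_pow, Finset.prod_mul_distrib]

theorem tMat_apply {k : ℕ} (e : Fin k → ℕ) (g : Cfsg.Sz F m) (s t : Fin k → Fin 4) :
    tMat hF e g s t = ∏ x, natM g (s x) (t x) ^ 2 ^ e x := rfl

/-- The tensor product of twists. -/
def tHom {k : ℕ} (e : Fin k → ℕ) : Cfsg.Sz F m →* Module.End F ((Fin k → Fin 4) → F) :=
  (Matrix.toLinAlgEquiv' (R := F) (n := Fin k → Fin 4)).toMonoidHom.comp (tMat hF e)

theorem tHom_apply {k : ℕ} (e : Fin k → ℕ) (g : Cfsg.Sz F m) (v : (Fin k → Fin 4) → F) :
    tHom hF e g v = tMat hF e g *ᵥ v := Matrix.toLinAlgEquiv'_apply _ _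

theorem tHom_single {k : ℕ} (e : Fin k → ℕ) (g : Cfsg.Sz F m) (t s : Fin k → Fin 4) :
    tHom hF e g (Pi.single t 1) s = tMat hF e g s t := by
  rw [tHom_apply, Matrix.mulVec_single_one]
  rfl

theorem tHom_T {k : ℕ} (e : Fin k → ℕ) (c : Fˣ) :
    tHom hF e (T hF c) (Pi.single (fun _ => 0) 1) =
      (rho m (c : F) * c) ^ (∑ x, 2 ^ e x) • Pi.single (fun _ => (0 : Fin 4)) (1 : F) := by
  funext s
  rw [tHom_single, tMat_apply, natM_T, Pi.smul_apply]
  by_cases h : s = fun _ => 0
  · subst h
    rw [Pi.single_eq_same, smul_eq_mul, mul_one, ← Finset.prod_pow_eq_pow_sum]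
    simp
  · obtain ⟨x, hx⟩ := Function.ne_iff.1 h
    rw [Pi.single_eq_of_ne h, smul_zero]
    exact Finset.prod_eq_zero (Finset.mem_univ x) (by rw [Matrix.diagonal_apply_ne _ hx]; simp)

theorem tHom_U {k : ℕ} (e : Fin k → ℕ) (p : F × F) :
    tHom hF e (U hF p.1 p.2) (Pi.single (fun _ => 0) 1) =
      Pi.single (fun _ => (0 : Fin 4)) (1 : F) := by
  funext s
  rw [tHom_single, tMat_apply, natM_U]
  by_cases h : s = fun _ => 0
  · subst h; simp [umat]
  · obtain ⟨x, hx⟩ := Function.ne_iff.1 h
    rw [Pi.single_eq_of_ne h]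
    refine Finset.prod_eq_zero (Finset.mem_univ x) ?_
    rw [show umat m p.1 p.2 (s x) 0 = 0 by
      generalize hy : s x = y
      rw [hy] at hx
      fin_cases y <;> simp_all [umat]]
    simp

/-- The tensor product of distinct twists is irreducible. -/
theorem tHom_irred {k : ℕ} (e : Fin k → Fin (2 * m + 1)) (he : Function.Injective e)
    (A : Submodule F ((Fin k → Fin 4) → F))
    (hA : ∀ g, ∀ w ∈ A, tHom hF (fun x => (e x : ℕ)) g w ∈ A) : A = ⊥ ∨ A = ⊤ := by
  classical
  rw [or_iff_not_imp_left]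
  intro hbot
  obtain ⟨v, hvA, hv0, hvU⟩ := exists_fixed hF _ A hbot fun p w hw => hA _ w hw
  have hli := Fintype.linearIndependent_iff.1 (linearIndependent_sub hF e he)
  -- the fixed vector is supported at the top
  have hv : v = v (fun _ => 0) • Pi.single (fun _ => (0 : Fin 4)) 1 := by
    have key : ∀ p : F × F, ∑ t : Fin k → Fin 4,
        v t * prodCol m (fun x => (e x : ℕ)) (fun x => Fin.rev (t x)) p = v fun _ => 0 := by
      intro p
      conv_rhs => rw [← hvU (p.1, p.2 + p.1 * sig m p.1)]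
      rw [tHom_apply, Matrix.mulVec, dotProduct]
      refine Finset.sum_congr rfl fun t _ => ?_
      rw [mul_comm, tMat_apply, natM_U]
      congr 1
      refine Finset.prod_congr rfl fun x _ => ?_
      congr 1
      have h2 := two_eq_zero hF
      dsimp only
      generalize t x = y
      fin_cases y <;> simp [umat, col, pv, fz, Fin.rev]
      · linear_combination (-(p.1 * sig m p.1)) * h2
      · rw [sig_add hF, sig_mul, sig_sig hF]
        linear_combination (-(p.1 * p.1 * sig m p.1)) * h2
    have h := hli (fun s => v (fun x => Fin.rev (s x)) - (if s = fun _ => 3 then v (fun _ => 0) else 0))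
      (by
        funext p
        rw [Finset.sum_apply, Pi.zero_apply]
        simp only [Pi.smul_apply, smul_eq_mul, sub_mul, ite_mul, zero_mul, Finset.sum_sub_distrib,
          Finset.sum_ite_eq', Finset.mem_univ, if_true]
        rw [show prodCol m (fun x => (e x : ℕ)) (fun _ => (3 : Fin 4)) p = 1 by simp [prodCol, col, pv],
          mul_one, sub_eq_zero, ← key p]
        refine Fintype.sum_equiv ((Equiv.refl (Fin k)).arrowCongr Fin.revPerm) _ _ fun s => ?_
        simp [Equiv.arrowCongr, Function.comp_def])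
    funext t
    have h' := h fun x => Fin.rev (t x)
    simp only [Fin.rev_rev] at h'
    by_cases ht : t = fun _ => 0
    · subst ht; simp
    · rw [Pi.smul_apply, Pi.single_eq_of_ne ht, smul_zero]
      rwa [if_neg (fun e => ht (funext fun x => by
        have e' := congrArg Fin.rev (congrFun e x)
        simpa using e')), sub_zero] at h'
  have hv00 : v (fun _ => 0) ≠ 0 := fun h => hv0 (by rw [hv, h, zero_smul])
  have he0 : Pi.single (fun _ => (0 : Fin 4)) (1 : F) ∈ A := by
    have h := A.smul_mem (v (fun _ => 0))⁻¹ hvA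
    rwa [hv, smul_smul, Pi.smul_apply, Pi.single_eq_same, smul_eq_mul, mul_one, inv_mul_cancel₀ hv00,
      one_smul] at h
  have hcol : ∀ p, (fun s => prodCol m (fun x => (e x : ℕ)) s p) ∈ A := by
    intro p
    have h := hA (U hF p.1 p.2 * W hF) _ he0
    convert h using 1
    funext s
    rw [tHom_single, tMat_apply, prodCol]
    refine Finset.prod_congr rfl fun x _ => ?_
    congr 1
    rw [natM_mul, natM_U, natM_W, col_eq_mulVec (m := m) p]
    generalize s x = y
    fin_cases y <;> simp [Matrix.mul_apply, Fin.sum_univ_four, umat, Matrix.mulVec_single]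
  by_contra htop
  obtain ⟨φ, hφ0, hφA⟩ := Submodule.exists_le_ker_of_lt_top A (lt_top_iff_ne_top.2 htop)
  refine hφ0 (LinearMap.pi_ext' fun t => LinearMap.ext_ring ?_)
  have h := hli (fun s => φ (Pi.single s 1)) (by
    funext p
    rw [Finset.sum_apply, Pi.zero_apply, ← LinearMap.mem_ker.1 (hφA (hcol p))]
    conv_rhs => rw [pi_eq_sum_univ' (fun s => prodCol m (fun x => (e x : ℕ)) s p), map_sum]
    refine Finset.sum_congr rfl fun s _ => ?_
    rw [Pi.smul_apply, map_smul, smul_eq_mul, smul_eq_mul, mul_comm]) t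
  simpa using h

/-- With at least two factors some element of odd order fixes a non-zero vector. -/
theorem tHom_fixed {k : ℕ} (hk : 2 ≤ k) (e : Fin k → ℕ) :
    ∃ g : Cfsg.Sz F m, Odd (orderOf g) ∧ g ≠ 1 ∧
      ∃ v : (Fin k → Fin 4) → F, v ≠ 0 ∧ tHom hF e g v = v := by
  classical
  have := charP_two hF
  let φ : ZMod 2 →+* F := ZMod.castHom dvd_rfl F
  let B : Matrix (Fin 4) (Fin 4) (ZMod 2) := !![1, 1, 0, 1; 1, 0, 1, 0; 0, 1, 0, 0; 1, 0, 0, 0]
  set g := U hF (0 : F) 1 * W hF with hg
  have hgm : natM g = B.map φ := by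
    rw [hg, natM_mul, natM_U, natM_W]
    ext i j
    fin_cases i <;> fin_cases j <;>
      simp [B, umat, fz, sig_zero, sig_one, Matrix.mul_apply, Fin.sum_univ_four]
  have hgp : ∀ j : ℕ, natM (g ^ j) = (B ^ j).map φ := by
    intro j
    induction j with
    | zero => rw [pow_zero, pow_zero, natM_one, Matrix.map_one _ (map_zero φ) (map_one φ)]
    | succ j ih => rw [pow_succ, pow_succ, natM_mul, ih, hgm, Matrix.map_mul]
  have h5 : g ^ 5 = 1 := by
    refine Subtype.ext (Subtype.ext ?_)
    show natM (g ^ 5) = 1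
    rw [hgp, show B ^ 5 = 1 by decide +kernel, Matrix.map_one _ (map_zero φ) (map_one φ)]
  have hg1 : g ≠ 1 := by
    intro h
    have h' := congrFun (congrFun (hgm.symm.trans (by rw [h, natM_one])) 1) 1
    simp [B] at h'
  have hodd : Odd (orderOf g) := by
    rcases (Nat.dvd_prime (by norm_num : Nat.Prime 5)).1 (orderOf_dvd_of_pow_eq_one h5) with h | h <;>
      rw [h] <;> decide
  obtain ⟨a, b, c, d, habcd⟩ : ∃ a b c d : Fin 4,
      ∑ j : Fin 5, (B ^ (j : ℕ)) a b * (B ^ (j : ℕ)) c d = 1 := by decide +kernel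
  refine ⟨g, hodd, hg1, ?_⟩
  obtain ⟨k, rfl⟩ : ∃ j, k = j + 1 := ⟨k - 1, by omega⟩
  let t : Fin (k + 1) → Fin 4 := Fin.cons b fun _ => d
  let s : Fin (k + 1) → Fin 4 := Fin.cons a fun _ => c
  refine ⟨∑ j : Fin 5, tHom hF e (g ^ (j : ℕ)) (Pi.single t 1), fun h => ?_, ?_⟩
  · have hb : ∀ z : ZMod 2, ∀ i : ℕ, 0 < i → z ^ i = z := by
      intro z i hi
      obtain ⟨i, rfl⟩ : ∃ l, i = l + 1 := ⟨i - 1, by omega⟩
      fin_cases z
      · exact zero_pow i.succ_ne_zero
      · exact one_pow _
    have hz := congrFun h s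
    rw [Finset.sum_apply, Pi.zero_apply, Finset.sum_congr rfl (g := fun j : Fin 5 =>
      φ ((B ^ (j : ℕ)) a b * (B ^ (j : ℕ)) c d)) (fun j _ => by
        rw [tHom_single, tMat_apply, hgp, Fin.prod_univ_succ]
        simp only [s, t, Fin.cons_zero, Fin.cons_succ, Matrix.map_apply, ← map_pow, ← map_prod,
          ← map_mul]
        rw [hb _ _ (by positivity), Finset.prod_congr rfl (fun x _ => hb _ _ (by positivity)),
          Finset.prod_const, Finset.card_univ, Fintype.card_fin, hb _ _ (by omega)]),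
      ← map_sum, habcd, map_one] at hz
    exact one_ne_zero hz
  · rw [map_sum]
    simp only [← Module.End.mul_apply, ← map_mul, ← pow_succ']
    refine Fintype.sum_equiv (Equiv.addRight (1 : Fin 5)) _ _ fun j => ?_
    rw [Equiv.coe_addRight, Fin.val_add, pow_eq_pow_mod ((j : ℕ) + 1) h5]
    rfl

end Cfsg.Agent.CNStruct80
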