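import Cfsg.Agent.CNStruct80.Basic
import Cfsg.Agent.Lib.Suzuki.AutSylow
import Mathlib

/-!
# Products of Frobenius maps of a field of order `2 ^ (2 * m + 1)`

A product of few distinct Frobenius maps determines the set of its factors.
-/

set_option autoImplicit false

namespace Cfsg.Agent.CNStruct80

open Cfsg.Agent.Suzuki
open SemilinearQuad (fr)

variable {F : Type*} [Field F] [Fintype F] {m : ℕ} (hF : Fintype.card F = 2 ^ (2 * m + 1))
include hF

omit [Field F] hF in
theorem val_m : ((m : ZMod (2 * m + 1))).val = m := by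
  rw [ZMod.val_natCast, Nat.mod_eq_of_lt (by omega)]

omit [Fintype F] hF in
theorem rho_eq_fr (x : F) : rho m x = fr (m : ZMod (2 * m + 1)) x := by
  rw [rho, fr, val_m]

theorem sig_eq_fr (x : F) : sig m x = fr ((m : ZMod (2 * m + 1)) + 1) x := by
  rw [sig, SemilinearQuad.fr, ← Nat.cast_add_one, ZMod.val_natCast,
    ← SemilinearQuad.pow_two_pow_mod hF]

omit [Fintype F] hF in
theorem fr_zero (x : F) : fr (0 : ZMod (2 * m + 1)) x = x := by simp [SemilinearQuad.fr]

theorem fr_sq (u : ZMod (2 * m + 1)) (hm : 1 ≤ m) (x : F) : fr u x * fr u x = fr (u + 1) x := by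
  have : Fact (1 < 2 * m + 1) := ⟨by omega⟩
  rw [add_comm u 1, SemilinearQuad.fr_add_idx hF, SemilinearQuad.fr, SemilinearQuad.fr,
    ZMod.val_one, pow_one, pow_two]

theorem exp_congr {A B : ℕ} (h : ∀ k : F, k ≠ 0 → k ^ A = k ^ B) :
    A % (2 ^ (2 * m + 1) - 1) = B % (2 ^ (2 * m + 1) - 1) := by
  classical
  obtain ⟨g, hg⟩ := IsCyclic.exists_generator (α := Fˣ)
  have hord : orderOf g = 2 ^ (2 * m + 1) - 1 := by
    rw [orderOf_eq_card_of_forall_mem_zpowers hg, Nat.card_eq_fintype_card, Fintype.card_units, hF]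
  have h' : g ^ A = g ^ B := Units.ext (by push_cast; exact h g g.ne_zero)
  rw [← hord]
  exact pow_inj_mod.1 h'

omit [Fintype F] hF in
theorem prod_fr (S : Finset (ZMod (2 * m + 1))) (x : F) :
    ∏ u ∈ S, fr u x = x ^ ∑ u ∈ S, 2 ^ u.val := Finset.prod_pow_eq_pow_sum _ _ _

omit hF in
theorem sum_two_pow_lt {S : Finset (ZMod (2 * m + 1))} (hS : S.card < 2 * m + 1) :
    ∑ u ∈ S, 2 ^ u.val < 2 ^ (2 * m + 1) - 1 := by
  classical
  have hne : S ≠ Finset.univ := fun h => by simp [h] at hS
  obtain ⟨i, hi⟩ : ∃ i, i ∉ S := by simpa [Finset.eq_univ_iff_forall] using hne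
  have h1 : ∑ u : ZMod (2 * m + 1), 2 ^ u.val = 2 ^ (2 * m + 1) - 1 := by
    show ∑ u : Fin (2 * m + 1), 2 ^ (u : ℕ) = _
    rw [Fin.sum_univ_eq_sum_range (fun x => 2 ^ x), Nat.geomSum_eq le_rfl]
    simp
  rw [← h1]
  exact Finset.sum_lt_sum_of_subset (Finset.subset_univ S) (Finset.mem_univ i) hi
    (Nat.two_pow_pos _) fun _ _ _ => Nat.zero_le _

/-- Few distinct Frobenius maps are determined by their product. -/
theorem bits_eq {S T : Finset (ZMod (2 * m + 1))} (hS : S.card < 2 * m + 1)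
    (hT : T.card < 2 * m + 1) (h : ∀ k : F, k ≠ 0 → ∏ u ∈ S, fr u k = ∏ u ∈ T, fr u k) :
    S = T := by
  classical
  simp only [prod_fr] at h
  have h' := exp_congr hF h
  rw [Nat.mod_eq_of_lt (sum_two_pow_lt hS), Nat.mod_eq_of_lt (sum_two_pow_lt hT)] at h'
  refine Finset.map_injective ⟨ZMod.val, ZMod.val_injective _⟩ (Finset.geomSum_injective le_rfl ?_)
  simpa only [Finset.sum_map, Function.Embedding.coeFn_mk] using h'

theorem card_le_one_of_single {S : Finset (ZMod (2 * m + 1))} (hS : S.card < 2 * m + 1) (hm : 1 ≤ m)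
    {t : ZMod (2 * m + 1)} (h : ∀ k : F, k ≠ 0 → ∏ u ∈ S, fr u k = fr t k) : S.card = 1 := by
  classical
  rw [bits_eq hF hS (T := {t}) (by rw [Finset.card_singleton]; omega)
    (fun k hk => by rw [h k hk, Finset.prod_singleton]), Finset.card_singleton]

omit hF in
theorem cast_m_ne (hm : 1 ≤ m) :
    (m : ZMod (2 * m + 1)) ≠ 0 ∧ (m : ZMod (2 * m + 1)) + 1 ≠ 0 ∧ (m : ZMod (2 * m + 1)) + m ≠ 0 ∧
      (m : ZMod (2 * m + 1)) + m ≠ 1 ∧ (1 : ZMod (2 * m + 1)) ≠ 0 ∧
      (m : ZMod (2 * m + 1)) + m + 1 = 0 := by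
  have hz : ∀ a : ℕ, 0 < a → a < 2 * m + 1 → (a : ZMod (2 * m + 1)) ≠ 0 := fun a h1 h2 h => by
    rw [ZMod.natCast_eq_zero_iff] at h
    exact absurd (Nat.le_of_dvd h1 h) (by omega)
  have h0 : (m : ZMod (2 * m + 1)) + m + 1 = 0 := by
    have := ZMod.natCast_self (2 * m + 1)
    push_cast at this
    linear_combination this
  refine ⟨hz m (by omega) (by omega), by exact_mod_cast hz (m + 1) (by omega) (by omega),
    by exact_mod_cast hz (m + m) (by omega) (by omega), fun h => ?_,
    by exact_mod_cast hz 1 one_pos (by omega), h0⟩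
  refine hz 2 two_pos (by omega) ?_
  push_cast
  linear_combination h0 - h

/-- The weight of the bottom row. -/
theorem weight_three (hm : 1 ≤ m) {r t : ZMod (2 * m + 1)}
    (h : ∀ k : F, k ≠ 0 → fr (r + (m : ZMod (2 * m + 1))) k * fr r k = fr t k * (fr (m : ZMod (2 * m + 1)) k * k)) :
    r = (m : ZMod (2 * m + 1)) + 1 ∧ t = m := by
  classical
  rcases Nat.lt_or_ge m 2 with hm2 | hm2
  · obtain rfl : m = 1 := by omega
    simp only [SemilinearQuad.fr, ← pow_add, ← pow_succ] at h
    have h' := exp_congr hF h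
    revert h'
    clear h hF
    revert r t
    decide
  obtain ⟨hm0, hm1, hmm, hmm1, h10, hs⟩ := cast_m_ne (m := m) hm
  have hl : (({r + ↑m, r} : Finset (ZMod (2 * m + 1))).card = 2) :=
    Finset.card_pair fun e => hm0 (by linear_combination e)
  have hp : ∀ k : F, ∏ u ∈ ({r + ↑m, r} : Finset (ZMod (2 * m + 1))), fr u k =
      fr (r + (m : ZMod (2 * m + 1))) k * fr r k := fun k => Finset.prod_pair fun e => hm0 (by linear_combination e)
  have hm1' : (m : ZMod (2 * m + 1)) ≠ 1 := by
    intro e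
    have := congrArg ZMod.val e
    have : Fact (1 < 2 * m + 1) := ⟨by omega⟩
    rw [val_m, ZMod.val_one] at *
    omega
  by_cases ht0 : t = 0
  · exfalso
    subst ht0
    have e := bits_eq hF (S := {r + ↑m, r}) (T := {(m : ZMod (2 * m + 1)), 1}) (by omega)
      (by rw [Finset.card_pair hm1']; omega) fun k hk => by
        rw [hp, h k hk, Finset.prod_pair hm1', fr_zero]
        rw [show fr (1 : ZMod (2 * m + 1)) k = k * k by
          rw [← zero_add (1 : ZMod (2 * m + 1)), ← fr_sq hF 0 hm, fr_zero]]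
        ring
    have e1 : r = ↑m ∨ r = 1 := by
      have : r ∈ ({(m : ZMod (2 * m + 1)), 1} : Finset (ZMod (2 * m + 1))) := e ▸ by simp
      simpa using this
    have e2 : r + m = ↑m ∨ r + m = 1 := by
      have : r + m ∈ ({(m : ZMod (2 * m + 1)), 1} : Finset (ZMod (2 * m + 1))) := e ▸ by simp
      simpa using this
    rcases e1 with e1 | e1 <;> subst e1 <;> rcases e2 with e2 | e2
    · exact hm0 (by linear_combination e2)
    · exact hmm1 e2
    · exact h10 (by linear_combination e2)
    · exact hm0 (by linear_combination e2)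
  by_cases htm : t = m
  · subst htm
    refine ⟨?_, rfl⟩
    have e := bits_eq hF (S := {r + ↑m, r}) (T := {(m : ZMod (2 * m + 1)) + 1, 0}) (by omega)
      (by rw [Finset.card_pair hm1]; omega) fun k hk => by
        rw [hp, h k hk, Finset.prod_pair hm1, fr_zero, ← fr_sq hF _ hm, mul_assoc]
    have e1 : r = (m : ZMod (2 * m + 1)) + 1 ∨ r = 0 := by
      have : r ∈ ({(m : ZMod (2 * m + 1)) + 1, 0} : Finset (ZMod (2 * m + 1))) := e ▸ by simp
      simpa using this
    refine e1.resolve_right fun e1 => ?_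
    subst e1
    have : (0 : ZMod (2 * m + 1)) + m ∈ ({(m : ZMod (2 * m + 1)) + 1, 0} : Finset (ZMod (2 * m + 1))) :=
      e ▸ by simp
    simp [hm0, h10] at this
  exfalso
  have hc : ({t, (m : ZMod (2 * m + 1)), 0} : Finset (ZMod (2 * m + 1))).card = 3 :=
    Finset.card_eq_three.2 ⟨_, _, _, htm, ht0, hm0, rfl⟩
  have e := bits_eq hF (S := {r + ↑m, r}) (T := {t, (m : ZMod (2 * m + 1)), 0}) (by omega) (by omega)
    fun k hk => by
      rw [hp, h k hk, Finset.prod_insert (by simp [htm, ht0]), Finset.prod_pair hm0, fr_zero]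
  rw [e] at hl
  omega

/-- The weight of the third row. -/
theorem weight_two (hm : 1 ≤ m) {r t : ZMod (2 * m + 1)}
    (h : ∀ k : F, k ≠ 0 → fr (r + (m : ZMod (2 * m + 1))) k * fr r k = fr t k * fr (m : ZMod (2 * m + 1)) k) :
    (r = 0 ∧ t = 0) ∨ (r = m ∧ t = (m : ZMod (2 * m + 1)) + m) := by
  classical
  obtain ⟨hm0, hm1, hmm, hmm1, h10, hs⟩ := cast_m_ne (m := m) hm
  have hl : (({r + ↑m, r} : Finset (ZMod (2 * m + 1))).card = 2) :=
    Finset.card_pair fun e => hm0 (by linear_combination e)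
  have hp : ∀ k : F, ∏ u ∈ ({r + ↑m, r} : Finset (ZMod (2 * m + 1))), fr u k =
      fr (r + (m : ZMod (2 * m + 1))) k * fr r k := fun k => Finset.prod_pair fun e => hm0 (by linear_combination e)
  by_cases htm : t = m
  · subst htm
    exfalso
    have := card_le_one_of_single hF (S := {r + ↑m, r}) (by omega) hm (t := (m : ZMod (2 * m + 1)) + 1)
      fun k hk => by rw [hp, h k hk, fr_sq hF _ hm]
    omega
  have e := bits_eq hF (S := {r + ↑m, r}) (T := {t, (m : ZMod (2 * m + 1))}) (by omega)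
    (by rw [Finset.card_pair htm]; omega) fun k hk => by rw [hp, h k hk, Finset.prod_pair htm]
  have e1 : r + (m : ZMod (2 * m + 1)) = t ∨ r + (m : ZMod (2 * m + 1)) = ↑m := by
    have : r + m ∈ ({t, (m : ZMod (2 * m + 1))} : Finset (ZMod (2 * m + 1))) := e ▸ by simp
    simpa using this
  have e2 : r = t ∨ r = ↑m := by
    have : r ∈ ({t, (m : ZMod (2 * m + 1))} : Finset (ZMod (2 * m + 1))) := e ▸ by simp
    simpa using this
  rcases e1 with e1 | e1 <;> rcases e2 with e2 | e2
  · exact absurd (by linear_combination e1 - e2) hm0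
  · exact Or.inr ⟨e2, by rw [← e1, e2]⟩
  · have : r = 0 := by linear_combination e1
    exact Or.inl ⟨this, e2 ▸ this⟩
  · exact absurd (by linear_combination e1 - e2) hm0

/-- The weight of the second row. -/
theorem weight_one (hm : 1 ≤ m) {r t : ZMod (2 * m + 1)}
    (h : ∀ k : F, k ≠ 0 → fr (m : ZMod (2 * m + 1)) k * (fr (r + (m : ZMod (2 * m + 1))) k * fr r k) = fr t k) :
    m = 1 ∧ r = 1 ∧ t = 0 := by
  classical
  rcases Nat.lt_or_ge m 2 with hm2 | hm2
  · obtain rfl : m = 1 := by omega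
    simp only [SemilinearQuad.fr, ← pow_add] at h
    have h' := exp_congr hF h
    revert h'
    clear h hF
    revert r t
    decide
  exfalso
  obtain ⟨hm0, hm1, hmm, hmm1, h10, hs⟩ := cast_m_ne (m := m) hm
  have hm12 : (m : ZMod (2 * m + 1)) + 1 ≠ m + m := fun e => by
    have h1 : (1 : ZMod (2 * m + 1)) = m := by linear_combination e
    have := congrArg ZMod.val h1
    have : Fact (1 < 2 * m + 1) := ⟨by omega⟩
    rw [val_m, ZMod.val_one] at *
    omega
  by_cases hr0 : r = 0
  · subst hr0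
    have := card_le_one_of_single hF (S := {(m : ZMod (2 * m + 1)) + 1, 0})
      (by rw [Finset.card_pair hm1]; omega) hm (t := t) fun k hk => by
        rw [Finset.prod_pair hm1, ← h k hk, ← fr_sq hF _ hm, zero_add, mul_assoc]
    rw [Finset.card_pair hm1] at this
    omega
  by_cases hrm : r = m
  · subst hrm
    have := card_le_one_of_single hF (S := {(m : ZMod (2 * m + 1)) + 1, (m : ZMod (2 * m + 1)) + m})
      (by rw [Finset.card_pair hm12]; omega) hm (t := t) fun k hk => by
        rw [Finset.prod_pair hm12, ← h k hk, ← fr_sq hF _ hm]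
        ring
    rw [Finset.card_pair hm12] at this
    omega
  have h1 : (m : ZMod (2 * m + 1)) ≠ r + m := fun e => hr0 (by linear_combination -e)
  have h2 : r + (m : ZMod (2 * m + 1)) ≠ r := fun e => hm0 (by linear_combination e)
  have hc : ({(m : ZMod (2 * m + 1)), r + ↑m, r} : Finset (ZMod (2 * m + 1))).card = 3 :=
    Finset.card_eq_three.2 ⟨_, _, _, h1, Ne.symm hrm, h2, rfl⟩
  have := card_le_one_of_single hF (S := {(m : ZMod (2 * m + 1)), r + ↑m, r}) (by omega) hm (t := t)
    fun k hk => by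
      rw [Finset.prod_insert (by simp [h1, Ne.symm hrm]), Finset.prod_pair h2, h k hk]
  omega

/-- The weight of the top row. -/
theorem weight_zero (hm : 1 ≤ m) {r t : ZMod (2 * m + 1)}
    (h : ∀ k : F, k ≠ 0 →
      fr (m : ZMod (2 * m + 1)) k * k * (fr (r + (m : ZMod (2 * m + 1))) k * fr r k) = fr t k) :
    t = r ∨ (t = 0 ∧ r = (m : ZMod (2 * m + 1)) + 1) := by
  classical
  rcases Nat.lt_or_ge m 2 with hm2 | hm2
  · obtain rfl : m = 1 := by omega
    simp only [SemilinearQuad.fr, ← pow_add, ← pow_succ] at h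
    have h' := exp_congr hF h
    revert h'
    clear h hF
    revert r t
    decide
  exfalso
  obtain ⟨hm0, hm1, hmm, hmm1, h10, hs⟩ := cast_m_ne (m := m) hm
  have hm1' : (m : ZMod (2 * m + 1)) ≠ 1 := by
    intro e
    have := congrArg ZMod.val e
    have : Fact (1 < 2 * m + 1) := ⟨by omega⟩
    rw [val_m, ZMod.val_one] at *
    omega
  have hone : ∀ k : F, fr (1 : ZMod (2 * m + 1)) k = k * k := fun k => by
    rw [← zero_add (1 : ZMod (2 * m + 1)), ← fr_sq hF 0 hm, fr_zero]
  by_cases hr0 : r = 0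
  · subst hr0
    have hne : (m : ZMod (2 * m + 1)) + 1 ≠ 1 := fun e => hm0 (by linear_combination e)
    have := card_le_one_of_single hF (S := {(m : ZMod (2 * m + 1)) + 1, 1})
      (by rw [Finset.card_pair hne]; omega) hm (t := t) fun k hk => by
        rw [Finset.prod_pair hne, ← h k hk, ← fr_sq hF _ hm, zero_add, hone, fr_zero]
        ring
    rw [Finset.card_pair hne] at this
    omega
  by_cases hrm : r = m
  · subst hrm
    have h2 : (m : ZMod (2 * m + 1)) + 1 ≠ m + m := fun e => hm1' (by linear_combination -e)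
    have hc : ({(m : ZMod (2 * m + 1)) + 1, (m : ZMod (2 * m + 1)) + m, 0} : Finset (ZMod (2 * m + 1))).card = 3 :=
      Finset.card_eq_three.2 ⟨_, _, _, h2, hm1, hmm, rfl⟩
    have := card_le_one_of_single hF (S := {(m : ZMod (2 * m + 1)) + 1, (m : ZMod (2 * m + 1)) + m, 0}) (by omega) hm
      (t := t) fun k hk => by
        rw [Finset.prod_insert (by simp [h2, hm1]), Finset.prod_pair hmm, ← h k hk, ← fr_sq hF _ hm,
          fr_zero]
        ring
    omega
  by_cases hrs : r = (m : ZMod (2 * m + 1)) + 1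
  · subst hrs
    have h2 : (m : ZMod (2 * m + 1)) + 1 ≠ m := fun e => h10 (by linear_combination e)
    have h3 : (m : ZMod (2 * m + 1)) + 1 ≠ 1 := fun e => hm0 (by linear_combination e)
    have hc : ({(m : ZMod (2 * m + 1)) + 1, (m : ZMod (2 * m + 1)), 1} :
        Finset (ZMod (2 * m + 1))).card = 3 := Finset.card_eq_three.2 ⟨_, _, _, h2, h3, hm1', rfl⟩
    have := card_le_one_of_single hF
      (S := {(m : ZMod (2 * m + 1)) + 1, (m : ZMod (2 * m + 1)), 1}) (by omega) hm (t := t)
      fun k hk => by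
        rw [Finset.prod_insert (by simp [h2, h3]), Finset.prod_pair hm1', ← h k hk, hone,
          show (m : ZMod (2 * m + 1)) + 1 + m = 0 by linear_combination hs, fr_zero]
        ring
    omega
  have h1 : (m : ZMod (2 * m + 1)) ≠ r + m := fun e => hr0 (by linear_combination -e)
  have h2 : r + (m : ZMod (2 * m + 1)) ≠ r := fun e => hm0 (by linear_combination e)
  have h3 : r + (m : ZMod (2 * m + 1)) ≠ 0 := fun e => hrs (by linear_combination e - hs)
  have hc : ({(m : ZMod (2 * m + 1)), r + ↑m, r} : Finset (ZMod (2 * m + 1))).card = 3 :=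
    Finset.card_eq_three.2 ⟨_, _, _, h1, Ne.symm hrm, h2, rfl⟩
  have h0 : (0 : ZMod (2 * m + 1)) ∉ ({(m : ZMod (2 * m + 1)), r + ↑m, r} : Finset _) := by
    simp [Ne.symm hm0, Ne.symm h3, Ne.symm hr0]
  have hc4 := Finset.card_insert_of_notMem h0
  have := card_le_one_of_single hF
    (S := insert 0 ({(m : ZMod (2 * m + 1)), r + ↑m, r} : Finset _)) (by omega) hm (t := t)
    fun k hk => by
      rw [Finset.prod_insert h0, Finset.prod_insert (by simp [h1, Ne.symm hrm]), Finset.prod_pair h2,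
        ← h k hk, fr_zero]
      ring
  omega

end Cfsg.Agent.CNStruct80
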